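import Cfsg.Agent.Lib.Chevalley.Graded

/-!
Coefficient forms: for each set of fundamental roots a linear form vanishing exactly on its subsystem.
-/

set_option autoImplicit false

namespace Cfsg.Agent.Chevalley.Coef

open Cfsg.Lie Cfsg.Agent.Chevalley.Eval Cfsg.Agent.Chevalley.Table Cfsg.Agent.Chevalley.Check
  Cfsg.Agent.Chevalley.Cert Cfsg.Agent.Chevalley.Graded

/-- An entry of a list of lists. -/
noncomputable def entry (N : List (List ℤ)) (m j : ℕ) : ℤ :=
  (List.rec (fun _ => []) (fun a _ ih k => bif Nat.beq k 0 then a else ih (Nat.sub k 1)) N m : List ℤ).rec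
    (fun _ => 0) (fun a _ ih k => bif Nat.beq k 0 then a else ih (Nat.sub k 1)) j

/-- The value of the `m`-th form at a root. -/
noncomputable def formT (T : Tab) (N : List (List ℤ)) (m r : ℕ) : ℤ :=
  Nat.rec 0 (fun j ih => Int.add (Int.mul (entry N m j) (T.A j r)) ih) T.l

/-- The forms match the coefficients in sign and support. -/
noncomputable def coefChk (T : Tab) (N : List (List ℤ)) : Bool :=
  allR T.l fun m => allR T.n fun r =>
    (bif isZ (T.C r m) then isZ (formT T N m r) else !isZ (formT T N m r)) &&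
      (!iblt 0 (T.phi r) || isNN (formT T N m r))

variable {D : ChevalleyDatum} {T : Tab}

theorem exists_coefJ (hC : Certified D T) {N : List (List ℤ)} (h : coefChk T N = true) (J : Set ℕ) :
    ∃ a : ℕ → ℤ, ∀ r < D.nroots,
      (lin D a r = 0 ↔ D.InRootSub J r) ∧ (0 < T.phi r → 0 ≤ lin D a r) := by
  classical
  obtain ⟨S, hS⟩ : ∃ S, S = (Finset.range D.rank).filter fun m => m ∉ J := ⟨_, rfl⟩
  refine ⟨fun j => ∑ m ∈ S, entry N m j, ?_⟩
  have hlin : ∀ r < D.nroots, lin D (fun j => ∑ m ∈ S, entry N m j) r = ∑ m ∈ S, formT T N m r := by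
    intro r hr
    rw [lin, Finset.sum_congr rfl fun j (_ : j ∈ Finset.range D.rank) => Finset.sum_mul ..,
      Finset.sum_comm]
    refine Finset.sum_congr rfl fun m _ => ?_
    have key : ∀ k ≤ D.rank,
        (∑ j ∈ Finset.range k, entry N m j * D.cartan j r) =
          (Nat.rec 0 (fun j ih => Int.add (Int.mul (entry N m j) (T.A j r)) ih) k : ℤ) := by
      intro k
      induction k with
      | zero => intro _; simp
      | succ k ih =>
        intro hk
        rw [Finset.sum_range_succ, ih (by omega)]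
        show _ = entry N m k * T.A k r + _
        rw [hC.linked.A_eq k (by omega) r hr]
        exact add_comm _ _
    rw [key _ le_rfl, formT, hC.l_eq]
  have hm : ∀ m ∈ S, ∀ r < D.nroots,
      (formT T N m r = 0 ↔ cor D r m = 0) ∧ (0 < T.phi r → 0 ≤ formT T N m r) := by
    intro m hmS r hr
    have hml : m < D.rank := by
      rw [hS] at hmS; exact Finset.mem_range.1 (Finset.mem_filter.1 hmS).1
    have h1 := of_allR (of_allR h m (by rw [hC.l_eq]; exact hml)) r (by rw [hC.n_eq]; exact hr)
    simp only [Bool.and_eq_true, Bool.or_eq_true, Bool.not_eq_true', isNN_iff] at h1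
    have hc : T.C r m = cor D r m := hC.linked.C_eq r hr m hml
    refine ⟨?_, fun hp => h1.2.resolve_left fun hb => ?_⟩
    · rw [← hc]
      cases hz : isZ (T.C r m) with
      | true =>
        rw [hz, cond_true] at h1
        simp [(isZ_iff _).1 hz, (isZ_iff _).1 h1.1]
      | false =>
        rw [hz, cond_false, Bool.not_eq_true'] at h1
        have a1 : T.C r m ≠ 0 := fun e => by rw [(isZ_iff _).2 e] at hz; exact Bool.noConfusion hz
        have a2 : formT T N m r ≠ 0 := fun e => by
          rw [(isZ_iff _).2 e] at h1; exact Bool.noConfusion h1.1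
        simp [a1, a2]
    · rw [(iblt_iff _ _).2 hp] at hb
      exact Bool.noConfusion hb
  have hpos : ∀ r < D.nroots, 0 < T.phi r →
      (lin D (fun j => ∑ m ∈ S, entry N m j) r = 0 ↔ D.InRootSub J r) := by
    intro r hr hp
    rw [hlin r hr, Finset.sum_eq_zero_iff_of_nonneg fun m hmS => (hm m hmS r hr).2 hp]
    constructor
    · intro h0
      refine ⟨hr, fun i hi hiJ => ?_⟩
      have hiS : i ∈ S := by
        rw [hS]; exact Finset.mem_filter.2 ⟨Finset.mem_range.2 hi, hiJ⟩
      exact (hm i hiS r hr).1.1 (h0 i hiS)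
    · intro h0 m hmS
      refine (hm m hmS r hr).1.2 ?_
      rw [hS, Finset.mem_filter, Finset.mem_range] at hmS
      exact h0.2 m hmS.1 hmS.2
  intro r hr
  refine ⟨?_, fun hp => ?_⟩
  · rcases lt_or_gt_of_ne (hC.phi_ne_zero hr) with hn | hp
    · have h1 := hpos _ (hC.neg_lt hr) (by rw [hC.phi_neg hr]; omega)
      rw [lin_neg hC _ hr, neg_eq_zero] at h1
      rw [h1]
      have hcor : ∀ i < D.rank, (D.coroot.getD (D.neg r) #[]).getD i 0 = 0 ↔
          (D.coroot.getD r #[]).getD i 0 = 0 := fun i hi => by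
        rw [show (D.coroot.getD (D.neg r) #[]).getD i 0 = cor D (D.neg r) i from rfl,
          hC.cor_neg hr hi, neg_eq_zero]
      exact ⟨fun h2 => ⟨hr, fun i hi hiJ => (hcor i hi).1 (h2.2 i hi hiJ)⟩,
        fun h2 => ⟨hC.neg_lt hr, fun i hi hiJ => (hcor i hi).2 (h2.2 i hi hiJ)⟩⟩
    · exact hpos r hr hp
  · rw [hlin r hr]
    exact Finset.sum_nonneg fun m hmS => (hm m hmS r hr).2 hp

end Cfsg.Agent.Chevalley.Coef
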