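import Cfsg.Agent.Lib.Chevalley.Bruhat
import Cfsg.Agent.Lib.Chevalley.Coef

/-!
Standard parabolic subgroups and their Levi decomposition.
-/

set_option autoImplicit false

open scoped Matrix

namespace Cfsg.Agent.Chevalley.Parabolic

open Cfsg.Lie Cfsg.Agent.Chevalley.Eval Cfsg.Agent.Chevalley.Table Cfsg.Agent.Chevalley.Check
  Cfsg.Agent.Chevalley.Cert Cfsg.Agent.Chevalley.Relations
  Cfsg.Agent.Chevalley.Group Cfsg.Agent.Chevalley.Weight Cfsg.Agent.Chevalley.Unip
  Cfsg.Agent.Chevalley.Borel Cfsg.Agent.Chevalley.Weyl Cfsg.Agent.Chevalley.Bruhat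
  Cfsg.Agent.Chevalley.Graded Cfsg.Agent.Chevalley.Coef

variable {D : ChevalleyDatum} {F : Type*} [Field F] {T : Tab}

/-- The subgroup generated by `H` and the root subgroups of the positive roots and of the subsystem. -/
abbrev qSub (D : ChevalleyDatum) (F : Type*) [Field F] (J : Set ℕ) : Subgroup (GL D.Idx F) :=
  D.diagonalSubgroup F ⊔ Subgroup.closure {g : GL D.Idx F | ∃ (r : ℕ) (t : F),
    (D.IsPosRoot r ∨ D.InRootSub J r) ∧ (g : Matrix D.Idx D.Idx F) = D.x F r t}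

variable (hC : Certified D T)
include hC

theorem cor_eq {r i : ℕ} : (D.coroot.getD r #[]).getD i 0 = cor D r i := rfl

theorem simple_inRootSub {J : Set ℕ} {j : ℕ} (hj : j < D.rank) (hjJ : j ∈ J) :
    D.InRootSub J (D.simple j) ∧ D.InRootSub J (D.neg (D.simple j)) := by
  have h : ∀ i < D.rank, i ∉ J → cor D (D.simple j) i = 0 := fun i hi hiJ => by
    rw [hC.cor_simple hj hi, if_neg]
    rintro rfl; exact hiJ hjJ
  refine ⟨⟨hC.simple_lt hj, fun i hi hiJ => h i hi hiJ⟩,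
    ⟨hC.neg_lt (hC.simple_lt hj), fun i hi hiJ => ?_⟩⟩
  rw [cor_eq hC, hC.cor_neg (hC.simple_lt hj) hi, h i hi hiJ, neg_zero]

theorem descend_inRootSub {J : Set ℕ} {r : ℕ} (hr : D.InRootSub J r) (hp : 0 < T.phi r) :
    ∃ j < D.rank, j ∈ J ∧ (r = D.simple j ∨ (D.reflectRoot j r < r ∧
      0 < T.phi (D.reflectRoot j r) ∧ D.InRootSub J (D.reflectRoot j r))) := by
  obtain ⟨j, hj, hpos⟩ : ∃ j ∈ Finset.range D.rank, 0 < cor D r j * D.cartan j r := by
    by_contra hcon
    simp only [not_exists, not_and, not_lt] at hcon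
    have h1 : pair D r r ≤ 0 := Finset.sum_nonpos hcon
    rw [pair_self hC r hr.1] at h1
    omega
  rw [Finset.mem_range] at hj
  have hcor : 0 ≤ cor D r j := by
    have h := ((hC.posRoot_iff hr.1).2 hp).2
    rw [← coroot_getElem hC (r := r) (by rw [coroot_length hC hr.1]; exact hj)]
    exact h _ (List.getElem_mem _)
  have hc0 : 0 < cor D r j := lt_of_le_of_ne hcor fun e => by rw [← e, zero_mul] at hpos; omega
  have hA : 0 < D.cartan j r := pos_of_mul_pos_right hpos hcor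
  have hjJ : j ∈ J := by
    by_contra hjJ
    have := hr.2 j hj hjJ
    rw [cor_eq hC] at this
    omega
  refine ⟨j, hj, hjJ, (em (r = D.simple j)).imp_right fun hne => ?_⟩
  have hp' := hC.reflect_pos hj hr.1 hne hp
  refine ⟨?_, hp', hC.reflect_lt hj hr.1, fun i hi hiJ => ?_⟩
  · refine (hC.phi_lt_iff (hC.reflect_lt hj hr.1) hr.1).1 ?_
    rw [hC.phi_reflect hj hr.1]
    have := mul_pos hA (hC.phi_simple hj)
    omega
  · rw [cor_eq hC, hC.cor_reflect hj hi hr.1, if_neg fun (e : i = j) => hiJ (e ▸ hjJ)]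
    exact hr.2 i hi hiJ

theorem ng_mem_parabolic {J : Set ℕ} {j : ℕ} (hj : j < D.rank) (hjJ : j ∈ J) :
    ng hC (D.simple j) (1 : F) ∈ D.parabolicSubgroup F J :=
  Subgroup.mem_sup_right (Subgroup.subset_closure ⟨j, hjJ, hj, coe_ng hC _ _⟩)

theorem xg_neg_mem {J : Set ℕ} : ∀ r, D.InRootSub J r → 0 < T.phi r → ∀ t : F,
    xg hC (D.neg r) t ∈ D.parabolicSubgroup F J := by
  intro r
  induction r using Nat.strong_induction_on with
  | _ r ih =>
    intro hr hp t
    obtain ⟨j, hj, hjJ, h⟩ := descend_inRootSub hC hr hp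
    rcases h with rfl | ⟨hlt, hp', hJ'⟩
    · obtain ⟨u, hu⟩ := neg_xg_mem hC hj t
      rw [hu]
      exact mul_mem (mul_mem (ng_mem_parabolic hC hj hjJ) (Subgroup.mem_sup_left (Subgroup.mem_sup_left
        (xg_mem_U hC (hC.simple_lt hj) (hC.phi_simple hj) u)))) (inv_mem (ng_mem_parabolic hC hj hjJ))
    · have hr' := hC.neg_lt hJ'.1
      obtain ⟨η, hη, he⟩ := eta_field (F := F) (i := j) (r := D.neg (D.reflectRoot j r)) hC
      have h1 := ng_conj_x (F := F) hC hj hr' (η⁻¹ * t)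
      rw [hC.reflect_neg hj (hC.reflect_lt hj hr.1), hC.reflect_reflect hj hr.1, ← he,
        mul_inv_cancel_left₀ hη] at h1
      rw [← h1]
      exact mul_mem (mul_mem (ng_mem_parabolic hC hj hjJ) (ih _ hlt hJ' hp' _))
        (inv_mem (ng_mem_parabolic hC hj hjJ))

theorem qSub_le (J : Set ℕ) : qSub D F J ≤ D.parabolicSubgroup F J := by
  refine sup_le (le_sup_right.trans le_sup_left) ((Subgroup.closure_le _).2 ?_)
  rintro g ⟨r, t, h, hg⟩
  rw [eq_xg hC hg]
  by_cases hp : 0 < T.phi r ∧ r < D.nroots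
  · exact Subgroup.mem_sup_left (Subgroup.mem_sup_left (xg_mem_U hC hp.2 hp.1 t))
  rcases h with h | h
  · exact absurd ⟨(hC.posRoot_iff h.1).1 h, h.1⟩ hp
  · have hneg : T.phi r < 0 := by
      have := hC.phi_ne_zero h.1
      rcases not_and_or.1 hp with h1 | h1
      · omega
      · exact absurd h.1 h1
    rw [← hC.neg_neg h.1]
    refine xg_neg_mem hC (D.neg r) ⟨hC.neg_lt h.1, fun i hi hiJ => ?_⟩
      (by rw [hC.phi_neg h.1]; omega) t
    rw [cor_eq hC, hC.cor_neg h.1 hi, neg_eq_zero]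
    exact h.2 i hi hiJ

theorem parabolic_eq (J : Set ℕ) : D.parabolicSubgroup F J = qSub D F J := by
  refine le_antisymm (sup_le (sup_le ?_ le_sup_left) ((Subgroup.closure_le _).2 ?_)) (qSub_le hC J)
  · exact le_sup_of_le_right (Subgroup.closure_mono fun g ⟨r, t, hr, hg⟩ => ⟨r, t, Or.inl hr, hg⟩)
  · rintro g ⟨j, hjJ, hj, hg⟩
    rw [show g = ng hC (D.simple j) 1 from Units.ext (hg.trans (coe_ng hC _ _).symm)]
    have hx : ∀ (r : ℕ) (t : F), D.InRootSub J r → xg hC r t ∈ qSub D F J := fun r t hr =>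
      Subgroup.mem_sup_right (Subgroup.subset_closure ⟨r, t, Or.inr hr, coe_xg hC r t⟩)
    obtain ⟨h1, h2⟩ := simple_inRootSub hC hj hjJ
    exact mul_mem (mul_mem (hx _ _ h1) (hx _ _ h2)) (hx _ _ h1)

theorem ng_mem_levi {J : Set ℕ} {j : ℕ} (hj : j < D.rank) (hjJ : j ∈ J) :
    ng hC (D.simple j) (1 : F) ∈ D.leviSubgroup F J := by
  have hx : ∀ (r : ℕ) (t : F), D.InRootSub J r → xg hC r t ∈ D.leviSubgroup F J := fun r t hr =>
    Subgroup.mem_sup_right (Subgroup.subset_closure ⟨r, t, hr, coe_xg hC r t⟩)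
  obtain ⟨h1, h2⟩ := simple_inRootSub hC hj hjJ
  exact mul_mem (mul_mem (hx _ _ h1) (hx _ _ h2)) (hx _ _ h1)

theorem radical_sup_levi (J : Set ℕ) :
    D.unipotentRadical F J ⊔ D.leviSubgroup F J = D.parabolicSubgroup F J := by
  refine le_antisymm (sup_le ?_ ?_) (sup_le (sup_le ?_ ?_) ?_)
  · exact le_sup_of_le_left (le_sup_of_le_left
      (Subgroup.closure_mono fun g ⟨r, t, hr, _, hg⟩ => ⟨r, t, hr, hg⟩))
  · rw [parabolic_eq hC]
    refine sup_le_sup_left (Subgroup.closure_mono ?_) _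
    rintro g ⟨r, t, hr, hg⟩
    exact ⟨r, t, Or.inr hr, hg⟩
  · refine (Subgroup.closure_le _).2 ?_
    rintro g ⟨r, t, hr, hg⟩
    by_cases hJ : D.InRootSub J r
    · exact Subgroup.mem_sup_right (Subgroup.mem_sup_right (Subgroup.subset_closure ⟨r, t, hJ, hg⟩))
    · exact Subgroup.mem_sup_left (Subgroup.subset_closure ⟨r, t, hr, hJ, hg⟩)
  · exact le_sup_left.trans le_sup_right
  · refine (Subgroup.closure_le _).2 ?_
    rintro g ⟨j, hjJ, hj, hg⟩
    rw [show g = ng hC (D.simple j) 1 from Units.ext (hg.trans (coe_ng hC _ _).symm)]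
    exact Subgroup.mem_sup_right (ng_mem_levi hC hj hjJ)

variable {N : List (List ℤ)} (hN : coefChk T N = true)
include hN

theorem normalizes (J : Set ℕ) :
    D.parabolicSubgroup F J ≤ Subgroup.normalizer (D.unipotentRadical F J : Set (GL D.Idx F)) := by
  obtain ⟨a, ha⟩ := exists_coefJ hC hN J
  have hout : ∀ {k : ℕ}, k < D.nroots → 0 < T.phi k → 0 < lin D a k →
      ∀ t : F, xg hC k t ∈ D.unipotentRadical F J := fun {k} hk hp hl t =>
    Subgroup.subset_closure ⟨k, t, (hC.posRoot_iff hk).2 hp,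
      fun h => by have := (ha k hk).1.2 h; omega, coe_xg hC k t⟩
  have hlpos : ∀ {s : ℕ}, D.IsPosRoot s → ¬ D.InRootSub J s → 0 < lin D a s := fun {s} hs hsJ => by
    have h1 := (ha s hs.1).2 ((hC.posRoot_iff hs.1).1 hs)
    have h2 : lin D a s ≠ 0 := fun e => hsJ ((ha s hs.1).1.1 e)
    omega
  have hUJ : D.unipotentRadical F J = Subgroup.closure {g : GL D.Idx F | ∃ (r : ℕ) (t : F),
      r < D.nroots ∧ (0 < T.phi r ∧ ¬ D.InRootSub J r) ∧ g = xg hC r t} :=
    le_antisymm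
      (Subgroup.closure_mono fun g ⟨r, t, hr, hJ, hg⟩ =>
        ⟨r, t, hr.1, ⟨(hC.posRoot_iff hr.1).1 hr, hJ⟩, eq_xg hC hg⟩)
      (Subgroup.closure_mono fun g ⟨r, t, hr, ⟨hp, hJ⟩, hg⟩ =>
        ⟨r, t, (hC.posRoot_iff hr).2 hp, hJ, by rw [hg, coe_xg]⟩)
  refine sup_le (sup_le ?_ ?_) ?_
  · rw [U_eq_closure hC, Subgroup.closure_le]
    rintro _ ⟨r, t, hr, hp, rfl⟩
    have key : ∀ t : F, ∀ x ∈ {g : GL D.Idx F | ∃ (r : ℕ) (t : F), D.IsPosRoot r ∧
        ¬ D.InRootSub J r ∧ (g : Matrix D.Idx D.Idx F) = D.x F r t},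
        (xg hC r t)⁻¹ * x * xg hC r t ∈ D.unipotentRadical F J := by
      rintro t x ⟨s, u, hs, hsJ, hx⟩
      rw [eq_xg hC hx]
      have hps := (hC.posRoot_iff hs.1).1 hs
      have hls := hlpos hs hsJ
      by_cases hsr : s = r
      · rw [hsr, xg_inv hC, ← xg_add hC, ← xg_add hC, add_comm (-t) u, neg_add_cancel_right]
        exact hout hr hp (hsr ▸ hls) u
      have hsn : s ≠ D.neg r := by
        rintro rfl
        rw [hC.phi_neg hr] at hps
        omega
      rw [mul_assoc, xg_comm hC hr hs.1 hsr hsn, ← mul_assoc, ← mul_assoc, inv_mul_cancel, one_mul]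
      refine mul_mem (hout hs.1 hps hls u) (list_prod_mem fun g hg => ?_)
      obtain ⟨q, hq, rfl⟩ := List.mem_map.1 hg
      simp only [ChevalleyDatum.commWord, List.mem_map] at hq
      obtain ⟨c, hc, rfl⟩ := hq
      obtain ⟨hk, i, j, hi, hj, hphi⟩ := commTerms_phi hC hr hs.1 c hc
      obtain ⟨i', j', hi', hj', hlin⟩ := lin_commTerms hC a hr hs.1 c hc
      have h1 : (1 : ℤ) ≤ i := by exact_mod_cast hi
      have h2 : (1 : ℤ) ≤ j := by exact_mod_cast hj
      have h2' : (1 : ℤ) ≤ j' := by exact_mod_cast hj'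
      have h3 := (ha r hr).2 hp
      refine hout hk ?_ ?_ _
      · rw [hphi]; positivity
      · rw [hlin]
        have : (0 : ℤ) ≤ i' * lin D a r := mul_nonneg (by positivity) h3
        have : (0 : ℤ) < j' * lin D a s := mul_pos (by omega) hls
        omega
    refine mem_normalizer_of_conj (fun x hx => ?_) (fun x hx => key t x hx)
    have := key (-t) x hx
    rwa [← xg_inv hC, inv_inv] at this
  · rw [hUJ]; exact H_le_normalizer hC
  · rw [Subgroup.closure_le]
    rintro g ⟨j, hjJ, hj, hg⟩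
    rw [show g = ng hC (D.simple j) 1 from Units.ext (hg.trans (coe_ng hC _ _).symm)]
    have hl0 : lin D a (D.simple j) = 0 :=
      (ha _ (hC.simple_lt hj)).1.2 (simple_inRootSub hC hj hjJ).1
    have key : ∀ x ∈ {g : GL D.Idx F | ∃ (r : ℕ) (t : F), D.IsPosRoot r ∧
        ¬ D.InRootSub J r ∧ (g : Matrix D.Idx D.Idx F) = D.x F r t},
        ∃ (r : ℕ) (t : F), r < D.nroots ∧ 0 < T.phi r ∧ 0 < lin D a r ∧
          ng hC (D.simple j) 1 * x * (ng hC (D.simple j) (1 : F))⁻¹ = xg hC r t := by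
      rintro x ⟨s, u, hs, hsJ, hx⟩
      rw [eq_xg hC hx]
      refine ⟨_, _, hC.reflect_lt hj hs.1, hC.reflect_pos hj hs.1 ?_ ((hC.posRoot_iff hs.1).1 hs), ?_,
        ng_conj_x hC hj hs.1 u⟩
      · rintro rfl; exact hsJ (simple_inRootSub hC hj hjJ).1
      · rw [lin_reflect hC a hj hs.1, hl0, mul_zero, sub_zero]
        exact hlpos hs hsJ
    refine mem_normalizer_of_conj (fun x hx => ?_) fun x hx => ?_
    · obtain ⟨r, t, hr, hp, hl, e⟩ := key x hx
      rw [e]
      exact hout hr hp hl t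
    · obtain ⟨c, hc⟩ := ng_sq (F := F) hC hj
      obtain ⟨r, t, hr, hp, hl, e⟩ := key x hx
      have e2 : (ng hC (D.simple j) (1 : F))⁻¹ * x * ng hC (D.simple j) 1 =
          tor D c⁻¹ * xg hC r t * (tor D c⁻¹)⁻¹ := by
        rw [← tor_inv, inv_inv, ← e, ← hc]
        group
      rw [e2, tor_conj_x hC _ _ _ hr]
      exact hout hr hp hl _

theorem radical_inf_levi (J : Set ℕ) : D.unipotentRadical F J ⊓ D.leviSubgroup F J = ⊥ := by
  obtain ⟨a, ha⟩ := exists_coefJ hC hN J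
  rw [eq_bot_iff]
  rintro g ⟨hgU, hgL⟩
  rw [Subgroup.mem_bot]
  have hU : D.unipotentRadical F J ≤ UT (deg D a) 1 zero_le_one := by
    rw [ChevalleyDatum.unipotentRadical, Subgroup.closure_le]
    rintro x ⟨r, t, hr, hJ, hx⟩
    rw [eq_xg hC hx]
    have h1 := (ha r hr.1).2 ((hC.posRoot_iff hr.1).1 hr)
    have h2 : lin D a r ≠ 0 := fun e => hJ ((ha r hr.1).1.1 e)
    exact xg_mem_UT_deg hC a hr.1 (by omega) t
  have hL : D.leviSubgroup F J ≤ homogSubgroup (D := D) (F := F) a := by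
    refine sup_le (H_le_homog hC a) ((Subgroup.closure_le _).2 ?_)
    rintro x ⟨r, t, hr, hx⟩
    rw [eq_xg hC hx]
    exact xg_mem_homog hC a hr.1 ((ha r hr.1).1.2 hr) t
  exact homog_inf_UT hC a (hL hgL) (hU hgU)

theorem normalizer_eq (J : Set ℕ) (hJ : ∀ j ∈ J, j < D.rank) :
    Subgroup.normalizer (D.unipotentRadical F J : Set (GL D.Idx F)) ⊓ D.group F =
      D.parabolicSubgroup F J := by
  have hPG : D.parabolicSubgroup F J ≤ D.group F := sup_le (B_le_group hC) ((Subgroup.closure_le _).2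
    fun g ⟨j, _, hj, hg⟩ => by
      rw [show g = ng hC (D.simple j) 1 from Units.ext (hg.trans (coe_ng hC _ _).symm)]
      exact N_le_group hC (ng_mem_N hC hj))
  refine le_antisymm ?_ (le_inf (normalizes hC hN J) hPG)
  rintro g ⟨hgN, hgG⟩
  let M : Subgroup (D.group F) :=
    (Subgroup.normalizer (D.unipotentRadical F J : Set (GL D.Idx F))).subgroupOf (D.group F)
  have hM : (bn (F := F) hC).B ≤ M := fun b hb =>
    normalizes hC hN J (Subgroup.mem_sup_left hb)
  have hg : (⟨g, hgG⟩ : D.group F) ∈ M := hgN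
  rw [Cfsg.Agent.BN.Parabolic.le_parabolic_mem hM] at hg
  have hle : (bn (F := F) hC).parabolic {s | s ∈ (bn (F := F) hC).S ∧ s ∈ M} ≤
      (D.parabolicSubgroup F J).subgroupOf (D.group F) := by
    refine sup_le (fun b hb => Subgroup.mem_sup_left hb) ((Subgroup.closure_le _).2 ?_)
    rintro s ⟨⟨k, hk, hs⟩, hsM⟩
    show (s : GL D.Idx F) ∈ D.parabolicSubgroup F J
    rw [hs]
    by_cases hkJ : k ∈ J
    · exact ng_mem_parabolic hC hk hkJ
    exfalso
    have hsN : ng hC (D.simple k) (1 : F) ∈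
        Subgroup.normalizer (D.unipotentRadical F J : Set (GL D.Idx F)) := hs ▸ hsM
    have hsimp := hC.simple_lt hk
    have hnot : ¬ D.InRootSub J (D.simple k) := fun h => by
      have := h.2 k hk hkJ
      rw [cor_eq hC, hC.cor_simple hk hk, if_pos rfl] at this
      omega
    have hx : xg hC (D.simple k) (1 : F) ∈ D.unipotentRadical F J :=
      Subgroup.subset_closure ⟨_, _, (hC.posRoot_iff hsimp).2 (hC.phi_simple hk), hnot, coe_xg hC _ _⟩
    have h1 := (Subgroup.mem_normalizer_iff.1 hsN _).1 hx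
    obtain ⟨η, hη, he⟩ := eta_field (F := F) (i := k) (r := D.simple k) hC
    rw [ng_conj_x hC hk hsimp, hC.reflect_simple hk, ← he] at h1
    have h2 : xg hC (D.neg (D.simple k)) (η * 1) ∈ D.posUnipotent F :=
      Subgroup.closure_mono (by rintro x ⟨r, t, hr, -, hg⟩; exact ⟨r, t, hr, hg⟩) h1
    have h3 := U_inf_V hC h2 (xg_mem_V hC (hC.neg_lt hsimp)
      (by rw [hC.phi_neg hsimp]; have := hC.phi_simple hk; omega) _)
    rw [← xg_zero hC (D.neg (D.simple k))] at h3
    exact mul_ne_zero hη one_ne_zero (xg_injective hC (hC.neg_lt hsimp) h3)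
  exact hle hg

end Cfsg.Agent.Chevalley.Parabolic
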