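import Cfsg.Agent.Lib.Chevalley.Borel

/-!
The order of `U` and the solvability of `B`.
-/

set_option autoImplicit false

open scoped Matrix

namespace Cfsg.Agent.Chevalley.Count

open Cfsg.Lie Cfsg.Agent.Chevalley.Table Cfsg.Agent.Chevalley.Check
  Cfsg.Agent.Chevalley.Cert Cfsg.Agent.Chevalley.Group Cfsg.Agent.Chevalley.Unip
  Cfsg.Agent.Chevalley.Borel

variable {D : ChevalleyDatum} {F : Type*} [Field F] {T : Tab}
variable (hC : Certified D T)
include hC

theorem card_prodX {L : List ℕ} (hs : L.Pairwise (· < ·))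
    (hL : ∀ r ∈ L, r < D.nroots ∧ 0 < T.phi r) {K : Subgroup (GL D.Idx F)}
    (hmem : ∀ t : ℕ → F, prodX hC L t ∈ K) (hsurj : ∀ g ∈ K, ∃ t : ℕ → F, g = prodX hC L t) :
    Nat.card K = Nat.card F ^ L.length := by
  classical
  let ext : (L.toFinset → F) → ℕ → F := fun t r => if h : r ∈ L.toFinset then t ⟨r, h⟩ else 0
  have hb : Function.Bijective (fun t : L.toFinset → F => (⟨prodX hC L (ext t), hmem _⟩ : K)) := by
    constructor
    · intro t t' h
      funext ⟨r, hr⟩
      have := prodX_inj hC hs hL (congrArg Subtype.val h) r (List.mem_toFinset.1 hr)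
      simp only [ext, dif_pos hr] at this
      exact this
    · rintro ⟨g, hg⟩
      obtain ⟨t, rfl⟩ := hsurj g hg
      exact ⟨fun r => t r, Subtype.ext (prodX_congr hC fun r hr => dif_pos (List.mem_toFinset.2 hr))⟩
  rw [← Nat.card_congr (Equiv.ofBijective _ hb), Nat.card_fun, Nat.card_eq_finsetCard, List.toFinset_card_of_nodup (hs.imp ne_of_lt)]

theorem card_U : Nat.card (D.posUnipotent F) = Nat.card F ^ D.posRoots.length :=
  card_prodX hC posRoots_sorted (fun _ hr => (mem_posRoots hC).1 hr)
    (fun t => by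
      rw [← Uge_zero hC]
      exact prodX_mem hC fun r hr =>
        ⟨((mem_posRoots hC).1 hr).1, ((mem_posRoots hC).1 hr).2, Nat.zero_le r⟩)
    fun g hg => exists_prodX hC hg

theorem card_posRoots : D.posRoots.length = D.nroots / 2 := by
  classical
  have hnd : D.posRoots.Nodup := posRoots_sorted.imp ne_of_lt
  rw [← List.toFinset_card_of_nodup hnd]
  have h1 : D.posRoots.toFinset = (Finset.range D.nroots).filter fun r => 0 < T.phi r := by
    ext r; simp [mem_posRoots hC]
  have h2 : ((Finset.range D.nroots).filter fun r => 0 < T.phi r).card =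
      ((Finset.range D.nroots).filter fun r => ¬ 0 < T.phi r).card := by
    refine Finset.card_nbij' D.neg D.neg ?_ ?_ ?_ ?_ <;>
      intro r hr <;> simp only [Finset.mem_filter, Finset.mem_range, Finset.coe_filter, Set.mem_setOf_eq] at hr ⊢
    · exact ⟨hC.neg_lt hr.1, by rw [hC.phi_neg hr.1]; omega⟩
    · refine ⟨hC.neg_lt hr.1, ?_⟩
      have := hC.phi_ne_zero hr.1
      rw [hC.phi_neg hr.1]; omega
    · exact hC.neg_neg hr.1
    · exact hC.neg_neg hr.1
  have h3 := Finset.card_filter_add_card_filter_not (s := Finset.range D.nroots)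
    (fun r => 0 < T.phi r)
  rw [Finset.card_range] at h3
  rw [h1]
  omega

theorem B_isSolvable : Group.IsSolvable (D.borelSubgroup F) := by
  haveI hUn : ((D.posUnipotent F).subgroupOf (D.borelSubgroup F)).Normal := by
    rw [← Subgroup.normalizer_eq_top_iff, eq_top_iff]
    intro b _
    obtain ⟨u, hu, h, hh, hb⟩ := (mem_B_iff hC).1 b.2
    have hn : (b : GL D.Idx F) ∈ Subgroup.normalizer (D.posUnipotent F : Set (GL D.Idx F)) :=
      hb ▸ mul_mem (Subgroup.le_normalizer hu) (H_normalizes_U hC hh)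
    rw [Subgroup.mem_normalizer_iff] at hn ⊢
    intro g
    rw [Subgroup.mem_subgroupOf, Subgroup.mem_subgroupOf]
    exact hn g
  haveI : Group.IsNilpotent (D.posUnipotent F) := U_isNilpotent hC
  haveI hU : Group.IsSolvable ((D.posUnipotent F).subgroupOf (D.borelSubgroup F)) :=
    Group.isSolvable_of_isSolvable_injective
      (f := (Subgroup.subgroupOfEquivOfLe (le_sup_left : D.posUnipotent F ≤ D.borelSubgroup F)).toMonoidHom)
      (MulEquiv.injective _)
  haveI hQ : Group.IsSolvable
      (D.borelSubgroup F ⧸ (D.posUnipotent F).subgroupOf (D.borelSubgroup F)) := by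
    refine Group.isSolvable_of_comm ?_
    intro x y
    obtain ⟨a, rfl⟩ := QuotientGroup.mk'_surjective _ x
    obtain ⟨b, rfl⟩ := QuotientGroup.mk'_surjective _ y
    obtain ⟨u, hu, h, hh, ha⟩ := (mem_B_iff hC).1 a.2
    obtain ⟨v, hv, k, hk, hb⟩ := (mem_B_iff hC).1 b.2
    have hhB : h ∈ D.borelSubgroup F := Subgroup.mem_sup_right hh
    have hkB : k ∈ D.borelSubgroup F := Subgroup.mem_sup_right hk
    have hn : ∀ {h}, h ∈ D.diagonalSubgroup F → ∀ {u}, u ∈ D.posUnipotent F →
        h⁻¹ * u * h ∈ D.posUnipotent F := by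
      intro h hh u hu
      simpa using (Subgroup.mem_normalizer_iff.1 (H_normalizes_U hC (inv_mem hh)) u).1 hu
    have hq : ∀ {a : D.borelSubgroup F} {u h : GL D.Idx F}, u ∈ D.posUnipotent F →
        h ∈ D.diagonalSubgroup F → (hB : h ∈ D.borelSubgroup F) → (a : GL D.Idx F) = u * h →
        QuotientGroup.mk' ((D.posUnipotent F).subgroupOf (D.borelSubgroup F)) a =
          QuotientGroup.mk' _ ⟨h, hB⟩ := by
      intro a u h hu hh hB ha
      rw [QuotientGroup.mk'_apply, QuotientGroup.mk'_apply, QuotientGroup.eq, Subgroup.mem_subgroupOf]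
      simp only [Subgroup.coe_mul, Subgroup.coe_inv, ha, mul_inv_rev]
      exact hn hh (inv_mem hu)
    rw [hq hu hh hhB ha, hq hv hk hkB hb, ← map_mul, ← map_mul]
    exact congrArg _ (Subtype.ext (H_comm hC hh hk))
  exact Group.isSolvable_of_ker_le_range ((D.posUnipotent F).subgroupOf (D.borelSubgroup F)).subtype
    (QuotientGroup.mk' ((D.posUnipotent F).subgroupOf (D.borelSubgroup F)))
    (by rw [QuotientGroup.ker_mk', Subgroup.range_subtype])

end Cfsg.Agent.Chevalley.Count
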