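import Cfsg.Agent.Lib.Chevalley.Bruhat

/-!
The Bruhat normal form and conjugacy in the torus.
-/

set_option autoImplicit false

open scoped Matrix

namespace Cfsg.Agent.Chevalley.NormalForm

open Cfsg.Lie Cfsg.Agent.Chevalley.Table Cfsg.Agent.Chevalley.Check
  Cfsg.Agent.Chevalley.Cert Cfsg.Agent.Chevalley.Group Cfsg.Agent.Chevalley.Weight
  Cfsg.Agent.Chevalley.Unip Cfsg.Agent.Chevalley.Borel Cfsg.Agent.Chevalley.Weyl
  Cfsg.Agent.Chevalley.Bruhat Cfsg.Agent.BN.Basic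

variable {D : ChevalleyDatum} {F : Type*} [Field F] {T : Tab}

/-- The subgroup `U_n^-`, as it is stated. -/
abbrev Uminus (D : ChevalleyDatum) (F : Type*) [Field F] (n : GL D.Idx F) : Subgroup (GL D.Idx F) :=
  Subgroup.closure {x : GL D.Idx F | ∃ (r : ℕ) (t : F), D.IsPosRoot r ∧
    (D.rootSubgroup F r).map (MulAut.conj n).toMonoidHom ≤ D.negUnipotent F ∧
    (x : Matrix D.Idx D.Idx F) = D.x F r t}

/-- The positive roots that a word makes negative. -/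
noncomputable def invList (D : ChevalleyDatum) (T : Tab) (L : List ℕ) : List ℕ :=
  D.posRoots.filter fun r => decide (T.phi (wL D L r) < 0)

variable (hC : Certified D T)
include hC

theorem mem_invList {L : List ℕ} {r : ℕ} :
    r ∈ invList D T L ↔ r < D.nroots ∧ 0 < T.phi r ∧ T.phi (wL D L r) < 0 := by
  rw [invList, List.mem_filter, mem_posRoots hC, decide_eq_true_eq, and_assoc]

theorem conj_xg {L : List ℕ} (hL : ∀ i ∈ L, i < D.rank) (c : ℕ → Fˣ) {r : ℕ}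
    (hr : r < D.nroots) :
    ∃ η : F, η ≠ 0 ∧ ∀ t : F, tor D c * nL hC F L * xg hC r t * (tor D c * nL hC F L)⁻¹ =
      xg hC (wL D L r) (η * t) := by
  obtain ⟨η, hη, e⟩ := nL_conj_x (F := F) hC hL hr
  refine ⟨torChar D c (wL D L r) * η, mul_ne_zero (Units.ne_zero _) hη, fun t => ?_⟩
  rw [show tor D c * nL hC F L * xg hC r t * (tor D c * nL hC F L)⁻¹ =
    tor D c * (nL hC F L * xg hC r t * (nL hC F L)⁻¹) * (tor D c)⁻¹ by group, e,
    tor_conj_x hC _ _ _ (wL_lt hC hL hr), mul_assoc]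

theorem map_le_V_iff {L : List ℕ} (hL : ∀ i ∈ L, i < D.rank) (c : ℕ → Fˣ) {r : ℕ}
    (hr : r < D.nroots) :
    (D.rootSubgroup F r).map (MulAut.conj (tor D c * nL hC F L)).toMonoidHom ≤ D.negUnipotent F ↔
      T.phi (wL D L r) < 0 := by
  obtain ⟨η, hη, e⟩ := conj_xg (F := F) hC hL c hr
  have hwr := wL_lt hC hL hr
  constructor
  · intro h
    by_contra hcon
    have hpos : 0 < T.phi (wL D L r) := by have := hC.phi_ne_zero hwr; omega
    have h1 : xg hC (wL D L r) (η * 1) ∈ D.negUnipotent F := by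
      rw [← e]
      exact h ⟨_, (mem_rootSubgroup hC).2 ⟨1, rfl⟩, rfl⟩
    have h2 := U_inf_V hC (xg_mem_U hC hwr hpos _) h1
    rw [← xg_zero hC (wL D L r)] at h2
    exact mul_ne_zero hη one_ne_zero (xg_injective hC hwr h2)
  · rintro h _ ⟨x, hx, rfl⟩
    obtain ⟨t, rfl⟩ := (mem_rootSubgroup hC).1 hx
    show tor D c * nL hC F L * xg hC r t * (tor D c * nL hC F L)⁻¹ ∈ D.negUnipotent F
    rw [e]
    exact xg_mem_V hC hwr h _

theorem Uminus_eq {L : List ℕ} (hL : ∀ i ∈ L, i < D.rank) (c : ℕ → Fˣ) :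
    Uminus D F (tor D c * nL hC F L) = Subgroup.closure {g : GL D.Idx F | ∃ (r : ℕ) (t : F),
      r ∈ invList D T L ∧ g = xg hC r t} := by
  refine le_antisymm (Subgroup.closure_mono ?_) (Subgroup.closure_mono ?_)
  · rintro g ⟨r, t, hr, hmap, hg⟩
    exact ⟨r, t, (mem_invList hC).2 ⟨hr.1, (hC.posRoot_iff hr.1).1 hr,
      (map_le_V_iff hC hL c hr.1).1 hmap⟩, eq_xg hC hg⟩
  · rintro g ⟨r, t, hr, rfl⟩
    obtain ⟨h1, h2, h3⟩ := (mem_invList hC).1 hr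
    exact ⟨r, t, (hC.posRoot_iff h1).2 h2, (map_le_V_iff hC hL c h1).2 h3, rfl⟩

theorem Uminus_le_U (n : GL D.Idx F) : Uminus D F n ≤ D.posUnipotent F :=
  Subgroup.closure_mono fun _ ⟨r, t, hr, _, hg⟩ => ⟨r, t, hr, hg⟩

theorem conj_Uminus {n : GL D.Idx F} {u : GL D.Idx F} (hu : u ∈ Uminus D F n) :
    n * u * n⁻¹ ∈ D.negUnipotent F := by
  have : Uminus D F n ≤ (D.negUnipotent F).comap (MulAut.conj n).toMonoidHom := by
    refine (Subgroup.closure_le _).2 ?_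
    rintro x ⟨r, t, _, hmap, hx⟩
    exact hmap ⟨x, Subgroup.subset_closure ⟨t, hx⟩, rfl⟩
  exact this hu

/-- `n = tor c · n_L`: every element of `U` is the product of a part `n` keeps in `U` and a part in
`U_n^-`. -/
theorem U_decomp {L : List ℕ} (hL : ∀ i ∈ L, i < D.rank) (c : ℕ → Fˣ) {u : GL D.Idx F}
    (hu : u ∈ D.posUnipotent F) : ∃ v w : GL D.Idx F,
      tor D c * nL hC F L * v * (tor D c * nL hC F L)⁻¹ ∈ D.posUnipotent F ∧
        w ∈ Uminus D F (tor D c * nL hC F L) ∧ u = v * w := by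
  classical
  rw [← Uge_zero hC] at hu
  obtain ⟨f, hf⟩ := split_decomp hC (fun r => decide (0 < T.phi (wL D L r))) 0 u hu
  refine ⟨_, _, ?_, ?_, hf⟩
  · have : prodX hC ((posFrom D 0).filter fun r => decide (0 < T.phi (wL D L r))) f ∈
        (D.posUnipotent F).comap (MulAut.conj (tor D c * nL hC F L)).toMonoidHom := by
      refine list_prod_mem fun g hg => ?_
      obtain ⟨r, hr, rfl⟩ := List.mem_map.1 hg
      obtain ⟨hr', hq⟩ := List.mem_filter.1 hr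
      have hlt := ((mem_posFrom hC).1 hr').1
      obtain ⟨η, -, e⟩ := conj_xg (F := F) hC hL c hlt
      show tor D c * nL hC F L * xg hC r (f r) * (tor D c * nL hC F L)⁻¹ ∈ D.posUnipotent F
      rw [e]
      exact xg_mem_U hC (wL_lt hC hL hlt) (of_decide_eq_true hq) _
    exact this
  · rw [Uminus_eq hC hL c]
    refine list_prod_mem fun g hg => ?_
    obtain ⟨r, hr, rfl⟩ := List.mem_map.1 hg
    obtain ⟨hr', hq⟩ := List.mem_filter.1 (List.mem_reverse.1 hr)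
    have h := (mem_posFrom hC).1 hr'
    refine Subgroup.subset_closure ⟨r, _, (mem_invList hC).2 ⟨h.1, h.2.1, ?_⟩, rfl⟩
    have := hC.phi_ne_zero (wL_lt hC hL h.1)
    simp only [Bool.not_eq_true', decide_eq_false_iff_not] at hq
    omega

theorem exists_BUN {g : GL D.Idx F} (hg : g ∈ D.group F) :
    ∃ b ∈ D.borelSubgroup F, ∃ n ∈ D.monomialSubgroup F, ∃ u ∈ D.posUnipotent F, g = b * n * u := by
  obtain ⟨w, hw⟩ := bruhat (P := bn (F := F) hC) ⟨g, hg⟩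
  obtain ⟨n, hn, rfl⟩ := exists_mkW w
  obtain ⟨b, hb, b', hb', e⟩ := mem_dc.1 hw
  obtain ⟨u, hu, h, hh, hb'e⟩ := (mem_B_iff hC).1 (Subgroup.mem_subgroupOf.1 hb')
  have hnN : (n : GL D.Idx F) ∈ D.monomialSubgroup F := hn
  have hu' : h⁻¹ * u * h ∈ D.posUnipotent F := by
    simpa using (Subgroup.mem_normalizer_iff.1 (H_normalizes_U hC (inv_mem hh)) u).1 hu
  have hbB : (b : GL D.Idx F) ∈ D.borelSubgroup F := hb
  refine ⟨b * ((n : GL D.Idx F) * h * (n : GL D.Idx F)⁻¹),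
    mul_mem hbB (Subgroup.mem_sup_right (H_conj hC hnN hh)), n, hnN, _, hu', ?_⟩
  have e' : g = (b : GL D.Idx F) * n * (b' : GL D.Idx F) := congrArg Subtype.val e
  rw [e', hb'e]
  group

theorem exists_form {g : GL D.Idx F} (hg : g ∈ D.group F) :
    ∃ b ∈ D.borelSubgroup F, ∃ n ∈ D.monomialSubgroup F, ∃ u ∈ Uminus D F n, g = b * n * u := by
  obtain ⟨b, hb, n, hn, u, hu, rfl⟩ := exists_BUN hC hg
  obtain ⟨c, L, hL, rfl⟩ := (mem_N_iff hC).1 hn
  obtain ⟨v, w, hv, hw, rfl⟩ := U_decomp hC hL c hu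
  exact ⟨_, mul_mem hb (Subgroup.mem_sup_left hv), _, hn, w, hw, by group⟩

theorem inv_mul_mem_H {b b' n n' u u' : GL D.Idx F} (hb : b ∈ D.borelSubgroup F)
    (hb' : b' ∈ D.borelSubgroup F) (hn : n ∈ D.monomialSubgroup F) (hn' : n' ∈ D.monomialSubgroup F)
    (hu : u ∈ D.borelSubgroup F) (hu' : u' ∈ D.borelSubgroup F) (he : b * n * u = b' * n' * u') :
    n⁻¹ * n' ∈ D.diagonalSubgroup F := by
  have hnG := N_le_group hC hn
  have hn'G := N_le_group hC hn'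
  have hgG : b * n * u ∈ D.group F := mul_mem (mul_mem (B_le_group hC hb) hnG) (B_le_group hC hu)
  have h1 : (⟨_, hgG⟩ : ↥(D.group F)) ∈
      cell (mkW (P := bn (F := F) hC) (n := ⟨n, hnG⟩) hn) :=
    mem_dc.2 ⟨⟨b, B_le_group hC hb⟩, hb, ⟨u, B_le_group hC hu⟩, hu, rfl⟩
  have h2 : (⟨_, hgG⟩ : ↥(D.group F)) ∈
      cell (mkW (P := bn (F := F) hC) (n := ⟨n', hn'G⟩) hn') :=
    mem_dc.2 ⟨⟨b', B_le_group hC hb'⟩, hb', ⟨u', B_le_group hC hu'⟩, hu', Subtype.ext he⟩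
  have h3 := (mkW_eq_iff (P := bn (F := F) hC) _ _).1 (cell_inj h1 h2)
  have h4 : n⁻¹ * n' ∈ D.borelSubgroup F := h3
  rw [← B_inf_N hC, Subgroup.mem_inf]
  exact ⟨h4, mul_mem (inv_mem hn) hn'⟩

theorem unique_form {b b' n n' u u' : GL D.Idx F} (hb : b ∈ D.borelSubgroup F)
    (hb' : b' ∈ D.borelSubgroup F) (hn : n ∈ D.monomialSubgroup F) (hn' : n' ∈ D.monomialSubgroup F)
    (hu : u ∈ Uminus D F n) (hu' : u' ∈ Uminus D F n') (he : b * n * u = b' * n' * u') :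
    n⁻¹ * n' ∈ D.diagonalSubgroup F ∧ (n = n' → b = b' ∧ u = u') := by
  have hUB : D.posUnipotent F ≤ D.borelSubgroup F := le_sup_left
  refine ⟨inv_mul_mem_H hC hb hb' hn hn' (hUB (Uminus_le_U hC n hu))
    (hUB (Uminus_le_U hC n' hu')) he, ?_⟩
  rintro rfl
  have h1 : b'⁻¹ * b = n * (u' * u⁻¹) * n⁻¹ :=
    calc b'⁻¹ * b = b'⁻¹ * (b * n * u) * (u⁻¹ * n⁻¹) := by group
      _ = b'⁻¹ * (b' * n * u') * (u⁻¹ * n⁻¹) := by rw [he]
      _ = _ := by group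
  have h2 : b'⁻¹ * b ∈ (⊥ : Subgroup (GL D.Idx F)) := by
    rw [← B_inf_V hC, Subgroup.mem_inf]
    exact ⟨mul_mem (inv_mem hb') hb, h1 ▸ conj_Uminus hC (mul_mem hu' (inv_mem hu))⟩
  rw [Subgroup.mem_bot, inv_mul_eq_one] at h2
  subst h2
  exact ⟨rfl, mul_left_cancel he⟩

theorem conj_in_N {h₁ h₂ g : GL D.Idx F} (h1 : h₁ ∈ D.diagonalSubgroup F)
    (h2 : h₂ ∈ D.diagonalSubgroup F) (hg : g ∈ D.group F) (hc : g * h₁ * g⁻¹ = h₂) :
    ∃ n ∈ D.monomialSubgroup F, n * h₁ * n⁻¹ = h₂ := by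
  obtain ⟨b, hb, n, hn, u, hu, rfl⟩ := exists_form hC hg
  obtain ⟨v, hv, k, hk, rfl⟩ := (mem_B_iff hC).1 hb
  refine ⟨k * n, mul_mem (Subgroup.mem_sup_left hk) hn, ?_⟩
  obtain ⟨m, hm⟩ : ∃ m, m = k * n := ⟨_, rfl⟩
  have hmN : m ∈ D.monomialSubgroup F := hm ▸ mul_mem (Subgroup.mem_sup_left hk) hn
  have hUm : Uminus D F n ≤ Uminus D F m := by
    refine Subgroup.closure_mono ?_
    rintro x ⟨r, t, hr, hmap, hx⟩
    refine ⟨r, t, hr, ?_, hx⟩
    rintro _ ⟨y, hy, rfl⟩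
    have h3 := hmap ⟨y, hy, rfl⟩
    show m * y * m⁻¹ ∈ D.negUnipotent F
    have h4 := (Subgroup.mem_normalizer_iff.1 (H_normalizes_V hC hk) _).1 h3
    simpa [hm, mul_assoc] using h4
  rw [← hm]
  have e1 : v * m * u * h₁ = h₂ * v * m * u := by
    have : v * k * n * u * h₁ = h₂ * (v * k * n * u) := by rw [← hc]; group
    rw [hm]; simpa [mul_assoc] using this
  -- both sides in normal form for the monomial elements `m h₁` and `h₂ m`
  have hH1 : h₁⁻¹ ∈ Subgroup.normalizer (Uminus D F (m * h₁) : Set (GL D.Idx F)) := by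
    obtain ⟨c, L, hL, hmc⟩ := (mem_N_iff hC).1 (mul_mem hmN (Subgroup.mem_sup_left h1))
    rw [hmc, Uminus_eq hC hL c]
    have := H_le_normalizer (F := F) (P := fun r => r ∈ invList D T L) hC (inv_mem h1)
    convert this using 4
    ext g
    simp only [Set.mem_setOf_eq]
    exact ⟨fun ⟨r, t, hr, e⟩ => ⟨r, t, ((mem_invList hC).1 hr).1, hr, e⟩,
      fun ⟨r, t, _, hr, e⟩ => ⟨r, t, hr, e⟩⟩
  have hu1 : h₁⁻¹ * u * h₁ ∈ Uminus D F (m * h₁) := by
    have h5 : u ∈ Uminus D F (m * h₁) := by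
      refine Subgroup.closure_mono ?_ (hUm hu)
      rintro x ⟨r, t, hr, hmap, hx⟩
      refine ⟨r, t, hr, ?_, hx⟩
      rintro _ ⟨y, hy, rfl⟩
      show m * h₁ * y * (m * h₁)⁻¹ ∈ D.negUnipotent F
      obtain ⟨t', rfl⟩ := (mem_rootSubgroup hC).1 hy
      obtain ⟨c, rfl⟩ := (mem_H_iff hC).1 h1
      rw [show m * tor D c * xg hC r t' * (m * tor D c)⁻¹ =
        m * (tor D c * xg hC r t' * (tor D c)⁻¹) * m⁻¹ by group, tor_conj_x hC _ _ _ hr.1]
      exact hmap ⟨_, (mem_rootSubgroup hC).2 ⟨_, rfl⟩, rfl⟩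
    simpa using (Subgroup.mem_normalizer_iff.1 hH1 u).1 h5
  have hh2m : h₂ * m ∈ D.monomialSubgroup F := mul_mem (Subgroup.mem_sup_left h2) hmN
  have hu2 : u ∈ Uminus D F (h₂ * m) := by
    refine Subgroup.closure_mono ?_ (hUm hu)
    rintro x ⟨r, t, hr, hmap, hx⟩
    refine ⟨r, t, hr, ?_, hx⟩
    rintro _ ⟨y, hy, rfl⟩
    have h4 := (Subgroup.mem_normalizer_iff.1 (H_normalizes_V hC h2) _).1 (hmap ⟨y, hy, rfl⟩)
    show h₂ * m * y * (h₂ * m)⁻¹ ∈ D.negUnipotent F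
    simpa [mul_assoc] using h4
  have hUB : D.posUnipotent F ≤ D.borelSubgroup F := le_sup_left
  have hv2 : h₂ * v * h₂⁻¹ ∈ D.posUnipotent F :=
    (Subgroup.mem_normalizer_iff.1 (H_normalizes_U hC h2) v).1 hv
  have e2 : v * (m * h₁) * (h₁⁻¹ * u * h₁) = h₂ * v * h₂⁻¹ * (h₂ * m) * u :=
    calc _ = v * m * u * h₁ := by group
      _ = h₂ * v * m * u := e1
      _ = _ := by group
  obtain ⟨d, hd⟩ := (mem_H_iff hC).1
    (unique_form hC (hUB hv) (hUB hv2) (mul_mem hmN (Subgroup.mem_sup_left h1)) hh2m hu1 hu2 e2).1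
  -- the torus factor is trivial: it lies in `U`
  have hH : m * tor D d * m⁻¹ ∈ D.diagonalSubgroup F := H_conj hC hmN (tor_mem_H hC d)
  obtain ⟨k', hk'⟩ : ∃ k', k' = m * h₁ * tor D d * (m * h₁)⁻¹ := ⟨_, rfl⟩
  have hk'H : k' ∈ D.diagonalSubgroup F :=
    hk' ▸ H_conj hC (mul_mem hmN (Subgroup.mem_sup_left h1)) (tor_mem_H hC d)
  have hd' : h₂ * m = k' * (m * h₁) := by
    rw [hk', ← hd]; group
  have hb2 : h₂ * v * h₂⁻¹ * k' ∈ D.borelSubgroup F :=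
    mul_mem (hUB hv2) (Subgroup.mem_sup_right hk'H)
  have e3 : v * (m * h₁) * (h₁⁻¹ * u * h₁) = h₂ * v * h₂⁻¹ * k' * (m * h₁) * u := by
    rw [e2, hd']; group
  have hu3 : u ∈ Uminus D F (m * h₁) := by
    have := (Subgroup.mem_normalizer_iff.1 (inv_mem hH1) _).1 hu1
    simpa [mul_assoc] using this
  have hmN1 : m * h₁ ∈ D.monomialSubgroup F := mul_mem hmN (Subgroup.mem_sup_left h1)
  have hb3 := ((unique_form hC (hUB hv) hb2 hmN1 hmN1 hu1 hu3 e3).2 rfl).1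
  have hk1 : k' = 1 := by
    have h6 : k' ∈ D.posUnipotent F := by
      have : k' = (h₂ * v * h₂⁻¹)⁻¹ * v := eq_inv_mul_of_mul_eq hb3.symm
      rw [this]; exact mul_mem (inv_mem hv2) hv
    exact UT_inf_H hC (U_le_UT hC h6) hk'H
  rw [hk1, one_mul] at hd'
  rw [← hd']
  group

end Cfsg.Agent.Chevalley.NormalForm
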