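import Cfsg.Agent.Lib.Chevalley.Borel

/-!
The order of the torus from a diagonalisation of the Cartan matrix by unimodular matrices.
-/

set_option autoImplicit false

open scoped Matrix

namespace Cfsg.Agent.Chevalley.TorusCard

open Cfsg.Lie Cfsg.Agent.Chevalley.Table Cfsg.Agent.Chevalley.Check
  Cfsg.Agent.Chevalley.Cert Cfsg.Agent.Chevalley.Root Cfsg.Agent.Chevalley.Group
  Cfsg.Agent.Chevalley.Borel

section Generic

variable {G : Type*} [CommGroup G] {ι : Type*} [Fintype ι]

/-- An integer matrix acting on a power of a commutative group. -/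
def matHom (M : Matrix ι ι ℤ) : (ι → G) →* (ι → G) where
  toFun c j := ∏ i, c i ^ M j i
  map_one' := by funext j; simp
  map_mul' c c' := by funext j; simp [mul_zpow, Finset.prod_mul_distrib]

theorem matHom_apply (M : Matrix ι ι ℤ) (c : ι → G) (j : ι) : matHom M c j = ∏ i, c i ^ M j i := rfl

theorem prod_zpow_sum {κ : Type*} (s : Finset κ) (a : G) (f : κ → ℤ) :
    ∏ i ∈ s, a ^ f i = a ^ ∑ i ∈ s, f i := by
  induction s using Finset.cons_induction with
  | empty => simp
  | cons i s hi ih => rw [Finset.prod_cons, Finset.sum_cons, ih, zpow_add]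

theorem matHom_mul (M N : Matrix ι ι ℤ) (c : ι → G) : matHom (M * N) c = matHom M (matHom N c) := by
  funext j
  simp only [matHom_apply]
  rw [Finset.prod_congr rfl fun i (_ : i ∈ Finset.univ) => (Finset.prod_zpow _ _ _).symm,
    Finset.prod_comm]
  refine Finset.prod_congr rfl fun i _ => ?_
  rw [Matrix.mul_apply, ← prod_zpow_sum]
  refine Finset.prod_congr rfl fun k _ => ?_
  rw [← zpow_mul, mul_comm]

variable [DecidableEq ι]

theorem matHom_one (c : ι → G) : matHom (1 : Matrix ι ι ℤ) c = c := by
  funext j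
  rw [matHom_apply, Finset.prod_eq_single j]
  · simp
  · intro i _ h; simp [Ne.symm h]
  · simp

theorem matHom_diagonal (d : ι → ℕ) (c : ι → G) (j : ι) :
    matHom (Matrix.diagonal fun i => (d i : ℤ)) c j = c j ^ d j := by
  rw [matHom_apply, Finset.prod_eq_single j]
  · simp
  · intro i _ h; simp [Ne.symm h]
  · simp

theorem card_ker_matHom [Finite G] [IsCyclic G] {M P P' Q Q' : Matrix ι ι ℤ} {d : ι → ℕ}
    (hP : P' * P = 1) (hQ : Q * Q' = 1) (hQ' : Q' * Q = 1)
    (h : P * M * Q = Matrix.diagonal fun i => (d i : ℤ)) :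
    Nat.card (matHom (G := G) M).ker = ∏ i, Nat.gcd (Nat.card G) (d i) := by
  have e1 : ∀ c : ι → G, matHom M c = 1 ↔ ∀ i, matHom Q' c i ∈ (powMonoidHom (d i) : G →* G).ker := by
    intro c
    have hd : ∀ i, matHom P (matHom M c) i = matHom Q' c i ^ d i := fun i => by
      rw [← matHom_diagonal, ← h, matHom_mul, ← matHom_mul Q Q', hQ, matHom_one, matHom_mul]
    constructor
    · intro hc i
      rw [MonoidHom.mem_ker, powMonoidHom_apply, ← hd, hc, map_one, Pi.one_apply]
    · intro hc
      have h1 : matHom P (matHom M c) = 1 := funext fun i => by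
        rw [hd]; exact hc i
      have h2 := congrArg (matHom P') h1
      rwa [← matHom_mul, hP, matHom_one, map_one] at h2
  let e : (matHom (G := G) M).ker ≃ ∀ i, (powMonoidHom (d i) : G →* G).ker :=
    { toFun := fun c i => ⟨matHom Q' c.1 i, (e1 c.1).1 c.2 i⟩
      invFun := fun c => ⟨matHom Q fun i => (c i : G), (e1 _).2 fun i => by
        rw [← matHom_mul, hQ', matHom_one]; exact (c i).2⟩
      left_inv := fun c => Subtype.ext (by
        show matHom Q (fun i => matHom Q' c.1 i) = c.1
        rw [← matHom_mul, hQ, matHom_one])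
      right_inv := fun c => funext fun i => Subtype.ext (by
        show matHom Q' (matHom Q fun i => (c i : G)) i = c i
        rw [← matHom_mul, hQ', matHom_one]) }
  rw [Nat.card_congr e, Nat.card_pi]
  simp only [IsCyclic.card_powMonoidHom_ker]

end Generic

variable {D : ChevalleyDatum} {F : Type*} [Field F] {T : Tab}

/-- Extend a family on the fundamental roots to all numbers. -/
def ext (c : Fin D.rank → Fˣ) (i : ℕ) : Fˣ := if h : i < D.rank then c ⟨i, h⟩ else 1

/-- The transposed Cartan matrix. -/
def cartanMat (D : ChevalleyDatum) : Matrix (Fin D.rank) (Fin D.rank) ℤ :=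
  Matrix.of fun j i => D.cartan i (D.simple j)

/-- The parametrisation of the torus. -/
def torHom (D : ChevalleyDatum) (F : Type*) [Field F] : (Fin D.rank → Fˣ) →* GL D.Idx F where
  toFun c := tor D (ext c)
  map_one' := by
    rw [show ext (D := D) (F := F) 1 = 1 from funext fun i => by unfold ext; split <;> rfl, tor_one]
  map_mul' c c' := by
    rw [tor_mul]
    congr 1
    funext i
    simp only [ext, Pi.mul_apply]
    split <;> simp

theorem torChar_ext (c : Fin D.rank → Fˣ) (s : ℕ) :
    torChar D (ext c) s = ∏ i : Fin D.rank, c i ^ D.cartan i s := by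
  rw [torChar, ← Fin.prod_univ_eq_prod_range fun i => ext c i ^ D.cartan i s]
  exact Finset.prod_congr rfl fun i _ => by rw [ext, dif_pos i.2]

variable (hC : Certified D T)
include hC

theorem range_torHom : (torHom D F).range = D.diagonalSubgroup F := by
  ext g
  rw [mem_H_iff hC]
  refine ⟨fun ⟨c, hc⟩ => ⟨ext c, hc.symm⟩, fun ⟨c, hc⟩ => ⟨fun i => c i, ?_⟩⟩
  subst hc
  exact dg_congr fun s _ => Finset.prod_congr rfl fun i hi => by
    rw [ext, dif_pos (Finset.mem_range.1 hi)]

theorem torChar_reflect (c : ℕ → Fˣ) {i r : ℕ} (hi : i < D.rank) (hr : r < D.nroots) :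
    torChar D c (D.reflectRoot i r) =
      torChar D c r * torChar D c (D.simple i) ^ (-D.cartan i r) := by
  rw [torChar, torChar, torChar, ← Finset.prod_zpow, ← Finset.prod_mul_distrib]
  refine Finset.prod_congr rfl fun j hj => ?_
  rw [hC.cartan_reflect hi (Finset.mem_range.1 hj) hr, ← zpow_mul, ← zpow_add]
  congr 1
  ring

theorem ker_torHom : (torHom D F).ker = (matHom (G := Fˣ) (cartanMat D)).ker := by
  ext c
  simp only [MonoidHom.mem_ker]
  constructor
  · intro h
    funext j
    have h1 : tor D (ext c) = 1 := h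
    have h2 : ((tor D (ext c) : GL D.Idx F) : Matrix D.Idx D.Idx F)
        (Sum.inr ⟨D.simple j, hC.simple_lt j.2⟩) (Sum.inr ⟨D.simple j, hC.simple_lt j.2⟩) = 1 := by
      rw [h1, Units.val_one, Matrix.one_apply_eq]
    rw [coe_tor hC, dMat, Matrix.diagonal_apply_eq, Sum.elim_inr, Units.val_eq_one, torChar_ext] at h2
    exact h2
  · intro h
    show tor D (ext c) = 1
    rw [tor, ← dg_one]
    refine dg_congr ?_
    show ∀ s < D.nroots, torChar D (ext c) s = 1
    refine Root.simple_induction hC (fun i hi => ?_) fun r hr i hi ih => ?_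
    · rw [torChar_ext]
      exact congrFun h ⟨i, hi⟩
    · rw [torChar_reflect hC _ hi hr, ih, one_mul,
        show torChar D (ext c) (D.simple i) = 1 by rw [torChar_ext]; exact congrFun h ⟨i, hi⟩,
        one_zpow]

/-- The order of `H`. -/
theorem card_H [Fintype F] {P P' Q Q' : Matrix (Fin D.rank) (Fin D.rank) ℤ}
    {d : Fin D.rank → ℕ} (hP : P' * P = 1) (hQ : Q * Q' = 1) (hQ' : Q' * Q = 1)
    (h : P * cartanMat D * Q = Matrix.diagonal fun i => (d i : ℤ)) :
    (∏ i, Nat.gcd (Fintype.card F - 1) (d i)) * Nat.card (D.diagonalSubgroup F) =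
      (Fintype.card F - 1) ^ D.rank := by
  have hu : Nat.card Fˣ = Fintype.card F - 1 := by rw [Nat.card_units, Nat.card_eq_fintype_card]
  rw [← hu, ← card_ker_matHom hP hQ hQ' h, ← ker_torHom hC, ← range_torHom hC,
    ← Subgroup.index_ker, Subgroup.card_mul_index, Nat.card_fun, Nat.card_fin]

end Cfsg.Agent.Chevalley.TorusCard
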