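import Cfsg.Agent.Lib.Chevalley.FieldAut
import Cfsg.Agent.Lib.Chevalley.NormalForm
import Cfsg.Agent.Lib.Chevalley.TorusCard
import Cfsg.Prelude.Def_ChevAutomorphisms
import Mathlib.FieldTheory.Fixed
import Mathlib.FieldTheory.Finite.Basic
import Mathlib.RingTheory.LittleWedderburn

/-!
The fixed points of a field automorphism of a Chevalley group: by the uniqueness of the Bruhat
normal form they are the group over the fixed field, when the torus is parametrised injectively.
-/

set_option autoImplicit false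

open scoped Matrix

namespace Cfsg.Agent.Chevalley.FieldFix

open Cfsg.Lie Cfsg.Agent.Chevalley.Table Cfsg.Agent.Chevalley.Check
  Cfsg.Agent.Chevalley.Cert Cfsg.Agent.Chevalley.Group Cfsg.Agent.Chevalley.Weight
  Cfsg.Agent.Chevalley.Unip Cfsg.Agent.Chevalley.Borel Cfsg.Agent.Chevalley.Weyl
  Cfsg.Agent.Chevalley.FieldAut Cfsg.Agent.Chevalley.NormalForm Cfsg.Agent.Chevalley.TorusCard

variable {D : ChevalleyDatum} {F K : Type*} [Field F] [Field K] {T : Tab}

theorem mapGL_injective (f : K →+* F) : Function.Injective (mapGL D f) := fun g h e =>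
  Units.ext (Matrix.map_injective f.injective (congrArg Units.val e))

theorem mapGL_xg (hC : Certified D T) (f : K →+* F) (r : ℕ) (t : K) :
    mapGL D f (xg hC r t) = xg hC r (f t) :=
  Units.ext (x_map f r t)

theorem mapGL_ng (hC : Certified D T) (f : K →+* F) (r : ℕ) (t : K) :
    mapGL D f (ng hC r t) = ng hC r (f t) := by
  simp only [ng, map_mul, mapGL_xg, map_neg, map_inv₀]

theorem mapGL_nL (hC : Certified D T) (f : K →+* F) (L : List ℕ) :
    mapGL D f (nL hC K L) = nL hC F L := by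
  rw [nL, nL, map_list_prod, List.map_map]
  congr 1
  exact List.map_congr_left fun i _ => by simp [mapGL_ng]

theorem mapGL_prodX (hC : Certified D T) (f : K →+* F) (L : List ℕ) (t : ℕ → K) :
    mapGL D f (prodX hC L t) = prodX hC L (fun r => f (t r)) := by
  rw [prodX, prodX, map_list_prod, List.map_map]
  congr 1
  exact List.map_congr_left fun i _ => by simp [mapGL_xg]

theorem mapGL_tor (f : K →+* F) (c : ℕ → Kˣ) :
    mapGL D f (tor D c) = tor D (fun i => Units.map (f : K →* F) (c i)) := by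
  refine Units.ext ?_
  rw [mapGL_coe, tor, tor, coe_dg, coe_dg, Root.dMat, Root.dMat, Matrix.diagonal_map (map_zero f)]
  refine congrArg Matrix.diagonal (funext fun a => ?_)
  rcases a with i | s
  · simp
  · simp [torChar, map_prod, map_zpow₀]

theorem map_mem_U (hC : Certified D T) (f : K →+* F) {u : GL D.Idx K}
    (hu : u ∈ D.posUnipotent K) : mapGL D f u ∈ D.posUnipotent F := by
  obtain ⟨t, rfl⟩ := exists_prodX hC hu
  rw [mapGL_prodX, ← Uge_zero hC]
  exact prodX_mem hC fun r hr =>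
    ⟨((mem_posRoots hC).1 hr).1, ((mem_posRoots hC).1 hr).2, Nat.zero_le r⟩

theorem map_mem_H (hC : Certified D T) (f : K →+* F) {h : GL D.Idx K}
    (hh : h ∈ D.diagonalSubgroup K) : mapGL D f h ∈ D.diagonalSubgroup F := by
  obtain ⟨c, rfl⟩ := (mem_H_iff hC).1 hh
  rw [mapGL_tor]
  exact tor_mem_H hC _

variable (hC : Certified D T)
include hC

/-- An element of `U` fixed by `σ` comes from the fixed field. -/
theorem U_fixed (f : K →+* F) (σ : F →+* F) (hσ : ∀ t : F, σ t = t → t ∈ Set.range f)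
    {u : GL D.Idx F} (hu : u ∈ D.posUnipotent F) (he : mapGL D σ u = u) :
    u ∈ (D.group K).map (mapGL D f) := by
  obtain ⟨t, rfl⟩ := exists_prodX hC hu
  rw [mapGL_prodX] at he
  have ht := prodX_inj hC posRoots_sorted (fun _ hr => (mem_posRoots hC).1 hr) he
  refine list_prod_mem fun g hg => ?_
  obtain ⟨r, hr, rfl⟩ := List.mem_map.1 hg
  obtain ⟨a, ha⟩ := hσ _ (ht r hr)
  exact ⟨xg hC r a, xg_mem_group hC ((mem_posRoots hC).1 hr).1 a, by rw [mapGL_xg, ha]⟩

/-- An element of `H` fixed by `σ` comes from the fixed field. -/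
theorem H_fixed (f : K →+* F) (σ : F →+* F) (hσ : ∀ t : F, σ t = t → t ∈ Set.range f)
    (hT : Function.Injective (torHom D F))
    {h : GL D.Idx F} (hh : h ∈ D.diagonalSubgroup F) (he : mapGL D σ h = h) :
    h ∈ (D.group K).map (mapGL D f) := by
  obtain ⟨c, rfl⟩ := (mem_H_iff hC).1 hh
  rw [mapGL_tor] at he
  have e : ∀ c' : ℕ → Fˣ, torHom D F (fun i => c' i) = tor D c' := fun c' =>
    dg_congr fun s _ => Finset.prod_congr rfl fun i hi => by
      rw [TorusCard.ext, dif_pos (Finset.mem_range.1 hi)]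
  rw [← e, ← e] at he
  have hc := hT he
  have hmem : ∀ i : Fin D.rank, ∃ a : Kˣ, f a = c i := fun i => by
    obtain ⟨a, ha⟩ := hσ (c i) (congrArg Units.val (congrFun hc i))
    have ha0 : a ≠ 0 := fun h0 => by
      rw [h0, map_zero] at ha
      exact (c i).ne_zero ha.symm
    exact ⟨Units.mk0 a ha0, ha⟩
  choose a ha using hmem
  refine ⟨torHom D K a, H_le_group hC (tor_mem_H hC _), ?_⟩
  rw [← e c, show (torHom D K a) = tor D (TorusCard.ext a) from rfl, mapGL_tor, ← e]
  congr 1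
  funext i
  refine Units.ext ?_
  simp [TorusCard.ext, ha]

/-- Elements of the group fixed by `σ` come from the fixed field. -/
theorem group_fixed (f : K →+* F) (σ : F →+* F) (hσ : ∀ t : F, σ t = t → t ∈ Set.range f)
    (hT : Function.Injective (torHom D F))
    {g : GL D.Idx F} (hg : g ∈ D.group F) (he : mapGL D σ g = g) :
    g ∈ (D.group K).map (mapGL D f) := by
  obtain ⟨b, hb, n, hn, u, hu, rfl⟩ := exists_form hC hg
  obtain ⟨c, L, hL, rfl⟩ := (mem_N_iff hC).1 hn
  have e1 : (tor D (1 : ℕ → Fˣ) : GL D.Idx F) * nL hC F L = nL hC F L := by rw [tor_one, one_mul]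
  have hU1 : Uminus D F (tor D c * nL hC F L) = Uminus D F (nL hC F L) := by
    rw [Uminus_eq hC hL c, ← e1, Uminus_eq hC hL 1]
  rw [hU1] at hu
  obtain ⟨b', hb'⟩ : ∃ b', b' = b * tor D c := ⟨_, rfl⟩
  have hbB : b' ∈ D.borelSubgroup F :=
    hb' ▸ mul_mem hb (Subgroup.mem_sup_right (tor_mem_H hC c))
  rw [show b * (tor D c * nL hC F L) * u = b' * nL hC F L * u by simp only [hb', mul_assoc]] at he ⊢
  rw [map_mul, map_mul, mapGL_nL] at he
  have hnN : nL hC F L ∈ D.monomialSubgroup F := nL_mem_N hC hL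
  have hu' : mapGL D σ u ∈ Uminus D F (nL hC F L) := by
    have h1 : Uminus D F (nL hC F L) ≤ (Uminus D F (nL hC F L)).comap (mapGL D σ) := by
      rw [← e1, Uminus_eq hC hL 1, Subgroup.closure_le]
      rintro g ⟨r, t, hr, rfl⟩
      rw [SetLike.mem_coe, Subgroup.mem_comap, mapGL_xg]
      exact Subgroup.subset_closure ⟨r, σ t, hr, rfl⟩
    exact h1 hu
  obtain ⟨v, hv, h, hh, hbe⟩ := (mem_B_iff hC).1 hbB
  have hσb : mapGL D σ b' ∈ D.borelSubgroup F := by
    rw [hbe, map_mul]
    exact (mem_B_iff hC).2 ⟨_, map_mem_U hC σ hv, _, map_mem_H hC σ hh, rfl⟩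
  obtain ⟨hb2, hu2⟩ := (unique_form hC hσb hbB hnN hnN hu' hu he).2 rfl
  rw [hbe, map_mul] at hb2
  have hvh : v⁻¹ * mapGL D σ v = h * (mapGL D σ h)⁻¹ := by
    rw [eq_mul_inv_iff_mul_eq, mul_assoc, hb2]
    group
  have h2 : v⁻¹ * mapGL D σ v ∈ (⊥ : Subgroup (GL D.Idx F)) := by
    rw [← U_inf_H hC, Subgroup.mem_inf]
    exact ⟨mul_mem (inv_mem hv) (map_mem_U hC σ hv),
      hvh ▸ mul_mem hh (inv_mem (map_mem_H hC σ hh))⟩
  rw [Subgroup.mem_bot] at h2
  have hσv : mapGL D σ v = v := by rwa [inv_mul_eq_one, eq_comm] at h2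
  have hσh : mapGL D σ h = h := by rw [hσv] at hb2; exact mul_left_cancel hb2
  rw [hbe]
  refine mul_mem (mul_mem (mul_mem (U_fixed hC f σ hσ hv hσv)
    (H_fixed hC f σ hσ hT hh hσh)) ?_) (U_fixed hC f σ hσ (Uminus_le_U hC _ hu) hu2)
  exact ⟨nL hC K L, N_le_group hC (nL_mem_N hC hL), mapGL_nL hC f L⟩

omit hC in
theorem torHom_injective (hC : Certified D T) [Fintype F]
    {P P' Q Q' : Matrix (Fin D.rank) (Fin D.rank) ℤ} {d : Fin D.rank → ℕ}
    (hP : P' * P = 1) (hQ : Q * Q' = 1) (hQ' : Q' * Q = 1)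
    (h : P * cartanMat D * Q = Matrix.diagonal fun i => (d i : ℤ)) (hd : ∀ i, d i = 1) :
    Function.Injective (torHom D F) := by
  rw [← MonoidHom.ker_eq_bot_iff, ker_torHom hC]
  refine Subgroup.eq_bot_of_card_le _ ?_
  rw [card_ker_matHom hP hQ hQ' h]
  simp [hd]

end Cfsg.Agent.Chevalley.FieldFix

namespace Cfsg.Agent.Chevalley.FieldFix

open Cfsg.Lie Cfsg.Agent.Chevalley.Table Cfsg.Agent.Chevalley.Check
  Cfsg.Agent.Chevalley.Cert Cfsg.Agent.Chevalley.Group Cfsg.Agent.Chevalley.Borel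
  Cfsg.Agent.Chevalley.FieldAut Cfsg.Agent.Chevalley.TorusCard

universe u

variable {D : ChevalleyDatum} {T : Tab} {F : Type u} [Field F] [Fintype F]

/-- A field automorphism acts entrywise. -/
theorem fieldAut_coe (hC : Certified D T) {φ : MulAut ↥(D.group F)} {σ : F ≃+* F}
    (hσ : ∀ (g : ↥(D.group F)) (r : ℕ) (t : F), r < D.nroots →
      ((g : GL D.Idx F) : Matrix D.Idx D.Idx F) = D.x F r t →
        ((φ g : GL D.Idx F) : Matrix D.Idx D.Idx F) = D.x F r (σ t))
    (g : ↥(D.group F)) : ((φ g : ↥(D.group F)) : GL D.Idx F) = mapGL D σ.toRingHom g := by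
  have hh : ((D.group F).subtype.comp φ.toMonoidHom) =
      (mapGL D σ.toRingHom).comp (D.group F).subtype := by
    have hclos : Subgroup.closure {x : ↥(D.group F) |
        ∃ (s : ℕ) (t : F), s < D.nroots ∧ ((x : GL D.Idx F) : Matrix D.Idx D.Idx F) = D.x F s t} = ⊤ := by
      refine (Subgroup.map_injective (D.group F).subtype_injective ?_)
      rw [MonoidHom.map_closure, ← MonoidHom.range_eq_map, Subgroup.range_subtype]
      refine le_antisymm ((Subgroup.closure_le _).2 ?_) ?_
      · rintro _ ⟨x, -, rfl⟩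
        exact x.2
      · conv_lhs => rw [group_eq_closure hC]
        refine Subgroup.closure_mono ?_
        rintro g ⟨s, t, hs, rfl⟩
        exact ⟨⟨xg hC s t, xg_mem_group hC hs t⟩, ⟨s, t, hs, rfl⟩, rfl⟩
    refine MonoidHom.eq_of_eqOn_dense hclos ?_
    rintro x ⟨s, t, hs, hx⟩
    refine Units.ext ?_
    show ((φ x : GL D.Idx F) : Matrix D.Idx D.Idx F) =
      ((x : GL D.Idx F) : Matrix D.Idx D.Idx F).map σ.toRingHom
    rw [hσ x s t hs hx, hx, x_map]
    rfl
  exact DFunLike.congr_fun hh g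

theorem fieldAut_pow_eq_one (hC : Certified D T) (h0 : 0 < D.nroots) {φ : MulAut ↥(D.group F)}
    {σ : F ≃+* F}
    (hσ : ∀ (g : ↥(D.group F)) (r : ℕ) (t : F), r < D.nroots →
      ((g : GL D.Idx F) : Matrix D.Idx D.Idx F) = D.x F r t →
        ((φ g : GL D.Idx F) : Matrix D.Idx D.Idx F) = D.x F r (σ t)) (n : ℕ) :
    φ ^ n = 1 ↔ σ ^ n = 1 := by
  have key := fieldAut_coe hC hσ
  have hpow : ∀ n : ℕ, ∀ g : ↥(D.group F),
      (((φ ^ n) g : ↥(D.group F)) : GL D.Idx F) = mapGL D (σ ^ n : F ≃+* F).toRingHom g := by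
    intro n
    induction n with
    | zero => intro g; exact Units.ext (Matrix.ext fun a b => rfl)
    | succ n ih =>
      intro g
      rw [pow_succ, MulAut.mul_apply, ih, key]
      refine Units.ext (Matrix.ext fun a b => ?_)
      simp only [mapGL_coe, Matrix.map_apply, RingEquiv.toRingHom_eq_coe, RingEquiv.coe_toRingHom]
      rw [pow_succ]
      rfl
  constructor
  · intro hn
    refine RingEquiv.ext fun t => ?_
    have h1 := hpow n ⟨xg hC 0 t, xg_mem_group hC h0 t⟩
    rw [hn, mapGL_xg] at h1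
    exact (xg_injective hC h0 h1).symm
  · intro hn
    refine MulEquiv.ext fun g => Subtype.ext ?_
    rw [hpow, hn]
    exact Units.ext (Matrix.ext fun a b => rfl)

theorem torHom_injective_of_coprime (hC : Certified D T)
    {P P' Q Q' : Matrix (Fin D.rank) (Fin D.rank) ℤ} {d : Fin D.rank → ℕ}
    (hP : P' * P = 1) (hQ : Q * Q' = 1) (hQ' : Q' * Q = 1)
    (h : P * cartanMat D * Q = Matrix.diagonal fun i => (d i : ℤ))
    (hd : ∀ i, Nat.Coprime (Fintype.card F - 1) (d i)) :
    Function.Injective (torHom D F) := by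
  rw [← MonoidHom.ker_eq_bot_iff, ker_torHom hC]
  refine Subgroup.eq_bot_of_card_le _ (le_of_eq ?_)
  rw [card_ker_matHom hP hQ hQ' h]
  refine Finset.prod_eq_one fun i _ => ?_
  rw [Nat.card_units, Nat.card_eq_fintype_card]
  exact hd i

/-- The fixed points of a field automorphism of prime order. -/
theorem eqLocus_equiv (hC : Certified D T) (hT : Function.Injective (torHom D F))
    (h0 : 0 < D.nroots)
    (φ : MulAut ↥(D.group F)) (hφ : D.IsFieldAut φ) (r : ℕ) (hr : r.Prime) (ho : orderOf φ = r) :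
    ∃ (F₀ : Type) (_ : Field F₀) (_ : Fintype F₀), Fintype.card F = Fintype.card F₀ ^ r ∧
      Nonempty (↥((MulEquiv.toMonoidHom φ).eqLocus (MonoidHom.id ↥(D.group F))) ≃* ↥(D.group F₀)) := by
  obtain ⟨σ, hσ⟩ := hφ
  have key := fieldAut_coe hC hσ
  have hiff := fieldAut_pow_eq_one hC h0 hσ
  have hoσ : orderOf σ = r := by
    rw [← ho]
    exact Nat.dvd_antisymm (orderOf_dvd_of_pow_eq_one ((hiff _).1 (pow_orderOf_eq_one φ)))
      (orderOf_dvd_of_pow_eq_one ((hiff _).2 (pow_orderOf_eq_one σ)))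
  let H : Subgroup (F ≃+* F) := Subgroup.zpowers σ
  have hfix : ∀ t : F, σ t = t → t ∈ FixedPoints.subfield H F := by
    intro t ht h
    have : H ≤ MulAction.stabilizer (F ≃+* F) t := by
      rw [Subgroup.zpowers_le]
      exact ht
    exact this h.2
  have hfix' : ∀ t ∈ FixedPoints.subfield H F, σ t = t := fun t ht =>
    ht ⟨σ, Subgroup.mem_zpowers σ⟩
  haveI : Finite (F ≃+* F) :=
    Finite.of_injective (fun e : F ≃+* F => (e : F → F)) DFunLike.coe_injective
  haveI : Fintype H := Fintype.ofFinite _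
  haveI : Finite (FixedPoints.subfield H F) := Subtype.finite
  let k := FixedPoints.subfield H F
  have hrank : Module.finrank k F = r := by
    rw [FixedPoints.finrank_eq_card H F, ← Nat.card_eq_fintype_card]
    show Nat.card (Subgroup.zpowers σ) = r
    rw [Nat.card_zpowers, hoσ]
  obtain ⟨F₀, ⟨e⟩⟩ : ∃ F₀ : Type, Nonempty (k ≃ F₀) :=
    ⟨Fin (Nat.card k), ⟨Finite.equivFin k⟩⟩
  letI : Field F₀ := e.symm.field
  haveI : Finite F₀ := Finite.of_equiv _ e
  letI : Fintype F₀ := Fintype.ofFinite F₀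
  have eK : F₀ ≃+* k := e.symm.ringEquiv
  refine ⟨F₀, inferInstance, inferInstance, ?_, ?_⟩
  · rw [← Nat.card_eq_fintype_card, ← Nat.card_eq_fintype_card,
      Module.natCard_eq_pow_finrank (K := k) (V := F), hrank, Nat.card_congr e]
  · let f : F₀ →+* F := (FixedPoints.subfield H F).subtype.comp eK.toRingHom
    have hf : ∀ t : F, σ t = t → t ∈ Set.range f := fun t ht =>
      ⟨eK.symm ⟨t, hfix t ht⟩, by simp [f, k]⟩
    have hloc : ((MulEquiv.toMonoidHom φ).eqLocus (MonoidHom.id ↥(D.group F))).map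
        (D.group F).subtype = (D.group F₀).map (mapGL D f) := by
      refine le_antisymm ?_ ?_
      · rintro _ ⟨g, hg, rfl⟩
        refine group_fixed hC f σ.toRingHom hf hT g.2 ?_
        have : φ g = g := hg
        show mapGL D σ.toRingHom (g : GL D.Idx F) = g
        rw [← key, this]
      · rintro _ ⟨g, hg, rfl⟩
        refine ⟨⟨mapGL D f g, map_mem_group f hg⟩, ?_, rfl⟩
        show φ _ = _
        refine Subtype.ext ?_
        rw [key]
        refine Units.ext (Matrix.ext fun a b => ?_)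
        exact hfix' _ (eK ((g : Matrix D.Idx D.Idx F₀) a b)).2
    exact ⟨((((MulEquiv.toMonoidHom φ).eqLocus (MonoidHom.id ↥(D.group F))).equivMapOfInjective _
      (D.group F).subtype_injective).trans (MulEquiv.subgroupCongr hloc)).trans
      ((D.group F₀).equivMapOfInjective _ (mapGL_injective f)).symm⟩

end Cfsg.Agent.Chevalley.FieldFix
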