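import Cfsg.Agent.Lib.Chevalley.Order
import Cfsg.Agent.Lib.Chevalley.TorusCard

/-!
Polynomial arithmetic on coefficient lists, and the closed order formula.
-/

set_option autoImplicit false

namespace Cfsg.Agent.Chevalley.Poincare

open Cfsg.Lie Cfsg.Agent.Chevalley.Table Cfsg.Agent.Chevalley.Check Cfsg.Agent.Chevalley.Cert
  Cfsg.Agent.Chevalley.WeylEnum

/-- Evaluation of a coefficient list, constant term first. -/
def evalP (p : List ℤ) (x : ℤ) : ℤ := p.foldr (fun a acc => a + x * acc) 0

/-- Sum of coefficient lists. -/
def addP : List ℤ → List ℤ → List ℤ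
  | [], q => q
  | p, [] => p
  | a :: p, b :: q => (a + b) :: addP p q

/-- Product of coefficient lists. -/
def mulP : List ℤ → List ℤ → List ℤ
  | [], _ => []
  | a :: p, q => addP (q.map (a * ·)) (0 :: mulP p q)

/-- A power of the variable. -/
def monP : ℕ → List ℤ
  | 0 => [1]
  | k + 1 => 0 :: monP k

/-- The sum of the powers of the variable with the listed exponents. -/
def genP : List ℕ → List ℤ
  | [] => []
  | k :: l => addP (monP k) (genP l)

/-- The product of a list of coefficient lists. -/
def prodP : List (List ℤ) → List ℤ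
  | [] => [1]
  | p :: l => mulP p (prodP l)

theorem eval_addP (x : ℤ) : ∀ p q, evalP (addP p q) x = evalP p x + evalP q x
  | [], q => by simp [addP, evalP]
  | a :: p, [] => by simp [addP, evalP]
  | a :: p, b :: q => by
    simp only [addP, evalP, List.foldr_cons]
    have := eval_addP x p q
    simp only [evalP] at this
    rw [this]; ring

theorem eval_smul (x a : ℤ) : ∀ q : List ℤ, evalP (q.map (a * ·)) x = a * evalP q x
  | [] => by simp [evalP]
  | b :: q => by
    have := eval_smul x a q
    simp only [evalP, List.map_cons, List.foldr_cons] at this ⊢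
    rw [this]; ring

theorem eval_mulP (x : ℤ) : ∀ p q, evalP (mulP p q) x = evalP p x * evalP q x
  | [], q => by simp [mulP, evalP]
  | a :: p, q => by
    have h := eval_mulP x p q
    rw [mulP, eval_addP, eval_smul]
    simp only [evalP, List.foldr_cons] at h ⊢
    rw [h]; ring

theorem eval_monP (x : ℤ) : ∀ k, evalP (monP k) x = x ^ k
  | 0 => by simp [monP, evalP]
  | k + 1 => by
    have := eval_monP x k
    simp only [monP, evalP, List.foldr_cons] at this ⊢
    rw [this]; ring

theorem eval_genP (x : ℤ) : ∀ l, evalP (genP l) x = (l.map fun k => x ^ k).sum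
  | [] => by simp [genP, evalP]
  | k :: l => by rw [genP, eval_addP, eval_monP, eval_genP x l, List.map_cons, List.sum_cons]

theorem eval_prodP (x : ℤ) : ∀ l, evalP (prodP l) x = (l.map fun p => evalP p x).prod
  | [] => by simp [prodP, evalP]
  | p :: l => by rw [prodP, eval_mulP, eval_prodP x l, List.map_cons, List.prod_cons]

/-- The identity between the Poincaré polynomial and the degrees, as coefficient lists. -/
def polyChk (Ls : List Lev) (degs : List ℕ) : Bool :=
  prodP ((List.replicate degs.length [-1, 1]) ++ Ls.map fun L => genP (L.reps.map fun d => d.len)) ==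
    prodP (degs.map fun d => addP (monP d) [-1])

theorem poly_eq {Ls : List Lev} {degs : List ℕ} (h : polyChk Ls degs = true) {q : ℕ} (hq : 1 ≤ q) :
    (q - 1) ^ degs.length * (Ls.map fun L => (L.reps.map fun d => q ^ d.len).sum).prod =
      (degs.map fun d => q ^ d - 1).prod := by
  have h1 := congrArg (fun p => evalP p (q : ℤ)) (eq_of_beq h)
  simp only [eval_prodP, List.map_append, List.prod_append, List.map_map, List.map_replicate,
    List.prod_replicate] at h1
  have e : evalP [-1, 1] (q : ℤ) = ((q - 1 : ℕ) : ℤ) := by
    rw [Nat.cast_sub hq]; simp [evalP]; ring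
  have e1 : (Ls.map ((fun p => evalP p (q : ℤ)) ∘ fun L => genP (L.reps.map fun d => d.len))).prod =
      ((Ls.map fun L => (L.reps.map fun d => q ^ d.len).sum).prod : ℕ) := by
    rw [Nat.cast_list_prod, List.map_map]
    congr 1
    refine List.map_congr_left fun L _ => ?_
    simp only [Function.comp_apply, eval_genP, List.map_map, Nat.cast_list_sum]
    simp [Function.comp_def]
  have e2 : (degs.map ((fun p => evalP p (q : ℤ)) ∘ fun d => addP (monP d) [-1])).prod =
      ((degs.map fun d => q ^ d - 1).prod : ℕ) := by
    rw [Nat.cast_list_prod, List.map_map]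
    congr 1
    refine List.map_congr_left fun d _ => ?_
    simp only [Function.comp_apply, eval_addP, eval_monP]
    rw [Nat.cast_sub (Nat.one_le_pow _ _ hq)]
    simp [evalP]
    ring
  rw [e, e1, e2] at h1
  exact_mod_cast h1

theorem order_formula {D : ChevalleyDatum} {T : Tab} (hC : Certified D T) {F : Type*} [Field F]
    [Fintype F] {Ls : List Lev} (hLs : chainLevChk T Ls = true) (htop : topChk T Ls = true)
    {degs : List ℕ} (hpoly : polyChk Ls degs = true) (hlen : degs.length = D.rank) {g : ℕ}
    (hH : g * Nat.card (D.diagonalSubgroup F) = (Fintype.card F - 1) ^ D.rank) {N : ℕ}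
    (hN : D.nroots / 2 = N) :
    g * Nat.card (D.group F) =
      Fintype.card F ^ N * (degs.map fun d => Fintype.card F ^ d - 1).prod := by
  rw [Cfsg.Agent.Chevalley.Order.card_group hC hLs htop, Cfsg.Agent.Chevalley.Order.card_B hC,
    Cfsg.Agent.Chevalley.Count.card_U hC, Cfsg.Agent.Chevalley.Count.card_posRoots hC, hN,
    Nat.card_eq_fintype_card, ← poly_eq hpoly Fintype.card_pos, hlen, ← hH]
  ring

end Cfsg.Agent.Chevalley.Poincare
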