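import Cfsg.Agent.Lib.Chevalley.Weyl

/-!
Enumerations of a Weyl group along a chain of standard parabolic subgroups, validated by a finite check:
for each step a list of minimal coset representatives, given by their actions on the roots.
-/

set_option autoImplicit false

namespace Cfsg.Agent.Chevalley.WeylEnum

open Cfsg.Lie Cfsg.Agent.Chevalley.Eval Cfsg.Agent.Chevalley.Table Cfsg.Agent.Chevalley.Check
  Cfsg.Agent.Chevalley.Cert Cfsg.Agent.Chevalley.Group Cfsg.Agent.Chevalley.Unip
  Cfsg.Agent.Chevalley.Borel Cfsg.Agent.Chevalley.Weyl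

/-- A coset representative: its parent and letter, its packed action, its length, and the packed
outcomes of multiplying it on the left by each fundamental reflection. -/
structure Rep where
  par : ℕ
  letter : ℕ
  img : ℕ
  len : ℕ
  succ : ℕ

/-- One step of the chain: the letters of `J`, the packed indicator of the roots spanned by the
previous set of letters, the representatives. -/
structure Lev where
  J : List ℕ
  mask : ℕ
  reps : List Rep

/-- The action of a representative. -/
def Rep.act (d : Rep) (r : ℕ) : ℕ := slot 8 d.img r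

/-- The outcome of left multiplication by the letter in position `a`. -/
def Rep.next (d : Rep) (a : ℕ) : ℕ := slot 16 d.succ a

/-- Membership in the indicator. -/
def Lev.inM (L : Lev) (r : ℕ) : Bool := Nat.beq (slot 1 L.mask r) 1

/-- Element of a list, recursively. -/
noncomputable def nth {α : Type} (L : List α) (d : α) : ℕ → α :=
  List.rec (fun _ => d) (fun a _ ih k => bif Nat.beq k 0 then a else ih (Nat.sub k 1)) L

/-- Membership, recursively. -/
noncomputable def memB (a : ℕ) (L : List ℕ) : Bool :=
  List.rec false (fun b _ ih => bif Nat.beq a b then true else ih) L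

/-- Length, recursively. -/
noncomputable def cnt {α : Type} (L : List α) : ℕ := List.rec 0 (fun _ _ ih => Nat.add ih 1) L

/-- Every element, with its position. -/
noncomputable def allIdx {α : Type} (p : ℕ → α → Bool) (L : List α) : Bool :=
  List.rec (fun _ => true) (fun a _ ih k => bif p k a then ih (Nat.add k 1) else false) L 0

/-- A dummy representative. -/
def noRep : Rep := ⟨0, 0, 0, 0, 0⟩

variable (T : Tab)

/-- The number of positive roots a representative makes negative. -/
noncomputable def invCount (d : Rep) : ℕ :=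
  Nat.rec 0 (fun r ih =>
    bif iblt 0 (T.phi r) && iblt (T.phi (d.act r)) 0 then Nat.add ih 1 else ih) T.n

/-- Two representatives agree on the fundamental roots. -/
noncomputable def sameSimple (d d' : Rep) : Bool :=
  allR T.l fun i => Nat.beq (d.act (T.simple i)) (d'.act (T.simple i))

/-- The checks on one representative. -/
noncomputable def repChk (L : Lev) (Jp : List ℕ) (k : ℕ) (d : Rep) : Bool :=
  ((bif Nat.beq k 0 then allR T.n fun r => Nat.beq (d.act r) r
    else Nat.blt d.par k && (memB d.letter L.J &&
      allR T.n fun r => Nat.beq (d.act r) (T.refl d.letter ((nth L.reps noRep d.par).act r)))) &&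
  (allR T.n fun r => !(L.inM r && iblt 0 (T.phi r)) || iblt 0 (T.phi (d.act r)))) &&
  (Nat.beq d.len (invCount T d) &&
  ((allIdx (fun a i =>
      bif Nat.blt (d.next a) (cnt L.reps) then
        allR T.l fun j => Nat.beq ((nth L.reps noRep (d.next a)).act (T.simple j))
          (T.refl i (d.act (T.simple j)))
      else memB (nth Jp 0 (Nat.sub (d.next a) (cnt L.reps))) Jp &&
        allR T.l fun j => Nat.beq (d.act (T.refl (nth Jp 0 (Nat.sub (d.next a) (cnt L.reps))) (T.simple j)))
          (T.refl i (d.act (T.simple j)))) L.J) &&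
  allIdx (fun k' d' => !Nat.blt k k' || !sameSimple T d d') L.reps))

/-- The checks on one step. -/
noncomputable def levChk (L : Lev) (Jp : List ℕ) : Bool :=
  ((allL (fun i => Nat.blt i T.l) L.J && allL (fun j => memB j L.J) Jp) &&
  (allL (fun j => L.inM (T.simple j)) Jp &&
  allR T.n fun r => !L.inM r || (L.inM (T.neg r) && allL (fun j => L.inM (T.refl j r)) Jp))) &&
  (Nat.blt 0 (cnt L.reps) && allIdx (repChk T L Jp) L.reps)

/-- The letters below a chain. -/
def lettersOf : List Lev → List ℕ
  | [] => []
  | L :: _ => L.J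

/-- The checks on a chain, the top step first. -/
noncomputable def chainLevChk : List Lev → Bool
  | [] => true
  | L :: rest => levChk T L (lettersOf rest) && chainLevChk rest

/-- The top step contains every letter. -/
noncomputable def topChk (Ls : List Lev) : Bool := allR T.l fun i => memB i (lettersOf Ls)

variable {T}

theorem nth_eq {α : Type} : ∀ (L : List α) (d : α) (k : ℕ), nth L d k = L.getD k d
  | [], _, _ => by simp [nth]
  | a :: L, d, 0 => rfl
  | a :: L, d, k + 1 => by
    rw [List.getD_cons_succ, ← nth_eq L d k]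
    rfl

theorem cnt_eq {α : Type} : ∀ L : List α, cnt L = L.length
  | [] => rfl
  | a :: L => by rw [List.length_cons, ← cnt_eq L]; rfl

theorem memB_iff {a : ℕ} : ∀ L : List ℕ, memB a L = true ↔ a ∈ L
  | [] => by simp [memB]
  | b :: L => by
    rw [List.mem_cons, ← memB_iff L]
    show (bif Nat.beq a b then true else memB a L) = true ↔ _
    cases h : Nat.beq a b with
    | true => simp [Nat.eq_of_beq_eq_true h]
    | false => simp [Nat.ne_of_beq_eq_false h]

theorem of_allIdx {α : Type} {p : ℕ → α → Bool} {L : List α} (h : allIdx p L = true) :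
    ∀ k (hk : k < L.length), p k L[k] = true := by
  suffices key : ∀ (L : List α) (m : ℕ),
      (List.rec (fun _ => true) (fun a _ ih k => bif p k a then ih (Nat.add k 1) else false) L
        : ℕ → Bool) m = true → ∀ k (hk : k < L.length), p (m + k) L[k] = true by
    intro k hk
    simpa using key L 0 h k hk
  intro L
  induction L with
  | nil => intro m _ k hk; simp at hk
  | cons a L ih =>
    intro m h k hk
    dsimp only at h
    cases hp : p m a with
    | false => rw [hp, cond_false] at h; exact absurd h (by simp)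
    | true =>
      rw [hp, cond_true] at h
      cases k with
      | zero => simpa using hp
      | succ k =>
        have := ih (m + 1) h k (by simpa using hk)
        simpa [Nat.add_assoc, Nat.add_comm 1 k] using this

variable {D : ChevalleyDatum}

/-- Words acting equally on the roots. -/
def Eqv (D : ChevalleyDatum) (L L' : List ℕ) : Prop := ∀ r < D.nroots, wL D L r = wL D L' r

/-- The positive roots a word makes negative. -/
noncomputable def invSet (D : ChevalleyDatum) (T : Tab) (L : List ℕ) : Finset ℕ :=
  (Finset.range D.nroots).filter fun r => 0 < T.phi r ∧ T.phi (wL D L r) < 0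

/-- Every root in the indicator. -/
def InM (D : ChevalleyDatum) (L : Lev) (r : ℕ) : Prop := r < D.nroots ∧ L.inM r = true

variable (hC : Certified D T)
include hC

theorem eqv_of_simple {L L' : List ℕ} (hL : ∀ i ∈ L, i < D.rank) (hL' : ∀ i ∈ L', i < D.rank)
    (h : ∀ i < D.rank, wL D L (D.simple i) = wL D L' (D.simple i)) : Eqv D L L' := by
  intro r hr
  have hLr : ∀ i ∈ L'.reverse, i < D.rank := fun i hi => hL' i (List.mem_reverse.1 hi)
  have hall : ∀ i ∈ L'.reverse ++ L, i < D.rank := fun i hi =>
    (List.mem_append.1 hi).elim (hLr i) (hL i)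
  have h1 : wL D (L'.reverse ++ L) r = r := by
    refine wL_eq_self_of_pos hC hall (fun i hi => ?_) hr
    rw [wL_append, h i hi, wL_reverse hC hL' (hC.simple_lt hi)]
    exact hC.phi_simple hi
  rw [wL_append] at h1
  have h2 := congrArg (wL D L') h1
  have hLrr : wL D L' (wL D L'.reverse (wL D L r)) = wL D L r := by
    simpa using wL_reverse hC hLr (wL_lt hC hL hr)
  rw [← h2, hLrr]

theorem eqv_append {A A' B B' : List ℕ} (hB : ∀ i ∈ B, i < D.rank) (h : Eqv D A A')
    (h' : Eqv D B B') : Eqv D (A ++ B) (A' ++ B') := by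
  intro r hr
  rw [wL_append, wL_append, ← h' r hr, h _ (wL_lt hC hB hr)]

section step

variable {L : Lev} {Jp : List ℕ} (hl : levChk T L Jp = true)
include hl

theorem J_lt : ∀ i ∈ L.J, i < D.rank := by
  simp only [levChk, Bool.and_eq_true] at hl
  intro i hi
  have := of_allL hl.1.1.1 i hi
  rw [Nat.blt_eq, hC.l_eq] at this
  exact this

theorem Jp_sub : ∀ i ∈ Jp, i ∈ L.J := by
  simp only [levChk, Bool.and_eq_true] at hl
  exact fun i hi => (memB_iff L.J).1 (of_allL hl.1.1.2 i hi)

theorem simple_inM {j : ℕ} (hj : j ∈ Jp) : InM D L (D.simple j) := by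
  have hjr := J_lt hC hl j (Jp_sub hC hl j hj)
  simp only [levChk, Bool.and_eq_true] at hl
  exact ⟨hC.simple_lt hjr, hC.simple_eq hjr ▸ of_allL hl.1.2.1 j hj⟩

theorem inM_neg {r : ℕ} (h : InM D L r) : InM D L (D.neg r) := by
  simp only [levChk, Bool.and_eq_true] at hl
  have h1 := of_allR hl.1.2.2 r (by rw [hC.n_eq]; exact h.1)
  simp only [h.2, Bool.not_true, Bool.false_or, Bool.and_eq_true] at h1
  exact ⟨hC.neg_lt h.1, hC.neg_eq h.1 ▸ h1.1⟩

theorem inM_reflect {j r : ℕ} (hj : j ∈ Jp) (h : InM D L r) : InM D L (D.reflectRoot j r) := by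
  have hjr := J_lt hC hl j (Jp_sub hC hl j hj)
  simp only [levChk, Bool.and_eq_true] at hl
  have h1 := of_allR hl.1.2.2 r (by rw [hC.n_eq]; exact h.1)
  simp only [h.2, Bool.not_true, Bool.false_or, Bool.and_eq_true] at h1
  exact ⟨hC.reflect_lt hjr h.1, hC.reflect_eq hjr h.1 ▸ of_allL h1.2 j hj⟩

/-- Words in the previous letters keep the indicator, and the positive roots outside it. -/
theorem wL_inM {v : List ℕ} (hv : ∀ i ∈ v, i ∈ Jp) {r : ℕ} (hr : r < D.nroots) :
    (InM D L r → InM D L (wL D v r)) ∧
      (¬ InM D L r → ¬ InM D L (wL D v r) ∧ (0 < T.phi r → 0 < T.phi (wL D v r))) := by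
  induction v with
  | nil => exact ⟨id, fun h => ⟨h, id⟩⟩
  | cons j v ih =>
    have hj := hv j List.mem_cons_self
    have hjr := J_lt hC hl j (Jp_sub hC hl j hj)
    obtain ⟨ih1, ih2⟩ := ih fun i hi => hv i (List.mem_cons_of_mem j hi)
    have hlt : wL D v r < D.nroots := wL_lt hC (fun i hi =>
      J_lt hC hl i (Jp_sub hC hl i (hv i (List.mem_cons_of_mem j hi)))) hr
    show (InM D L r → InM D L (D.reflectRoot j (wL D v r))) ∧
      (¬ InM D L r → ¬ InM D L (D.reflectRoot j (wL D v r)) ∧
        (0 < T.phi r → 0 < T.phi (D.reflectRoot j (wL D v r))))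
    refine ⟨fun h => inM_reflect hC hl hj (ih1 h), fun h => ⟨fun h' => ?_, fun hp => ?_⟩⟩
    · have := inM_reflect hC hl hj h'
      rw [hC.reflect_reflect hjr hlt] at this
      exact (ih2 h).1 this
    · exact hC.reflect_pos hjr hlt (fun e => (ih2 h).1 (e ▸ simple_inM hC hl hj)) ((ih2 h).2 hp)

theorem repChk_of {k : ℕ} (hk : k < L.reps.length) : repChk T L Jp k L.reps[k] = true := by
  simp only [levChk, Bool.and_eq_true] at hl
  exact of_allIdx hl.2.2 k hk

theorem exists_word {k : ℕ} (hk : k < L.reps.length) :
    ∃ d : List ℕ, (∀ i ∈ d, i ∈ L.J) ∧ ∀ r < D.nroots, wL D d r = L.reps[k].act r := by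
  induction k using Nat.strong_induction_on with
  | _ k ih =>
    have h := repChk_of hC hl hk
    simp only [repChk, Bool.and_eq_true] at h
    by_cases h0 : k = 0
    · subst h0
      refine ⟨[], by simp, fun r hr => ?_⟩
      have h1 := h.1.1
      rw [Nat.beq_refl, cond_true] at h1
      exact (Nat.eq_of_beq_eq_true (of_allR h1 r (by rw [hC.n_eq]; exact hr))).symm
    · have h1 := h.1.1
      rw [Bool.eq_false_iff.2 (fun hb => h0 (Nat.eq_of_beq_eq_true hb)), cond_false] at h1
      simp only [Bool.and_eq_true, Nat.blt_eq, memB_iff] at h1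
      obtain ⟨hp, hlet, hall⟩ := h1
      obtain ⟨d, hd, hde⟩ := ih _ hp (hp.trans hk)
      refine ⟨L.reps[k].letter :: d, fun i hi => ?_, fun r hr => ?_⟩
      · rcases List.mem_cons.1 hi with rfl | hi
        exacts [hlet, hd i hi]
      · have h2 := Nat.eq_of_beq_eq_true (of_allR hall r (by rw [hC.n_eq]; exact hr))
        have hlt : wL D d r < D.nroots :=
          wL_lt hC (fun i hi => J_lt hC hl i (hd i hi)) hr
        rw [nth_eq, List.getD_eq_getElem _ _ (hp.trans hk), ← hde r hr,
          ← hC.reflect_eq (J_lt hC hl _ hlet) hlt] at h2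
        rw [h2]; rfl

theorem act_pos {k : ℕ} (hk : k < L.reps.length) {d : List ℕ}
    (hde : ∀ r < D.nroots, wL D d r = L.reps[k].act r) {r : ℕ} (hr : InM D L r)
    (hp : 0 < T.phi r) : 0 < T.phi (wL D d r) := by
  have h := repChk_of hC hl hk
  simp only [repChk, Bool.and_eq_true] at h
  have h1 := of_allR h.1.2 r (by rw [hC.n_eq]; exact hr.1)
  rw [hr.2, (iblt_iff _ _).2 hp] at h1
  simp only [Bool.and_self, Bool.not_true, Bool.false_or, iblt_iff] at h1
  rw [hde r hr.1]; exact h1

theorem len_eq {k : ℕ} (hk : k < L.reps.length) {d : List ℕ}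
    (hde : ∀ r < D.nroots, wL D d r = L.reps[k].act r) :
    (invSet D T d).card = L.reps[k].len := by
  have h := repChk_of hC hl hk
  simp only [repChk, Bool.and_eq_true] at h
  rw [Nat.eq_of_beq_eq_true h.2.1, invSet]
  have key : ∀ m ≤ D.nroots,
      ((Finset.range m).filter fun r => 0 < T.phi r ∧ T.phi (wL D d r) < 0).card =
        (Nat.rec 0 (fun r ih =>
          bif iblt 0 (T.phi r) && iblt (T.phi (L.reps[k].act r)) 0 then Nat.add ih 1 else ih) m : ℕ) := by
    intro m
    induction m with
    | zero => intro _; rfl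
    | succ m ih =>
      intro hm
      have e := ih (Nat.le_of_succ_le hm)
      rw [Finset.range_add_one, Finset.filter_insert]
      show _ = bif iblt 0 (T.phi m) && iblt (T.phi (L.reps[k].act m)) 0 then Nat.add _ 1 else _
      by_cases hcnd : 0 < T.phi m ∧ T.phi (wL D d m) < 0
      · rw [if_pos hcnd, Finset.card_insert_of_notMem (by simp), e,
          (iblt_iff _ _).2 hcnd.1, ← hde m (Nat.lt_of_succ_le hm), (iblt_iff _ _).2 hcnd.2]
        rfl
      · have hb : (iblt 0 (T.phi m) && iblt (T.phi (L.reps[k].act m)) 0) = false := by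
          rw [Bool.eq_false_iff]
          intro hb
          rw [Bool.and_eq_true, iblt_iff, iblt_iff, ← hde m (Nat.lt_of_succ_le hm)] at hb
          exact hcnd hb
        rw [if_neg hcnd, e, hb, cond_false]
  rw [key D.nroots le_rfl, invCount, hC.n_eq]

theorem invSet_append {k : ℕ} (hk : k < L.reps.length) {d v : List ℕ}
    (hd : ∀ i ∈ d, i ∈ L.J) (hde : ∀ r < D.nroots, wL D d r = L.reps[k].act r)
    (hv : ∀ i ∈ v, i ∈ Jp) :
    (invSet D T (d ++ v)).card = L.reps[k].len + (invSet D T v).card := by
  have hdr : ∀ i ∈ d, i < D.rank := fun i hi => J_lt hC hl i (hd i hi)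
  have hvr : ∀ i ∈ v, i < D.rank := fun i hi => J_lt hC hl i (Jp_sub hC hl i (hv i hi))
  have hvrr : ∀ i ∈ v.reverse, i < D.rank := fun i hi => hvr i (List.mem_reverse.1 hi)
  have hvJ : ∀ i ∈ v.reverse, i ∈ Jp := fun i hi => hv i (List.mem_reverse.1 hi)
  have hback : ∀ {r}, r < D.nroots → wL D v (wL D v.reverse r) = r := fun {r} hr => by
    simpa using wL_reverse hC hvrr hr
  have hdM : ∀ {r}, r ∈ invSet D T d → ¬ InM D L r := by
    intro r hr hM
    simp only [invSet, Finset.mem_filter] at hr
    have := act_pos hC hl hk hde hM hr.2.1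
    omega
  have hneg : ∀ {r}, InM D L r → T.phi r < 0 → T.phi (wL D d r) < 0 := by
    intro r hM hn
    have := act_pos hC hl hk hde (inM_neg hC hl hM) (by rw [hC.phi_neg hM.1]; omega)
    rw [wL_neg hC hdr hM.1, hC.phi_neg (wL_lt hC hdr hM.1)] at this
    omega
  have e : invSet D T (d ++ v) = invSet D T v ∪ (invSet D T d).image (wL D v.reverse) := by
    ext r
    simp only [Finset.mem_union, Finset.mem_image]
    constructor
    · intro h
      simp only [invSet, Finset.mem_filter, Finset.mem_range, wL_append] at h ⊢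
      obtain ⟨hr, hp, hn⟩ := h
      by_cases hM : InM D L r
      · have hMv := (wL_inM hC hl hv hr).1 hM
        have := hC.phi_ne_zero hMv.1
        refine Or.inl ⟨hr, hp, ?_⟩
        by_contra hcon
        have := act_pos hC hl hk hde hMv (by omega)
        omega
      · exact Or.inr ⟨wL D v r, ⟨wL_lt hC hvr hr, ((wL_inM hC hl hv hr).2 hM).2 hp, hn⟩,
          wL_reverse hC hvr hr⟩
    · intro h
      simp only [invSet, Finset.mem_filter, Finset.mem_range, wL_append]
      rcases h with h | ⟨s, hs, rfl⟩
      · simp only [invSet, Finset.mem_filter, Finset.mem_range] at h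
        obtain ⟨hr, hp, hn⟩ := h
        have hM : InM D L r := by
          by_contra hM
          have := ((wL_inM hC hl hv hr).2 hM).2 hp
          omega
        exact ⟨hr, hp, hneg ((wL_inM hC hl hv hr).1 hM) hn⟩
      · have hs2 := hdM hs
        simp only [invSet, Finset.mem_filter, Finset.mem_range] at hs
        refine ⟨wL_lt hC hvrr hs.1, ((wL_inM hC hl hvJ hs.1).2 hs2).2 hs.2.1, ?_⟩
        rw [hback hs.1]
        exact hs.2.2
  rw [e, Finset.card_union_of_disjoint, Finset.card_image_of_injOn, len_eq hC hl hk hde, add_comm]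
  · intro a ha b hb h
    simp only [invSet, Finset.coe_filter, Finset.mem_range, Set.mem_setOf_eq] at ha hb
    exact wL_injective hC hvrr ha.1 hb.1 h
  · rw [Finset.disjoint_left]
    intro r hr hr'
    obtain ⟨s, hs, rfl⟩ := Finset.mem_image.1 hr'
    simp only [invSet, Finset.mem_filter, Finset.mem_range] at hr
    have hs2 := hdM hs
    simp only [invSet, Finset.mem_filter, Finset.mem_range] at hs
    rw [hback hs.1] at hr
    omega

theorem next_step {k : ℕ} (hk : k < L.reps.length) {d : List ℕ}
    (hd : ∀ i ∈ d, i ∈ L.J) (hde : ∀ r < D.nroots, wL D d r = L.reps[k].act r) {i : ℕ}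
    (hi : i ∈ L.J) :
    (∃ (k' : ℕ) (hk' : k' < L.reps.length), ∀ d' : List ℕ, (∀ i ∈ d', i ∈ L.J) →
        (∀ r < D.nroots, wL D d' r = L.reps[k'].act r) → Eqv D (i :: d) d') ∨
      ∃ j ∈ Jp, Eqv D (i :: d) (d ++ [j]) := by
  have hdr : ∀ i ∈ d, i < D.rank := fun i hi => J_lt hC hl i (hd i hi)
  have hir := J_lt hC hl i hi
  have hid : ∀ a ∈ i :: d, a < D.rank := by
    intro a ha
    rcases List.mem_cons.1 ha with rfl | ha
    exacts [hir, hdr a ha]
  obtain ⟨a, ha, hae⟩ := List.getElem_of_mem hi
  have h := repChk_of hC hl hk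
  simp only [repChk, Bool.and_eq_true] at h
  have h1 := of_allIdx h.2.2.1 a ha
  rw [hae] at h1
  cases hb : Nat.blt (L.reps[k].next a) (cnt L.reps) with
  | true =>
    rw [hb, cond_true] at h1
    rw [Nat.blt_eq, cnt_eq] at hb
    refine Or.inl ⟨_, hb, fun d' hd' hde' => eqv_of_simple hC hid
      (fun b hb => J_lt hC hl b (hd' b hb)) fun j hj => ?_⟩
    have h2 := Nat.eq_of_beq_eq_true (of_allR h1 j (by rw [hC.l_eq]; exact hj))
    rw [nth_eq, List.getD_eq_getElem _ _ hb, hC.simple_eq hj, ← hde' _ (hC.simple_lt hj),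
      ← hde _ (hC.simple_lt hj), ← hC.reflect_eq hir (wL_lt hC hdr (hC.simple_lt hj))] at h2
    rw [h2]; rfl
  | false =>
    rw [hb, cond_false, Bool.and_eq_true, memB_iff] at h1
    obtain ⟨hmem, hall⟩ := h1
    refine Or.inr ⟨_, hmem, eqv_of_simple hC hid (fun b hb => ?_) fun j hj => ?_⟩
    · rcases List.mem_append.1 hb with hb | hb
      · exact hdr b hb
      · exact List.mem_singleton.1 hb ▸ J_lt hC hl _ (Jp_sub hC hl _ hmem)
    · have hjr := J_lt hC hl _ (Jp_sub hC hl _ hmem)
      have h2 := Nat.eq_of_beq_eq_true (of_allR hall j (by rw [hC.l_eq]; exact hj))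
      have hlt := hC.reflect_lt hjr (hC.simple_lt hj)
      rw [hC.simple_eq hj, ← hC.reflect_eq hjr (hC.simple_lt hj), ← hde _ hlt,
        ← hde _ (hC.simple_lt hj), ← hC.reflect_eq hir (wL_lt hC hdr (hC.simple_lt hj))] at h2
      rw [wL_append]
      exact h2.symm

theorem rep_inj {k k' : ℕ} (hk : k < L.reps.length) (hk' : k' < L.reps.length) {d d' v v' : List ℕ}
    (hd : ∀ i ∈ d, i ∈ L.J) (hd' : ∀ i ∈ d', i ∈ L.J)
    (hde : ∀ r < D.nroots, wL D d r = L.reps[k].act r)
    (hde' : ∀ r < D.nroots, wL D d' r = L.reps[k'].act r)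
    (hv : ∀ i ∈ v, i ∈ Jp) (hv' : ∀ i ∈ v', i ∈ Jp) (h : Eqv D (d ++ v) (d' ++ v')) : k = k' := by
  have hvr : ∀ i ∈ v, i < D.rank := fun i hi => J_lt hC hl i (Jp_sub hC hl i (hv i hi))
  have hvrr : ∀ i ∈ v.reverse, i < D.rank := fun i hi => hvr i (List.mem_reverse.1 hi)
  have hdr' : ∀ i ∈ d', i < D.rank := fun i hi => J_lt hC hl i (hd' i hi)
  -- `d = d' u` with `u` a word in the previous letters
  have huJ : ∀ i ∈ v' ++ v.reverse, i ∈ Jp := fun i hi =>
    (List.mem_append.1 hi).elim (hv' i) fun h => hv i (List.mem_reverse.1 h)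
  have hur : ∀ i ∈ v' ++ v.reverse, i < D.rank := fun i hi =>
    J_lt hC hl i (Jp_sub hC hl i (huJ i hi))
  have hrel : ∀ r < D.nroots, wL D d r = wL D d' (wL D (v' ++ v.reverse) r) := by
    intro r hr
    have h1 := h _ (wL_lt hC hvrr hr)
    rw [wL_append, wL_append, show wL D v (wL D v.reverse r) = r by
      simpa using wL_reverse hC hvrr hr] at h1
    rw [h1, wL_append]
  have hid : ∀ r < D.nroots, wL D (v' ++ v.reverse) r = r := by
    refine fun r hr => wL_eq_self_of_pos hC hur (fun i hi => ?_) hr
    have hs := hC.simple_lt hi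
    by_cases hM : InM D L (D.simple i)
    · by_contra hcon
      have hM' := (wL_inM hC hl huJ hs).1 hM
      have h0 := hC.phi_ne_zero hM'.1
      have h1 := act_pos hC hl hk' hde' (inM_neg hC hl hM') (by rw [hC.phi_neg hM'.1]; omega)
      rw [wL_neg hC hdr' hM'.1, hC.phi_neg (wL_lt hC hdr' hM'.1), ← hrel _ hs] at h1
      have h2 := act_pos hC hl hk hde hM (hC.phi_simple hi)
      omega
    · exact ((wL_inM hC hl huJ hs).2 hM).2 (hC.phi_simple hi)
  have hsame : ∀ i < D.rank, L.reps[k].act (T.simple i) = L.reps[k'].act (T.simple i) := by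
    intro i hi
    have hs := hC.simple_lt hi
    rw [hC.simple_eq hi, ← hde _ hs, ← hde' _ hs, hrel _ hs, hid _ hs]
  by_contra hne
  have key : ∀ {k k'} (hk : k < L.reps.length) (hk' : k' < L.reps.length), k < k' →
      sameSimple T L.reps[k] L.reps[k'] = true → False := by
    intro k k' hk hk' hlt hs
    have h1 := repChk_of hC hl hk
    simp only [repChk, Bool.and_eq_true] at h1
    have h2 := of_allIdx h1.2.2.2 k' hk'
    have hb : Nat.blt k k' = true := by rw [Nat.blt_eq]; exact hlt
    simp only [hb, hs, Bool.not_true, Bool.or_self] at h2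
    exact Bool.false_ne_true h2
  have hsim : ∀ {a b : Rep}, (∀ i < D.rank, a.act (T.simple i) = b.act (T.simple i)) →
      sameSimple T a b = true := by
    intro a b hab
    have : ∀ m ≤ T.l, allR m (fun i => Nat.beq (a.act (T.simple i)) (b.act (T.simple i))) = true := by
      intro m
      induction m with
      | zero => intro _; rfl
      | succ m ih =>
        intro hm
        show (bif Nat.beq (a.act (T.simple m)) (b.act (T.simple m)) then allR m _ else false) = true
        rw [hab m (by rw [← hC.l_eq]; omega), Nat.beq_refl, cond_true]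
        exact ih (by omega)
    exact this T.l le_rfl
  rcases Nat.lt_or_gt_of_ne hne with h1 | h1
  · exact key hk hk' h1 (hsim hsame)
  · exact key hk' hk h1 (hsim fun i hi => (hsame i hi).symm)

end step

/-- A checked chain enumerates the words in its letters, with the generating function of the lengths. -/
theorem exists_enum {S : Type*} [CommSemiring S] (x : S) :
    ∀ Ls : List Lev, chainLevChk T Ls = true →
      ∃ E : List (List ℕ), (∀ e ∈ E, ∀ i ∈ e, i ∈ lettersOf Ls) ∧
        (∀ w : List ℕ, (∀ i ∈ w, i ∈ lettersOf Ls) → ∃ e ∈ E, Eqv D w e) ∧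
        E.Pairwise (fun e e' => ¬ Eqv D e e') ∧
        (E.map fun e => x ^ (invSet D T e).card).sum =
          (Ls.map fun L => (L.reps.map fun d => x ^ d.len).sum).prod := by
  intro Ls
  induction Ls with
  | nil =>
    intro _
    refine ⟨[[]], fun e he i hi => ?_, fun w hw => ⟨[], List.mem_singleton_self _, ?_⟩,
      List.pairwise_singleton _ _, ?_⟩
    · rw [List.mem_singleton] at he
      subst he
      exact absurd hi List.not_mem_nil
    · cases w with
      | nil => exact fun r _ => rfl
      | cons a w => exact absurd (hw a List.mem_cons_self) List.not_mem_nil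
    · have : invSet D T [] = ∅ := by
        rw [invSet, Finset.filter_eq_empty_iff]
        intro r _ h
        simp only [wL, List.foldr_nil] at h
        omega
      simp [this]
  | cons L rest ih =>
    intro hchk
    simp only [chainLevChk, Bool.and_eq_true] at hchk
    obtain ⟨hl, hrest⟩ := hchk
    obtain ⟨E, hE1, hE2, hE3, hE4⟩ := ih hrest
    choose wd hwd hwde using fun k : Fin L.reps.length => exists_word hC hl k.2
    refine ⟨(List.finRange L.reps.length).flatMap fun k => E.map fun e => wd k ++ e,
      fun e he i hi => ?_, ?_, ?_, ?_⟩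
    · simp only [List.mem_flatMap, List.mem_map] at he
      obtain ⟨k, -, e', he', rfl⟩ := he
      rcases List.mem_append.1 hi with hi | hi
      · exact hwd k i hi
      · exact Jp_sub hC hl i (hE1 e' he' i hi)
    · intro w
      induction w with
      | nil =>
        intro _
        have h0 : 0 < L.reps.length := by
          simp only [levChk, Bool.and_eq_true, Nat.blt_eq, cnt_eq] at hl
          exact hl.2.1
        obtain ⟨e, he, hee⟩ := hE2 [] (by simp)
        refine ⟨wd ⟨0, h0⟩ ++ e, List.mem_flatMap.2 ⟨_, List.mem_finRange _,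
          List.mem_map.2 ⟨e, he, rfl⟩⟩, fun r hr => ?_⟩
        have her : ∀ i ∈ e, i < D.rank := fun i hi => J_lt hC hl i (Jp_sub hC hl i (hE1 e he i hi))
        have h := repChk_of hC hl h0
        simp only [repChk, Bool.and_eq_true, Nat.beq_refl, cond_true] at h
        rw [wL_append, hwde ⟨0, h0⟩ _ (wL_lt hC her hr),
          Nat.eq_of_beq_eq_true (of_allR h.1.1 _ (by rw [hC.n_eq]; exact wL_lt hC her hr))]
        exact hee r hr
      | cons i w ihw =>
        intro hw
        have hiJ : i ∈ L.J := hw i List.mem_cons_self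
        obtain ⟨e0, he0, he0e⟩ := ihw fun j hj => hw j (List.mem_cons_of_mem i hj)
        simp only [List.mem_flatMap, List.mem_map] at he0
        obtain ⟨k, -, e, he, rfl⟩ := he0
        have her : ∀ i ∈ e, i < D.rank := fun i hi => J_lt hC hl i (Jp_sub hC hl i (hE1 e he i hi))
        have h1 : ∀ r < D.nroots, wL D (i :: w) r = wL D ((i :: wd k) ++ e) r := fun r hr => by
          show D.reflectRoot i (wL D w r) = D.reflectRoot i (wL D (wd k ++ e) r)
          rw [he0e r hr]
        rcases next_step hC hl k.2 (hwd k) (hwde k) hiJ with ⟨k', hk', h⟩ | ⟨j, hj, h⟩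
        · refine ⟨wd ⟨k', hk'⟩ ++ e, List.mem_flatMap.2 ⟨_, List.mem_finRange _,
            List.mem_map.2 ⟨e, he, rfl⟩⟩, fun r hr => (h1 r hr).trans ?_⟩
          exact eqv_append hC her (h _ (hwd _) (hwde ⟨k', hk'⟩)) (fun _ _ => rfl) r hr
        · obtain ⟨e', he', hee'⟩ := hE2 (j :: e) (by
            intro b hb
            rcases List.mem_cons.1 hb with rfl | hb
            exacts [hj, hE1 e he b hb])
          refine ⟨wd k ++ e', List.mem_flatMap.2 ⟨_, List.mem_finRange _,
            List.mem_map.2 ⟨e', he', rfl⟩⟩, fun r hr => (h1 r hr).trans ?_⟩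
          rw [wL_append, h _ (wL_lt hC her hr), ← wL_append, List.append_assoc, wL_append]
          rw [show wL D ([j] ++ e) r = wL D e' r from hee' r hr, ← wL_append]
    · rw [List.pairwise_flatMap]
      refine ⟨fun k _ => ?_, ?_⟩
      · rw [List.pairwise_map]
        refine hE3.imp_of_mem fun {a b} ha hb hab h => hab fun r hr => ?_
        have har : ∀ i ∈ a, i < D.rank := fun i hi => J_lt hC hl i (Jp_sub hC hl i (hE1 a ha i hi))
        have hbr : ∀ i ∈ b, i < D.rank := fun i hi => J_lt hC hl i (Jp_sub hC hl i (hE1 b hb i hi))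
        have h' := h r hr
        rw [wL_append, wL_append] at h'
        exact wL_injective hC (fun i hi => J_lt hC hl i (hwd k i hi)) (wL_lt hC har hr)
          (wL_lt hC hbr hr) h'
      · refine List.Nodup.pairwise_of_forall_ne (List.nodup_finRange _) fun k _ k' _ hne => ?_
        intro a ha b hb h
        simp only [List.mem_map] at ha hb
        obtain ⟨e, he, rfl⟩ := ha
        obtain ⟨e', he', rfl⟩ := hb
        exact hne (Fin.ext (rep_inj hC hl k.2 k'.2 (hwd k) (hwd k') (hwde k) (hwde k')
          (hE1 e he) (hE1 e' he') h))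
    · have e1 : ((List.finRange L.reps.length).flatMap fun k => E.map fun e => wd k ++ e).map
          (fun e => x ^ (invSet D T e).card) =
          (List.finRange L.reps.length).flatMap fun k : Fin L.reps.length =>
            E.map fun e => x ^ (L.reps[k.1].len + (invSet D T e).card) := by
        rw [List.map_flatMap]
        refine List.flatMap_congr fun k _ => ?_
        rw [List.map_map]
        refine List.map_congr_left fun e he => ?_
        rw [Function.comp_apply, invSet_append hC hl k.2 (hwd k) (hwde k) (hE1 e he)]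
      rw [e1, List.flatMap_def, List.sum_flatten, List.map_map, List.map_cons, List.prod_cons, ← hE4]
      have e2 : (List.finRange L.reps.length).map (fun k : Fin L.reps.length =>
          (E.map fun e => x ^ (L.reps[k.1].len + (invSet D T e).card)).sum) =
          (L.reps.map fun d => x ^ d.len).map
            (fun y => y * (E.map fun e => x ^ (invSet D T e).card).sum) := by
        rw [List.map_map]
        conv_rhs => rw [← List.ofFn_getElem (xs := L.reps), List.ofFn_eq_map, List.map_map]
        refine List.map_congr_left fun k _ => ?_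
        simp only [Function.comp_apply, pow_add, List.sum_map_mul_left]
      simp only [Function.comp_def]
      rw [e2, List.sum_map_mul_right, List.map_id']

end Cfsg.Agent.Chevalley.WeylEnum
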