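import Cfsg.Agent.Lib.Chevalley.NormalForm
import Cfsg.Agent.Lib.Chevalley.Count
import Cfsg.Agent.Lib.Chevalley.WeylEnum

/-!
The order of a Chevalley group from an enumeration of its Weyl group.
-/

set_option autoImplicit false

open scoped Matrix

namespace Cfsg.Agent.Chevalley.Order

open Cfsg.Lie Cfsg.Agent.Chevalley.Eval Cfsg.Agent.Chevalley.Table Cfsg.Agent.Chevalley.Check
  Cfsg.Agent.Chevalley.Cert Cfsg.Agent.Chevalley.Group Cfsg.Agent.Chevalley.Weight
  Cfsg.Agent.Chevalley.Unip Cfsg.Agent.Chevalley.Borel Cfsg.Agent.Chevalley.Weyl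
  Cfsg.Agent.Chevalley.Bruhat Cfsg.Agent.Chevalley.NormalForm Cfsg.Agent.Chevalley.Count
  Cfsg.Agent.Chevalley.WeylEnum

variable {D : ChevalleyDatum} {F : Type*} [Field F] {T : Tab}
variable (hC : Certified D T)
include hC

theorem invList_congr {L L' : List ℕ} (h : Eqv D L L') : invList D T L = invList D T L' :=
  List.filter_congr fun r hr => by rw [h r ((mem_posRoots hC).1 hr).1]

theorem invList_length (L : List ℕ) : (invList D T L).length = (invSet D T L).card := by
  classical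
  have hnd : (invList D T L).Nodup := (posRoots_sorted.filter _).imp ne_of_lt
  rw [← List.toFinset_card_of_nodup hnd]
  congr 1
  ext r
  simp [invSet, mem_invList hC]

theorem nL_eq_tor_mul {L e : List ℕ} (hL : ∀ i ∈ L, i < D.rank) (he : ∀ i ∈ e, i < D.rank)
    (h : Eqv D L e) : ∃ c : ℕ → Fˣ, nL hC F L = tor D c * nL hC F e := by
  have her : ∀ i ∈ e.reverse, i < D.rank := fun i hi => he i (List.mem_reverse.1 hi)
  have hall : ∀ {A B : List ℕ}, (∀ i ∈ A, i < D.rank) → (∀ i ∈ B, i < D.rank) →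
      ∀ i ∈ A ++ B, i < D.rank := fun hA hB i hi => (List.mem_append.1 hi).elim (hA i) (hB i)
  obtain ⟨c, hc⟩ := exists_tor_of_pos (F := F) hC (hall her hL) fun i hi => by
    rw [wL_append, h _ (hC.simple_lt hi), wL_reverse hC he (hC.simple_lt hi)]
    exact hC.phi_simple hi
  obtain ⟨d, hd⟩ := exists_tor_of_pos (F := F) hC (hall he her) fun i hi => by
    rw [wL_append, show wL D e (wL D e.reverse (D.simple i)) = D.simple i by
      simpa using wL_reverse hC her (hC.simple_lt hi)]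
    exact hC.phi_simple hi
  rw [nL_append] at hc hd
  obtain ⟨c', hc'⟩ := nL_conj_tor (F := F) hC he c
  refine ⟨d⁻¹ * c', ?_⟩
  rw [← tor_mul, ← tor_inv, mul_assoc, ← hc', ← hc, ← hd]
  group

theorem Uminus_congr {L e : List ℕ} (hL : ∀ i ∈ L, i < D.rank) (he : ∀ i ∈ e, i < D.rank)
    (h : Eqv D L e) (c c' : ℕ → Fˣ) :
    Uminus D F (tor D c * nL hC F L) = Uminus D F (tor D c' * nL hC F e) := by
  rw [Uminus_eq hC hL c, Uminus_eq hC he c', invList_congr hC h]

theorem card_Uminus [Fintype F] {L : List ℕ} (hL : ∀ i ∈ L, i < D.rank) (c : ℕ → Fˣ) :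
    Nat.card (Uminus D F (tor D c * nL hC F L)) = Fintype.card F ^ (invSet D T L).card := by
  classical
  rw [← invList_length hC, ← Nat.card_eq_fintype_card]
  refine card_prodX hC (posRoots_sorted.filter _) (fun r hr => ?_) (fun t => ?_) fun g hg => ?_
  · exact ⟨((mem_invList hC).1 hr).1, ((mem_invList hC).1 hr).2.1⟩
  · rw [Uminus_eq hC hL c]
    refine list_prod_mem fun g hg => ?_
    obtain ⟨r, hr, rfl⟩ := List.mem_map.1 hg
    exact Subgroup.subset_closure ⟨r, _, hr, rfl⟩
  · have hgU : g⁻¹ ∈ D.posUnipotent F := inv_mem (Uminus_le_U hC _ hg)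
    rw [← Uge_zero hC] at hgU
    obtain ⟨f, hf⟩ := split_decomp hC (fun r => decide (0 < T.phi (wL D L r))) 0 g⁻¹ hgU
    have hlist : ((posFrom D 0).filter fun r => !decide (0 < T.phi (wL D L r))) = invList D T L := by
      rw [invList, posFrom_zero]
      refine List.filter_congr fun r hr => ?_
      have := hC.phi_ne_zero (wL_lt hC hL ((mem_posRoots hC).1 hr).1)
      rw [← decide_not]
      exact decide_eq_decide.2 (by omega)
    rw [hlist] at hf
    obtain ⟨v, hv⟩ : ∃ v, v = prodX hC ((posFrom D 0).filter fun r => decide (0 < T.phi (wL D L r))) f :=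
      ⟨_, rfl⟩
    rw [← hv] at hf
    have hw : prodX hC (invList D T L).reverse f ∈ Uminus D F (tor D c * nL hC F L) := by
      rw [Uminus_eq hC hL c]
      refine list_prod_mem fun x hx => ?_
      obtain ⟨r, hr, rfl⟩ := List.mem_map.1 hx
      exact Subgroup.subset_closure ⟨r, _, List.mem_reverse.1 hr, rfl⟩
    have hvU : tor D c * nL hC F L * v * (tor D c * nL hC F L)⁻¹ ∈ D.posUnipotent F := by
      have : v ∈ (D.posUnipotent F).comap (MulAut.conj (tor D c * nL hC F L)).toMonoidHom := by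
        rw [hv]
        refine list_prod_mem fun x hx => ?_
        obtain ⟨r, hr, rfl⟩ := List.mem_map.1 hx
        obtain ⟨hr', hq⟩ := List.mem_filter.1 hr
        have hlt := ((mem_posFrom hC).1 hr').1
        obtain ⟨η, -, e⟩ := conj_xg (F := F) hC hL c hlt
        show tor D c * nL hC F L * xg hC r (f r) * (tor D c * nL hC F L)⁻¹ ∈ D.posUnipotent F
        rw [e]
        exact xg_mem_U hC (wL_lt hC hL hlt) (of_decide_eq_true hq) _
      exact this
    have hvV : v ∈ Uminus D F (tor D c * nL hC F L) := by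
      rw [show v = g⁻¹ * (prodX hC (invList D T L).reverse f)⁻¹ by rw [hf]; group]
      exact mul_mem (inv_mem hg) (inv_mem hw)
    have h1 := U_inf_V hC hvU (conj_Uminus hC hvV)
    rw [mul_inv_eq_one] at h1
    rw [mul_eq_left.1 h1, one_mul] at hf
    refine ⟨fun r => -f r, ?_⟩
    rw [← prodX_reverse_inv hC]
    show g = (prodX hC (invList D T L).reverse f)⁻¹
    rw [← hf, inv_inv]

theorem card_B [Fintype F] :
    Nat.card (D.borelSubgroup F) = Nat.card (D.posUnipotent F) * Nat.card (D.diagonalSubgroup F) := by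
  have hb : Function.Bijective (fun p : D.posUnipotent F × D.diagonalSubgroup F =>
      (⟨p.1 * p.2, mul_mem (Subgroup.mem_sup_left p.1.2) (Subgroup.mem_sup_right p.2.2)⟩ :
        D.borelSubgroup F)) := by
    constructor
    · rintro ⟨⟨u, hu⟩, ⟨h, hh⟩⟩ ⟨⟨u', hu'⟩, ⟨h', hh'⟩⟩ e
      have e' : u * h = u' * h' := congrArg Subtype.val e
      have h1 : u'⁻¹ * u = h' * h⁻¹ :=
        calc u'⁻¹ * u = u'⁻¹ * (u * h) * h⁻¹ := by group
          _ = _ := by rw [e']; group
      have h2 : u'⁻¹ * u ∈ (⊥ : Subgroup (GL D.Idx F)) := by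
        rw [← U_inf_H hC, Subgroup.mem_inf]
        exact ⟨mul_mem (inv_mem hu') hu, h1 ▸ mul_mem hh' (inv_mem hh)⟩
      rw [Subgroup.mem_bot, inv_mul_eq_one] at h2
      subst h2
      obtain rfl := mul_left_cancel e'
      rfl
    · rintro ⟨b, hb⟩
      obtain ⟨u, hu, h, hh, rfl⟩ := (mem_B_iff hC).1 hb
      exact ⟨⟨⟨u, hu⟩, ⟨h, hh⟩⟩, rfl⟩
  rw [← Nat.card_congr (Equiv.ofBijective _ hb), Nat.card_prod]

/-- The order formula. -/
theorem card_group [Fintype F] {Ls : List Lev} (hLs : chainLevChk T Ls = true)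
    (htop : topChk T Ls = true) :
    Nat.card (D.group F) = Nat.card (D.borelSubgroup F) *
      (Ls.map fun L => (L.reps.map fun d => Fintype.card F ^ d.len).sum).prod := by
  classical
  obtain ⟨E, hE1, hE2, hE3, hE4⟩ := exists_enum hC (Fintype.card F) Ls hLs
  have hall : ∀ i, i < D.rank → i ∈ lettersOf Ls := fun i hi =>
    (memB_iff _).1 (of_allR htop i (by rw [hC.l_eq]; exact hi))
  have hJ : ∀ i ∈ lettersOf Ls, i < D.rank := by
    cases Ls with
    | nil => intro i hi; exact absurd hi List.not_mem_nil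
    | cons L rest =>
      simp only [chainLevChk, Bool.and_eq_true] at hLs
      exact J_lt hC hLs.1
  have hEr : ∀ k : Fin E.length, ∀ i ∈ E[k.1], i < D.rank :=
    fun k i hi => hJ i (hE1 _ (List.getElem_mem k.2) i hi)
  let β : Fin E.length → Type _ := fun k =>
    ↥(D.borelSubgroup F) × ↥(Uminus D F (tor D 1 * nL hC F E[k.1]))
  let f : (Σ k, β k) → D.group F := fun p =>
    ⟨(p.2.1 : GL D.Idx F) * (tor D 1 * nL hC F E[p.1.1]) * (p.2.2 : GL D.Idx F),
      mul_mem (mul_mem (B_le_group hC p.2.1.2)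
        (mul_mem (H_le_group hC (tor_mem_H hC 1)) (N_le_group hC (nL_mem_N hC (hEr p.1)))))
        (B_le_group hC (Subgroup.mem_sup_left (Uminus_le_U hC _ p.2.2.2)))⟩
  have hn : ∀ k : Fin E.length, tor D 1 * nL hC F E[k.1] ∈ D.monomialSubgroup F := fun k =>
    (mem_N_iff hC).2 ⟨1, _, hEr k, rfl⟩
  have hf : Function.Bijective f := by
    constructor
    · rintro ⟨k, b, u⟩ ⟨k', b', u'⟩ h
      have h' := congrArg Subtype.val h
      obtain ⟨h1, h2⟩ := unique_form hC b.2 b'.2 (hn k) (hn k') u.2 u'.2 h'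
      obtain ⟨c, hc⟩ := (mem_H_iff hC).1 h1
      obtain ⟨c', hc'⟩ := nL_conj_tor (F := F) hC (hEr k) c
      have heq : Eqv D E[k.1] E[k'.1] := fun r hr => by
        refine (wL_congr hC (c := 1) (c' := c') (hEr k') (hEr k) ?_ hr).symm
        rw [← hc', ← hc, tor_one, one_mul, one_mul]
        group
      obtain rfl : k = k' := by
        rcases lt_trichotomy k.1 k'.1 with hlt | heq' | hlt
        · exact absurd heq (List.pairwise_iff_getElem.1 hE3 _ _ k.2 k'.2 hlt)
        · exact Fin.ext heq'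
        · exact absurd (fun r hr => (heq r hr).symm)
            (List.pairwise_iff_getElem.1 hE3 _ _ k'.2 k.2 hlt)
      obtain ⟨hb, hu⟩ := h2 rfl
      rw [Subtype.ext hb, Subtype.ext hu]
    · rintro ⟨g, hg⟩
      obtain ⟨b, hb, n, hn', u, hu, rfl⟩ := exists_form hC hg
      obtain ⟨c, L, hL, rfl⟩ := (mem_N_iff hC).1 hn'
      obtain ⟨e, he, hLe⟩ := hE2 L fun i hi => hall i (hL i hi)
      obtain ⟨k, hk, rfl⟩ := List.getElem_of_mem he
      obtain ⟨d, hd⟩ := nL_eq_tor_mul (F := F) hC hL (hEr ⟨k, hk⟩) hLe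
      rw [Uminus_congr hC hL (hEr ⟨k, hk⟩) hLe c 1] at hu
      refine ⟨⟨⟨k, hk⟩, ⟨b * tor D (c * d),
        mul_mem hb (Subgroup.mem_sup_right (tor_mem_H hC _))⟩, ⟨u, hu⟩⟩, Subtype.ext ?_⟩
      show b * tor D (c * d) * (tor D 1 * nL hC F E[k]) * u = b * (tor D c * nL hC F L) * u
      rw [hd, tor_one, ← tor_mul]
      group
  rw [← Nat.card_congr (Equiv.ofBijective f hf), Nat.card_sigma, ← hE4]
  simp only [β, Nat.card_prod, card_Uminus hC (hEr _)]
  rw [← Finset.mul_sum]
  congr 1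
  conv_rhs => rw [← List.ofFn_getElem (xs := E), List.map_ofFn, List.sum_ofFn]
  rfl

end Cfsg.Agent.Chevalley.Order
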