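import Cfsg.Agent.Lib.Chevalley.Borel
import Mathlib.LinearAlgebra.Matrix.GeneralLinearGroup.Defs

/-!
Functoriality of root elements in the field, and field automorphisms.
-/

set_option autoImplicit false

open scoped Matrix

namespace Cfsg.Agent.Chevalley.FieldAut

open Cfsg.Lie

variable {D : ChevalleyDatum} {F K : Type*} [Field F] [Field K]

theorem xMat_map (f : F →+* K) (r : Fin D.nroots) (t : F) :
    (D.xMat F r t).map f = D.xMat K r (f t) := by
  ext a b
  rcases a with i | u <;> rcases b with j | s <;>
    simp only [ChevalleyDatum.xMat, Matrix.map_apply, Matrix.of_apply]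
  · split_ifs <;> simp
  · split_ifs <;> simp
  · split_ifs <;> simp
  · split_ifs <;> simp [map_list_sum, Function.comp_def]

theorem x_map (f : F →+* K) (r : ℕ) (t : F) : (D.x F r t).map f = D.x K r (f t) := by
  by_cases h : r < D.nroots
  · simp only [ChevalleyDatum.x, dif_pos h, xMat_map]
  · simp [ChevalleyDatum.x, h]

/-- The map of general linear groups induced by a ring homomorphism. -/
abbrev mapGL (D : ChevalleyDatum) (f : F →+* K) : GL D.Idx F →* GL D.Idx K :=
  Matrix.GeneralLinearGroup.map f

theorem mapGL_coe (f : F →+* K) (g : GL D.Idx F) :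
    ((mapGL D f g : GL D.Idx K) : Matrix D.Idx D.Idx K) = (g : Matrix D.Idx D.Idx F).map f := rfl

theorem map_mem_group (f : F →+* K) {g : GL D.Idx F} (hg : g ∈ D.group F) :
    mapGL D f g ∈ D.group K := by
  suffices D.group F ≤ (D.group K).comap (mapGL D f) from this hg
  refine (Subgroup.closure_le _).2 ?_
  rintro x ⟨r, t, hx⟩
  exact Subgroup.subset_closure ⟨r, f t, by rw [mapGL_coe, hx, xMat_map]⟩

/-- The automorphism of the Chevalley group induced by a field automorphism. -/
def groupAut (D : ChevalleyDatum) (f : F ≃+* F) : D.group F ≃* D.group F where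
  toFun g := ⟨mapGL D f.toRingHom g, map_mem_group f.toRingHom g.2⟩
  invFun g := ⟨mapGL D f.symm.toRingHom g, map_mem_group f.symm.toRingHom g.2⟩
  left_inv g := by
    refine Subtype.ext (Units.ext ?_)
    ext a b
    exact f.symm_apply_apply _
  right_inv g := by
    refine Subtype.ext (Units.ext ?_)
    ext a b
    exact f.apply_symm_apply _
  map_mul' g h := Subtype.ext (map_mul (mapGL D f.toRingHom) (g : GL D.Idx F) h)

end Cfsg.Agent.Chevalley.FieldAut
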