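import Cfsg.Agent.Lib.Chevalley.Unip

/-!
The subgroup `B`, its intersections, the root subgroups, nilpotence of `U`, and the additivity of the
weight under words of fundamental reflections.
-/

set_option autoImplicit false

open scoped Matrix
open scoped commutatorElement

namespace Cfsg.Agent.Chevalley.Borel

open Cfsg.Lie Cfsg.Agent.Chevalley.Eval Cfsg.Agent.Chevalley.Table Cfsg.Agent.Chevalley.Check
  Cfsg.Agent.Chevalley.Cert Cfsg.Agent.Chevalley.Columns Cfsg.Agent.Chevalley.Root
  Cfsg.Agent.Chevalley.Relations Cfsg.Agent.Chevalley.Diag Cfsg.Agent.Chevalley.Group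
  Cfsg.Agent.Chevalley.Weight Cfsg.Agent.Chevalley.Unip

section Generic

variable {ι : Type*} [Fintype ι] [DecidableEq ι] {R : Type*} [CommRing R] (w : ι → ℤ)

theorem comm_mem_UT {d e : ℤ} {hd : 0 ≤ d} {he : 0 ≤ e} (hde : 0 ≤ d + e) {g h : GL ι R}
    (hg : g ∈ UT w d hd) (hh : h ∈ UT w e he) : ⁅g, h⁆ ∈ UT w (d + e) hde := by
  have key : ∀ {d e : ℤ} {hd : 0 ≤ d} {he : 0 ≤ e} {g h : GL ι R}, g ∈ UT w d hd → h ∈ UT w e he →
      Fil w (d + e) ((⁅g, h⁆ : GL ι R) - 1 : Matrix ι ι R) := by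
    intro d e hd he g h hg hh
    have h0 : Fil w 0 (((g⁻¹ * h⁻¹ : GL ι R) : Matrix ι ι R)) := by
      have h1 : g⁻¹ * h⁻¹ ∈ UT w 0 le_rfl :=
        mul_mem (inv_mem (UT_mono w hd le_rfl hd hg)) (inv_mem (UT_mono w he le_rfl he hh))
      intro a b hab
      by_cases hab' : a = b
      · simp [hab']
      · exact h1.1 a b (by rwa [Matrix.sub_apply, Matrix.one_apply_ne hab', sub_zero])
    have e1 : ((⁅g, h⁆ : GL ι R) : Matrix ι ι R) - 1 =
        (((g : Matrix ι ι R) - 1) * ((h : Matrix ι ι R) - 1) -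
          ((h : Matrix ι ι R) - 1) * ((g : Matrix ι ι R) - 1)) * ((g⁻¹ * h⁻¹ : GL ι R) : Matrix ι ι R) := by
      have e2 : ((g : Matrix ι ι R) - 1) * ((h : Matrix ι ι R) - 1) -
          ((h : Matrix ι ι R) - 1) * ((g : Matrix ι ι R) - 1) = ↑(g * h) - ↑(h * g) := by
        rw [Units.val_mul, Units.val_mul]; noncomm_ring
      have e3 : h * g * (g⁻¹ * h⁻¹) = 1 := by group
      rw [e2, sub_mul, ← Units.val_mul, ← Units.val_mul, e3, Units.val_one, commutatorElement_def]
      congr 2
      group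
    rw [e1]
    have h2 : Fil w (d + e) (((g : Matrix ι ι R) - 1) * ((h : Matrix ι ι R) - 1) -
        ((h : Matrix ι ι R) - 1) * ((g : Matrix ι ι R) - 1)) := by
      rw [sub_eq_add_neg]
      exact fil_add w (fil_mul w hg.1 hh.1)
        (fil_neg w (fil_mono w (le_of_eq (add_comm d e)) (fil_mul w hh.1 hg.1)))
    simpa using fil_mul w h2 h0
  refine ⟨key hg hh, ?_⟩
  rw [commutatorElement_inv]
  exact fil_mono w (le_of_eq (add_comm d e)) (key hh hg)

theorem UT_eq_bot {d : ℤ} {hd : 0 ≤ d} (h : ∀ a b, w a - w b < d) : UT (R := R) w d hd = ⊥ := by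
  rw [eq_bot_iff]
  intro g hg
  rw [Subgroup.mem_bot]
  apply Units.ext
  rw [Units.val_one, ← sub_eq_zero]
  ext a b
  by_contra hab
  have := hg.1 a b hab
  have := h a b
  omega

/-- A group of unitriangular matrices is nilpotent. -/
theorem isNilpotent_of_le_UT {K : Subgroup (GL ι R)} (hK : K ≤ UT w 1 zero_le_one) :
    Group.IsNilpotent K := by
  obtain ⟨N, hN⟩ : ∃ N : ℕ, ∀ a b, w a - w b < (N : ℤ) + 1 := by
    refine ⟨(∑ p : ι × ι, (w p.1 - w p.2).natAbs), fun a b => ?_⟩
    have h1 : (w a - w b).natAbs ≤ ∑ p : ι × ι, (w p.1 - w p.2).natAbs :=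
      Finset.single_le_sum (f := fun p : ι × ι => (w p.1 - w p.2).natAbs) (fun _ _ => Nat.zero_le _)
        (Finset.mem_univ (a, b))
    omega
  rw [Subgroup.nilpotent_iff_lowerCentralSeries]
  refine ⟨N, ?_⟩
  have key : ∀ k : ℕ, ∀ g ∈ Subgroup.lowerCentralSeries (⊤ : Subgroup K) k,
      (g : GL ι R) ∈ UT w ((k : ℤ) + 1) (by omega) := by
    intro k
    induction k with
    | zero => intro g _; exact hK g.2
    | succ k ih =>
      intro g hg
      rw [Subgroup.lowerCentralSeries_succ] at hg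
      refine (Subgroup.closure_le
        (K := (UT w (((k : ℕ) + 1 : ℕ) + 1 : ℤ) (by omega)).comap K.subtype)).2 ?_ hg
      rintro _ ⟨p, hp, q, -, rfl⟩
      simp only [SetLike.mem_coe, Subgroup.mem_comap, Subgroup.coe_subtype]
      have := comm_mem_UT w (d := (k : ℤ) + 1) (e := 1) (by omega) (ih p hp) (hK q.2)
      rw [commutatorElement_def] at this
      exact UT_mono w (by omega) (by omega) (by push_cast; omega) this
  rw [eq_bot_iff]
  intro g hg
  rw [Subgroup.mem_bot]
  have h1 := key N g hg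
  rw [UT_eq_bot w fun a b => hN a b, Subgroup.mem_bot] at h1
  exact Subtype.ext h1

end Generic

variable {D : ChevalleyDatum} {F : Type*} [Field F] {T : Tab}

theorem prodX_eq_wordMat (hC : Certified D T) (L : List ℕ) (t : ℕ → F) :
    ((prodX hC L t : GL D.Idx F) : Matrix D.Idx D.Idx F) =
      D.wordMat F (L.map fun r => (r, t r)) := by
  rw [prodX, ChevalleyDatum.wordMat]
  induction L with
  | nil => rfl
  | cons a L ih => rw [List.map_cons, List.prod_cons, Units.val_mul, ih, coe_xg]; rfl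

/-- The homomorphism `t ↦ x_r(t)`. -/
def xgHom (hC : Certified D T) (F : Type*) [Field F] (r : ℕ) : Multiplicative F →* GL D.Idx F where
  toFun t := xg hC r t.toAdd
  map_one' := xg_zero hC r
  map_mul' _ _ := xg_add hC r _ _

variable (hC : Certified D T)
include hC

theorem xg_injective {r : ℕ} (hr : r < D.nroots) : Function.Injective (xg (F := F) hC r) := by
  intro t u h
  obtain ⟨i, hi⟩ := exists_cor_ne (F := F) hC hr
  have h1 := x_entry_cor hC hr i t
  rw [← coe_xg hC, h, coe_xg, x_entry_cor hC hr] at h1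
  exact (mul_left_cancel₀ hi h1).symm

theorem mem_rootSubgroup {r : ℕ} {g : GL D.Idx F} :
    g ∈ D.rootSubgroup F r ↔ ∃ t : F, g = xg hC r t := by
  have e : D.rootSubgroup F r = (xgHom hC F r).range := by
    refine le_antisymm ((Subgroup.closure_le _).2 ?_) ?_
    · rintro g ⟨t, ht⟩
      exact ⟨Multiplicative.ofAdd t, (eq_xg hC ht).symm⟩
    · rintro g ⟨t, rfl⟩
      exact Subgroup.subset_closure ⟨t.toAdd, rfl⟩
  rw [e]
  exact ⟨fun ⟨t, ht⟩ => ⟨t.toAdd, ht.symm⟩, fun ⟨t, ht⟩ => ⟨Multiplicative.ofAdd t, ht.symm⟩⟩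

theorem coroot_length {r : ℕ} (hr : r < D.nroots) :
    (D.coroot.getD r #[]).toList.length = D.rank := by
  have hk := hC.link
  simp only [linkChk, Bool.and_eq_true] at hk
  have h1 := of_chkList _ #[] _ _ _ hk.2.2.2.2.2.1 r (by rw [hC.n_eq]; exact hr)
  rw [Nat.zero_add, toList_getD] at h1
  have key : ∀ (k j : ℕ) (L : List ℤ) (eq : ℕ → ℤ → Bool),
      chkList eq k j L = true → L.length = k := by
    intro k
    induction k with
    | zero => intro j L eq h; simpa [chkList] using h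
    | succ k ih =>
      intro j L eq h
      cases L with
      | nil => simp [chkList] at h
      | cons a L =>
        simp only [chkList, Bool.and_eq_true] at h
        simp [ih _ _ _ h.2]
  rw [key _ _ _ _ h1, hC.l_eq]

theorem coroot_getElem {r i : ℕ} (hi : i < (D.coroot.getD r #[]).toList.length) :
    (D.coroot.getD r #[]).toList[i] = cor D r i := by
  show _ = (D.coroot.getD r #[]).getD i 0
  exact ((toList_getD _ i 0).symm.trans (List.getD_eq_getElem _ _ hi)).symm

theorem negRoot_iff {r : ℕ} (hr : r < D.nroots) : D.IsNegRoot r ↔ T.phi r < 0 := by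
  have hpos : ∀ {r}, r < D.nroots → (0 < T.phi r ↔ ∀ i < D.rank, 0 ≤ cor D r i) := by
    intro r hr
    rw [← hC.posRoot_iff hr]
    refine ⟨fun h i hi => ?_, fun h => ⟨hr, fun c hc => ?_⟩⟩
    · rw [← coroot_getElem hC (r := r) (by rw [coroot_length hC hr]; exact hi)]
      exact h.2 _ (List.getElem_mem _)
    · obtain ⟨i, hi, rfl⟩ := List.getElem_of_mem hc
      rw [coroot_getElem hC hi]
      exact h i (coroot_length hC hr ▸ hi)
  have h1 : T.phi r < 0 ↔ ∀ i < D.rank, cor D r i ≤ 0 := by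
    have h := hpos (hC.neg_lt hr)
    rw [hC.phi_neg hr] at h
    constructor
    · intro hp i hi
      have := (h.1 (by omega)) i hi
      rw [hC.cor_neg hr hi] at this
      omega
    · intro hp
      have := h.2 fun i hi => by rw [hC.cor_neg hr hi]; have := hp i hi; omega
      omega
  rw [h1]
  refine ⟨fun h i hi => ?_, fun h => ⟨hr, fun c hc => ?_⟩⟩
  · rw [← coroot_getElem hC (r := r) (by rw [coroot_length hC hr]; exact hi)]
    exact h.2 _ (List.getElem_mem _)
  · obtain ⟨i, hi, rfl⟩ := List.getElem_of_mem hc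
    rw [coroot_getElem hC hi]
    exact h i (coroot_length hC hr ▸ hi)

theorem pos_or_neg {r : ℕ} (hr : r < D.nroots) : D.IsPosRoot r ∨ D.IsNegRoot r := by
  rw [hC.posRoot_iff hr, negRoot_iff hC hr]
  have := hC.phi_ne_zero hr
  omega

theorem xg_mem_U {r : ℕ} (hr : r < D.nroots) (hp : 0 < T.phi r) (t : F) :
    xg hC r t ∈ D.posUnipotent F :=
  Subgroup.subset_closure ⟨r, t, (hC.posRoot_iff hr).2 hp, rfl⟩

theorem xg_mem_V {r : ℕ} (hr : r < D.nroots) (hp : T.phi r < 0) (t : F) :
    xg hC r t ∈ D.negUnipotent F :=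
  Subgroup.subset_closure ⟨r, t, (negRoot_iff hC hr).2 hp, rfl⟩

/-! ### The torus normalises the root subgroups -/

theorem H_le_normalizer {P : ℕ → Prop} :
    D.diagonalSubgroup F ≤ Subgroup.normalizer
      (Subgroup.closure {g : GL D.Idx F | ∃ (r : ℕ) (t : F), r < D.nroots ∧ P r ∧
        g = xg hC r t} : Set (GL D.Idx F)) := by
  have key : ∀ h ∈ D.diagonalSubgroup F, ∀ g ∈ Subgroup.closure {g : GL D.Idx F | ∃ (r : ℕ) (t : F),
      r < D.nroots ∧ P r ∧ g = xg hC r t}, h * g * h⁻¹ ∈ Subgroup.closure {g : GL D.Idx F |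
      ∃ (r : ℕ) (t : F), r < D.nroots ∧ P r ∧ g = xg hC r t} := by
    intro h hh g hg
    obtain ⟨c, rfl⟩ := (mem_H_iff hC).1 hh
    induction hg using Subgroup.closure_induction with
    | mem g hg =>
      obtain ⟨r, t, hr, hP, rfl⟩ := hg
      rw [tor_conj_x hC c r t hr]
      exact Subgroup.subset_closure ⟨r, _, hr, hP, rfl⟩
    | one => simp
    | mul x y _ _ ihx ihy =>
      rw [show tor D c * (x * y) * (tor D c)⁻¹ =
        tor D c * x * (tor D c)⁻¹ * (tor D c * y * (tor D c)⁻¹) by group]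
      exact mul_mem ihx ihy
    | inv x _ ih =>
      rw [show tor D c * x⁻¹ * (tor D c)⁻¹ = (tor D c * x * (tor D c)⁻¹)⁻¹ by group]
      exact inv_mem ih
  intro h hh
  rw [Subgroup.mem_normalizer_iff]
  refine fun g => ⟨key h hh g, fun hg => ?_⟩
  have := key h⁻¹ (inv_mem hh) _ hg
  simpa [mul_assoc] using this

theorem U_eq_closure :
    D.posUnipotent F = Subgroup.closure {g : GL D.Idx F | ∃ (r : ℕ) (t : F), r < D.nroots ∧
      0 < T.phi r ∧ g = xg hC r t} :=
  le_antisymm
    (Subgroup.closure_mono fun g ⟨r, t, hr, hg⟩ =>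
      ⟨r, t, hr.1, (hC.posRoot_iff hr.1).1 hr, eq_xg hC hg⟩)
    (Subgroup.closure_mono fun g ⟨r, t, hr, hp, hg⟩ =>
      ⟨r, t, (hC.posRoot_iff hr).2 hp, by rw [hg, coe_xg]⟩)

theorem V_eq_closure :
    D.negUnipotent F = Subgroup.closure {g : GL D.Idx F | ∃ (r : ℕ) (t : F), r < D.nroots ∧
      T.phi r < 0 ∧ g = xg hC r t} :=
  le_antisymm
    (Subgroup.closure_mono fun g ⟨r, t, hr, hg⟩ =>
      ⟨r, t, hr.1, (negRoot_iff hC hr.1).1 hr, eq_xg hC hg⟩)
    (Subgroup.closure_mono fun g ⟨r, t, hr, hp, hg⟩ =>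
      ⟨r, t, (negRoot_iff hC hr).2 hp, by rw [hg, coe_xg]⟩)

theorem H_normalizes_U :
    D.diagonalSubgroup F ≤ Subgroup.normalizer (D.posUnipotent F : Set (GL D.Idx F)) := by
  rw [U_eq_closure hC]; exact H_le_normalizer hC

theorem H_normalizes_V :
    D.diagonalSubgroup F ≤ Subgroup.normalizer (D.negUnipotent F : Set (GL D.Idx F)) := by
  rw [V_eq_closure hC]; exact H_le_normalizer hC

theorem mem_B_iff {g : GL D.Idx F} :
    g ∈ D.borelSubgroup F ↔ ∃ u ∈ D.posUnipotent F, ∃ h ∈ D.diagonalSubgroup F, g = u * h := by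
  rw [ChevalleyDatum.borelSubgroup, ← SetLike.mem_coe,
    Subgroup.coe_mul_of_right_le_normalizer_left _ _ (H_normalizes_U hC), Set.mem_mul]
  exact ⟨fun ⟨u, hu, h, hh, e⟩ => ⟨u, hu, h, hh, e.symm⟩,
    fun ⟨u, hu, h, hh, e⟩ => ⟨u, hu, h, hh, e.symm⟩⟩

theorem mem_VH_iff {g : GL D.Idx F} :
    g ∈ D.negUnipotent F ⊔ D.diagonalSubgroup F ↔
      ∃ v ∈ D.negUnipotent F, ∃ h ∈ D.diagonalSubgroup F, g = v * h := by
  rw [← SetLike.mem_coe, Subgroup.coe_mul_of_right_le_normalizer_left _ _ (H_normalizes_V hC),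
    Set.mem_mul]
  exact ⟨fun ⟨u, hu, h, hh, e⟩ => ⟨u, hu, h, hh, e.symm⟩,
    fun ⟨u, hu, h, hh, e⟩ => ⟨u, hu, h, hh, e.symm⟩⟩

theorem H_apply_ne {h : GL D.Idx F} (hh : h ∈ D.diagonalSubgroup F) {a b : D.Idx} (hab : a ≠ b) :
    (h : Matrix D.Idx D.Idx F) a b = 0 := by
  obtain ⟨c, rfl⟩ := (mem_H_iff hC).1 hh
  rw [coe_tor hC, dMat, Matrix.diagonal_apply_ne _ hab]

theorem UT_inf_H {w : D.Idx → ℤ} {h : GL D.Idx F} (h1 : h ∈ UT w 1 zero_le_one)
    (hh : h ∈ D.diagonalSubgroup F) : h = 1 := by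
  apply Units.ext
  ext a b
  by_cases hab : a = b
  · subst hab
    by_contra hne
    have h2 : ((h : Matrix D.Idx D.Idx F) - 1) a a ≠ 0 := by
      rw [Matrix.sub_apply]
      exact sub_ne_zero.2 (by simpa using hne)
    have := h1.1 a a h2
    omega
  · rw [H_apply_ne hC hh hab, Units.val_one, Matrix.one_apply_ne hab]

theorem U_inf_H : D.posUnipotent F ⊓ D.diagonalSubgroup F = ⊥ :=
  eq_bot_iff.2 fun _ hg => Subgroup.mem_bot.2 (UT_inf_H hC (U_le_UT hC hg.1) hg.2)

theorem B_inf_V : D.borelSubgroup F ⊓ D.negUnipotent F = ⊥ := by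
  rw [eq_bot_iff]
  rintro g ⟨hgB, hgV⟩
  rw [Subgroup.mem_bot]
  obtain ⟨u, hu, h, hh, rfl⟩ := (mem_B_iff hC).1 hgB
  obtain ⟨c, rfl⟩ := (mem_H_iff hC).1 hh
  have hu1 := (U_le_UT hC hu).1
  have hv1 := (V_le_UT hC hgV).1
  have hmul : ∀ a b, ((u * tor D c : GL D.Idx F) : Matrix D.Idx D.Idx F) a b =
      (u : Matrix D.Idx D.Idx F) a b *
        Sum.elim (fun _ => (1 : F)) (fun s : Fin D.nroots => ((torChar D c s : Fˣ) : F)) b :=
    fun a b => by rw [Units.val_mul, coe_tor hC, dMat, Matrix.mul_diagonal]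
  apply Units.ext
  ext a b
  rw [Units.val_one]
  by_contra hne
  have h2 : (((u * tor D c : GL D.Idx F) : Matrix D.Idx D.Idx F) - 1) a b ≠ 0 := by
    rw [Matrix.sub_apply]; exact sub_ne_zero.2 hne
  have h3 := hv1 a b h2
  dsimp only at h3
  by_cases hab : a = b
  · subst hab; omega
  · rw [Matrix.one_apply_ne hab, hmul] at hne
    have h4 := hu1 a b (by
      rw [Matrix.sub_apply, Matrix.one_apply_ne hab, sub_zero]
      exact left_ne_zero_of_mul hne)
    omega

theorem B_inf_VH :
    D.borelSubgroup F ⊓ (D.negUnipotent F ⊔ D.diagonalSubgroup F) = D.diagonalSubgroup F := by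
  refine le_antisymm ?_ (le_inf le_sup_right le_sup_right)
  rintro g ⟨hgB, hgV⟩
  obtain ⟨v, hv, h, hh, rfl⟩ := (mem_VH_iff hC).1 hgV
  have hvB : v ∈ D.borelSubgroup F := by
    have hhB : h ∈ D.borelSubgroup F := Subgroup.mem_sup_right hh
    have hgB' : v * h ∈ D.borelSubgroup F := hgB
    simpa using mul_mem hgB' (inv_mem hhB)
  have : v ∈ (⊥ : Subgroup (GL D.Idx F)) := by rw [← B_inf_V hC]; exact ⟨hvB, hv⟩
  rw [Subgroup.mem_bot] at this
  simpa [this] using hh

theorem U_isNilpotent : Group.IsNilpotent (D.posUnipotent F) :=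
  isNilpotent_of_le_UT _ (U_le_UT hC)

theorem H_comm {a b : GL D.Idx F} (ha : a ∈ D.diagonalSubgroup F)
    (hb : b ∈ D.diagonalSubgroup F) : a * b = b * a := by
  obtain ⟨c, rfl⟩ := (mem_H_iff hC).1 ha
  obtain ⟨d, rfl⟩ := (mem_H_iff hC).1 hb
  rw [tor_mul, tor_mul, mul_comm]

/-! ### Words of fundamental reflections act additively -/

/-- A function on roots compatible with every fundamental reflection. -/
def Additive' (D : ChevalleyDatum) (f : ℕ → ℤ) : Prop :=
  ∀ i < D.rank, ∀ r < D.nroots,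
    f (D.reflectRoot i r) = f r - D.cartan i r * f (D.simple i)

theorem phi_additive : Additive' D (fun r => T.phi r) :=
  fun _ hi _ hr => hC.phi_reflect hi hr

theorem additive_comp {f : ℕ → ℤ} (hf : Additive' D f) {j : ℕ} (hj : j < D.rank) :
    Additive' D (fun r => f (D.reflectRoot j r)) := by
  intro i hi r hr
  dsimp only
  rw [hf j hj _ (hC.reflect_lt hi hr), hf i hi r hr, hC.cartan_reflect hi hj hr,
    hf j hj r hr, hf j hj _ (hC.simple_lt hi)]
  ring

theorem phi_wL_additive : ∀ {L : List ℕ}, (∀ i ∈ L, i < D.rank) →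
    Additive' D (fun r => T.phi (wL D L r)) := by
  suffices key : ∀ L : List ℕ, (∀ i ∈ L, i < D.rank) → ∀ f, Additive' D f →
      Additive' D (fun r => f (wL D L r)) from fun {L} hL => key L hL _ (phi_additive hC)
  intro L
  induction L with
  | nil => exact fun _ f hf => hf
  | cons i L ih =>
    intro hL f hf
    exact ih (fun j hj => hL j (List.mem_cons_of_mem i hj)) _
      (additive_comp hC hf (hL i List.mem_cons_self))

/-- The descent step for a positive root: either fundamental, or above a smaller positive root. -/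
theorem descend {r : ℕ} (hr : r < D.nroots) (hp : 0 < T.phi r) :
    ∃ i < D.rank, r = D.simple i ∨ (0 < D.cartan i r ∧ r ≠ D.simple i ∧
      0 < T.phi (D.reflectRoot i r) ∧ D.reflectRoot i r < r) := by
  obtain ⟨i, hi, h | h⟩ := hC.descent hr hp
  · exact ⟨i, hi, Or.inl h⟩
  · refine ⟨i, hi, (em (r = D.simple i)).imp_right fun hne => ⟨h, hne, hC.reflect_pos hi hr hne hp, ?_⟩⟩
    refine (hC.phi_lt_iff (hC.reflect_lt hi hr) hr).1 ?_
    rw [hC.phi_reflect hi hr]
    have := mul_pos h (hC.phi_simple hi)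
    omega

theorem sign_of_simple {f : ℕ → ℤ} (hf : Additive' D f) (hs : ∀ i < D.rank, 0 < f (D.simple i)) :
    ∀ r < D.nroots, 0 < T.phi r → 0 < f r := by
  intro r
  induction r using Nat.strong_induction_on with
  | _ r ih =>
    intro hr hp
    obtain ⟨i, hi, h | ⟨h, -, hp', hlt⟩⟩ := descend hC hr hp
    · exact h ▸ hs i hi
    · have h1 := ih _ hlt (hC.reflect_lt hi hr) hp'
      rw [hf i hi r hr] at h1
      have := mul_pos h (hs i hi)
      omega

/-- A word whose action keeps all fundamental roots positive keeps all positive roots positive. -/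
theorem wL_pos {L : List ℕ} (hL : ∀ i ∈ L, i < D.rank)
    (hs : ∀ i < D.rank, 0 < T.phi (wL D L (D.simple i))) {r : ℕ} (hr : r < D.nroots)
    (hp : 0 < T.phi r) : 0 < T.phi (wL D L r) :=
  sign_of_simple hC (phi_wL_additive hC hL) hs r hr hp

/-- There is a word sending every positive root to a negative one. -/
theorem exists_longest :
    ∃ L : List ℕ, (∀ i ∈ L, i < D.rank) ∧
      ∀ r < D.nroots, 0 < T.phi r → T.phi (wL D L r) < 0 := by
  classical
  let inv : List ℕ → ℕ := fun L =>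
    ((Finset.range D.nroots).filter fun r => 0 < T.phi r ∧ T.phi (wL D L r) < 0).card
  have step : ∀ k, ∀ L : List ℕ, (∀ i ∈ L, i < D.rank) → D.nroots ≤ inv L + k →
      ∃ L : List ℕ, (∀ i ∈ L, i < D.rank) ∧
        ∀ r < D.nroots, 0 < T.phi r → T.phi (wL D L r) < 0 := by
    intro k
    induction k with
    | zero =>
      intro L hL h
      refine ⟨L, hL, fun r hr hp => ?_⟩
      have h1 := Finset.card_le_card
        (Finset.filter_subset (fun r => 0 < T.phi r ∧ T.phi (wL D L r) < 0) (Finset.range D.nroots))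
      have h2 : (Finset.range D.nroots).filter
          (fun r => 0 < T.phi r ∧ T.phi (wL D L r) < 0) = Finset.range D.nroots :=
        Finset.eq_of_subset_of_card_le (Finset.filter_subset _ _) (by
          rw [Finset.card_range]; simp only [inv] at h; omega)
      have h3 := Finset.mem_range.2 hr
      rw [← h2, Finset.mem_filter] at h3
      exact h3.2.2
    | succ k ih =>
      intro L hL h
      by_cases hall : ∀ r < D.nroots, 0 < T.phi r → T.phi (wL D L r) < 0
      · exact ⟨L, hL, hall⟩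
      obtain ⟨j, hj, hpos⟩ : ∃ j < D.rank, 0 < T.phi (wL D L (D.simple j)) := by
        by_contra hcon
        simp only [not_exists, not_and, not_lt] at hcon
        refine hall fun r hr hp => ?_
        have hneg : ∀ i < D.rank, 0 < -T.phi (wL D L (D.simple i)) := fun i hi => by
          have := hcon i hi
          have := hC.phi_ne_zero (wL_lt hC hL (hC.simple_lt hi))
          omega
        have hadd : Additive' D (fun r => -T.phi (wL D L r)) := fun i hi s hs => by
          have := phi_wL_additive hC hL i hi s hs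
          dsimp only at this ⊢
          rw [this]; ring
        have := sign_of_simple hC hadd hneg r hr hp
        omega
      have hL' : ∀ i ∈ L ++ [j], i < D.rank := fun i hi => (List.mem_append.1 hi).elim (hL i)
        fun hi => (List.mem_singleton.1 hi) ▸ hj
      refine ih (L ++ [j]) hL' ?_
      have hw : ∀ r, wL D (L ++ [j]) r = wL D L (D.reflectRoot j r) := fun r => wL_append L [j] r
      have hlt : inv L + 1 ≤ inv (L ++ [j]) := by
        simp only [inv]
        have hnot : D.simple j ∉ ((Finset.range D.nroots).filter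
            fun r => 0 < T.phi r ∧ T.phi (wL D L r) < 0).image (D.reflectRoot j) := by
          simp only [Finset.mem_image, Finset.mem_filter, Finset.mem_range, not_exists, not_and]
          rintro s ⟨hs, hps, -⟩ he
          have := hC.reflect_reflect hj hs
          rw [he, hC.reflect_simple hj] at this
          rw [← this, hC.phi_neg (hC.simple_lt hj)] at hps
          have := hC.phi_simple hj
          omega
        have hinj : Set.InjOn (D.reflectRoot j) ((Finset.range D.nroots).filter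
            fun r => 0 < T.phi r ∧ T.phi (wL D L r) < 0 : Finset ℕ) := by
          intro a ha b hb e
          simp only [Finset.coe_filter, Finset.mem_range, Set.mem_setOf_eq] at ha hb
          rw [← hC.reflect_reflect hj ha.1, e, hC.reflect_reflect hj hb.1]
        rw [← Finset.card_image_of_injOn hinj, ← Finset.card_insert_of_notMem hnot]
        refine Finset.card_le_card fun r hr => ?_
        simp only [Finset.mem_filter, Finset.mem_range]
        rcases Finset.mem_insert.1 hr with rfl | hr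
        · refine ⟨hC.simple_lt hj, hC.phi_simple hj, ?_⟩
          rw [hw, hC.reflect_simple hj, wL_neg hC hL (hC.simple_lt hj),
            hC.phi_neg (wL_lt hC hL (hC.simple_lt hj))]
          omega
        · obtain ⟨s, hs, rfl⟩ := Finset.mem_image.1 hr
          simp only [Finset.mem_filter, Finset.mem_range] at hs
          refine ⟨hC.reflect_lt hj hs.1, hC.reflect_pos hj hs.1 ?_ hs.2.1, ?_⟩
          · rintro rfl; omega
          · rw [hw, hC.reflect_reflect hj hs.1]; exact hs.2.2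
      omega
  exact step D.nroots [] (by simp) (Nat.le_add_left _ _)

theorem nL_mem_N {L : List ℕ} (hL : ∀ i ∈ L, i < D.rank) : nL hC F L ∈ D.monomialSubgroup F :=
  (mem_N_iff hC).2 ⟨1, L, hL, by rw [tor_one, one_mul]⟩

theorem exists_U_map_eq_V :
    ∃ n ∈ D.monomialSubgroup F,
      (D.posUnipotent F).map (MulAut.conj n).toMonoidHom = D.negUnipotent F := by
  obtain ⟨L, hL, hneg⟩ := exists_longest hC
  refine ⟨_, nL_mem_N hC hL, ?_⟩
  rw [U_eq_closure hC, V_eq_closure hC, MonoidHom.map_closure]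
  congr 1
  ext g
  simp only [Set.mem_image, Set.mem_setOf_eq, MulEquiv.coe_toMonoidHom, MulAut.conj_apply]
  constructor
  · rintro ⟨_, ⟨r, t, hr, hp, rfl⟩, rfl⟩
    obtain ⟨η, -, hη⟩ := nL_conj_x (F := F) hC hL hr
    exact ⟨wL D L r, η * t, wL_lt hC hL hr, hneg r hr hp, hη t⟩
  · rintro ⟨s, t, hs, hp, rfl⟩
    have hLr : ∀ i ∈ L.reverse, i < D.rank := fun i hi => hL i (List.mem_reverse.1 hi)
    obtain ⟨r, hr, hrs⟩ : ∃ r < D.nroots, wL D L r = s := by
      refine ⟨wL D L.reverse s, wL_lt hC hLr hs, ?_⟩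
      simpa using wL_reverse hC hLr hs
    have hpos : 0 < T.phi r := by
      by_contra hn
      have := hC.phi_ne_zero hr
      have h1 := hneg _ (hC.neg_lt hr) (by rw [hC.phi_neg hr]; omega)
      rw [wL_neg hC hL hr, hrs, hC.phi_neg hs] at h1
      omega
    obtain ⟨η, hη0, hη⟩ := nL_conj_x (F := F) hC hL hr
    exact ⟨xg hC r (η⁻¹ * t), ⟨r, _, hr, hpos, rfl⟩,
      by rw [hη, hrs, mul_inv_cancel_left₀ hη0]⟩

/-! ### The group -/

theorem xg_mem_group {r : ℕ} (hr : r < D.nroots) (t : F) : xg hC r t ∈ D.group F :=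
  Subgroup.subset_closure ⟨⟨r, hr⟩, t, x_eq hr t⟩

theorem group_eq_closure :
    D.group F = Subgroup.closure {g : GL D.Idx F | ∃ (r : ℕ) (t : F), r < D.nroots ∧ g = xg hC r t} := by
  refine le_antisymm (Subgroup.closure_mono ?_) ((Subgroup.closure_le _).2 ?_)
  · rintro g ⟨r, t, hg⟩
    exact ⟨r, t, r.2, eq_xg hC (hg.trans (x_eq r.2 t).symm)⟩
  · rintro g ⟨r, t, hr, rfl⟩
    exact xg_mem_group hC hr t

theorem U_sup_V : D.posUnipotent F ⊔ D.negUnipotent F = D.group F := by
  refine le_antisymm (sup_le ?_ ?_) ?_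
  · rw [U_eq_closure hC]
    exact (Subgroup.closure_le _).2 fun g ⟨r, t, hr, _, hg⟩ => hg ▸ xg_mem_group hC hr t
  · rw [V_eq_closure hC]
    exact (Subgroup.closure_le _).2 fun g ⟨r, t, hr, _, hg⟩ => hg ▸ xg_mem_group hC hr t
  · rw [group_eq_closure hC, Subgroup.closure_le]
    rintro g ⟨r, t, hr, rfl⟩
    rcases lt_or_gt_of_ne (hC.phi_ne_zero hr) with h | h
    · exact Subgroup.mem_sup_right (xg_mem_V hC hr h t)
    · exact Subgroup.mem_sup_left (xg_mem_U hC hr h t)

theorem ng_mem_group {r : ℕ} (hr : r < D.nroots) (t : F) : ng hC r t ∈ D.group F :=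
  mul_mem (mul_mem (xg_mem_group hC hr t) (xg_mem_group hC (hC.neg_lt hr) _)) (xg_mem_group hC hr t)

theorem H_le_group : D.diagonalSubgroup F ≤ D.group F := by
  refine (Subgroup.closure_le _).2 ?_
  rintro g ⟨r, t, hr, -, hg⟩
  rw [show g = Cfsg.Agent.Chevalley.Group.hg hC r t from Units.ext (hg.trans (coe_hg hC r t).symm)]
  exact mul_mem (ng_mem_group hC hr _) (ng_mem_group hC hr _)

theorem N_le_group : D.monomialSubgroup F ≤ D.group F :=
  sup_le (H_le_group hC) ((Subgroup.closure_le _).2 fun g ⟨r, hr, hg⟩ => by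
    rw [show g = ng hC r 1 from Units.ext (hg.trans (coe_ng hC r 1).symm)]
    exact ng_mem_group hC hr _)

theorem B_le_group : D.borelSubgroup F ≤ D.group F :=
  sup_le ((le_sup_left).trans (U_sup_V hC).le) (H_le_group hC)

theorem B_sup_N : D.borelSubgroup F ⊔ D.monomialSubgroup F = D.group F := by
  refine le_antisymm (sup_le (B_le_group hC) (N_le_group hC)) ?_
  rw [group_eq_closure hC, Subgroup.closure_le]
  rintro g ⟨r, t, hr, rfl⟩
  revert t
  refine Root.simple_induction hC (P := fun r => ∀ t : F,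
    xg hC r t ∈ (D.borelSubgroup F ⊔ D.monomialSubgroup F : Subgroup (GL D.Idx F))) (fun i hi t => ?_)
    (fun r hr i hi ih t => ?_) r hr
  · exact Subgroup.mem_sup_left (Subgroup.mem_sup_left
      (xg_mem_U hC (hC.simple_lt hi) (hC.phi_simple hi) t))
  · obtain ⟨η, hη0, hη⟩ : ∃ η : F, η ≠ 0 ∧ η = (T.eta i r : F) := by
      refine ⟨_, ?_, rfl⟩
      rcases Certified.eta_cases (T := T) i r with e | e <;> simp [e]
    have hn : ng hC (D.simple i) (1 : F) ∈ D.borelSubgroup F ⊔ D.monomialSubgroup F :=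
      Subgroup.mem_sup_right (Subgroup.mem_sup_right
        (Subgroup.subset_closure ⟨D.simple i, hC.simple_lt hi, coe_ng hC _ _⟩))
    have := mul_mem (mul_mem hn (ih (η⁻¹ * t))) (inv_mem hn)
    rwa [ng_conj_x hC hi hr, ← hη, mul_inv_cancel_left₀ hη0] at this

theorem H_normal_N : ((D.diagonalSubgroup F).subgroupOf (D.monomialSubgroup F)).Normal := by
  constructor
  intro h hh n
  rw [Subgroup.mem_subgroupOf] at hh ⊢
  rw [Subgroup.coe_mul, Subgroup.coe_mul, Subgroup.coe_inv]
  obtain ⟨c, hc⟩ := (mem_H_iff hC).1 hh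
  obtain ⟨d, L, hL, hn⟩ := (mem_N_iff hC).1 n.2
  have key : ∀ L : List ℕ, (∀ i ∈ L, i < D.rank) →
      ∃ c' : ℕ → Fˣ, nL hC F L * tor D c * (nL hC F L)⁻¹ = tor D c' := by
    intro L
    induction L with
    | nil => exact fun _ => ⟨c, by simp [nL]⟩
    | cons i L ih =>
      intro hL
      obtain ⟨c₁, h₁⟩ := ih fun j hj => hL j (List.mem_cons_of_mem i hj)
      obtain ⟨c₂, h₂, -⟩ := ng_conj_tor hC (hL i List.mem_cons_self) c₁
      refine ⟨c₂, ?_⟩
      rw [← h₂, ← h₁, show nL hC F (i :: L) = ng hC (D.simple i) 1 * nL hC F L by simp [nL]]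
      group
  obtain ⟨c', hc'⟩ := key L hL
  rw [hn, hc, show tor D d * nL hC F L * tor D c * (tor D d * nL hC F L)⁻¹ =
    tor D d * (nL hC F L * tor D c * (nL hC F L)⁻¹) * (tor D d)⁻¹ by group, hc']
  exact mul_mem (mul_mem (tor_mem_H hC d) (tor_mem_H hC c')) (inv_mem (tor_mem_H hC d))

end Cfsg.Agent.Chevalley.Borel
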