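import Cfsg.Agent.Lib.Chevalley.Borel

/-!
Deletion in words of fundamental reflections, `B ∩ N = H`, and the permutation group of the roots
generated by the fundamental reflections.
-/

set_option autoImplicit false

open scoped Matrix

namespace Cfsg.Agent.Chevalley.Weyl

open Cfsg.Lie Cfsg.Agent.Chevalley.Table Cfsg.Agent.Chevalley.Check
  Cfsg.Agent.Chevalley.Cert Cfsg.Agent.Chevalley.Group Cfsg.Agent.Chevalley.Weight
  Cfsg.Agent.Chevalley.Unip Cfsg.Agent.Chevalley.Borel

variable {D : ChevalleyDatum} {F : Type*} [Field F] {T : Tab}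
variable (hC : Certified D T)
include hC

theorem nL_cons (i : ℕ) (L : List ℕ) :
    nL hC F (i :: L) = ng hC (D.simple i) (1 : F) * nL hC F L := by simp [nL]

theorem nL_append (L L' : List ℕ) : nL hC F (L ++ L') = nL hC F L * nL hC F L' := by simp [nL]

theorem nL_singleton (i : ℕ) : nL hC F [i] = ng hC (D.simple i) (1 : F) := by simp [nL]

theorem eta_field {i r : ℕ} : ∃ η : F, η ≠ 0 ∧ η = (T.eta i r : F) := by
  refine ⟨_, ?_, rfl⟩
  rcases Certified.eta_cases (T := T) i r with e | e <;> simp [e]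

theorem nL_conj_ng {L : List ℕ} (hL : ∀ i ∈ L, i < D.rank) {r : ℕ} (hr : r < D.nroots) :
    ∃ η : F, η ≠ 0 ∧ ∀ t : F,
      nL hC F L * ng hC r t * (nL hC F L)⁻¹ = ng hC (wL D L r) (η * t) := by
  induction L with
  | nil => exact ⟨1, one_ne_zero, fun t => by simp [nL, wL]⟩
  | cons i L ih =>
    have hL' : ∀ j ∈ L, j < D.rank := fun j hj => hL j (List.mem_cons_of_mem i hj)
    obtain ⟨η, hη, h⟩ := ih hL'
    obtain ⟨ε, hε, hεe⟩ := eta_field (F := F) (i := i) (r := wL D L r) hC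
    refine ⟨ε * η, mul_ne_zero hε hη, fun t => ?_⟩
    rw [nL_cons, mul_inv_rev]
    calc _ = ng hC (D.simple i) 1 * (nL hC F L * ng hC r t * (nL hC F L)⁻¹) *
          (ng hC (D.simple i) (1 : F))⁻¹ := by simp only [mul_assoc]
      _ = _ := by
        rw [h, ng_conj_ng hC (hL i List.mem_cons_self) (wL_lt hC hL' hr), hεe, mul_assoc]; rfl

theorem nL_conj_tor {L : List ℕ} (hL : ∀ i ∈ L, i < D.rank) (c : ℕ → Fˣ) :
    ∃ c' : ℕ → Fˣ, nL hC F L * tor D c = tor D c' * nL hC F L := by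
  induction L with
  | nil => exact ⟨c, by simp [nL]⟩
  | cons i L ih =>
    obtain ⟨c₁, h₁⟩ := ih fun j hj => hL j (List.mem_cons_of_mem i hj)
    obtain ⟨c₂, h₂, -⟩ := ng_conj_tor hC (hL i List.mem_cons_self) c₁
    refine ⟨c₂, ?_⟩
    rw [nL_cons, mul_assoc, h₁, ← mul_assoc, ← mul_assoc, ← h₂, inv_mul_cancel_right]

theorem ng_simple_eq {i : ℕ} (hi : i < D.rank) {a : F} (ha : a ≠ 0) :
    ∃ c : ℕ → Fˣ, ng hC (D.simple i) a = tor D c * ng hC (D.simple i) 1 :=
  ⟨_, by rw [ng_eq_hg_mul hC, show a = ((Units.mk0 a ha : Fˣ) : F) from rfl,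
    hg_eq_tor hC (hC.simple_lt hi)]⟩

/-- Deletion of a letter. -/
theorem exists_delete {L : List ℕ} (hL : ∀ i ∈ L, i < D.rank) {j : ℕ} (hj : j < D.rank)
    (hneg : T.phi (wL D L (D.simple j)) < 0) :
    ∃ k < L.length, ∃ c : ℕ → Fˣ,
      nL hC F L * ng hC (D.simple j) 1 = tor D c * nL hC F (L.eraseIdx k) := by
  induction L with
  | nil =>
    have h := hC.phi_simple hj
    simp only [wL, List.foldr_nil] at hneg
    omega
  | cons i L ih =>
    have hL' : ∀ j ∈ L, j < D.rank := fun j hj => hL j (List.mem_cons_of_mem i hj)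
    have hi := hL i List.mem_cons_self
    have hr := wL_lt hC hL' (hC.simple_lt hj)
    rcases lt_or_gt_of_ne (hC.phi_ne_zero hr) with h | h
    · obtain ⟨k, hk, c, e⟩ := ih hL' h
      obtain ⟨c', e', -⟩ := ng_conj_tor hC hi c
      refine ⟨k + 1, Nat.succ_lt_succ hk, c', ?_⟩
      rw [List.eraseIdx_cons_succ, nL_cons, nL_cons, mul_assoc, e, ← mul_assoc, ← mul_assoc, ← e',
        inv_mul_cancel_right]
    · have hri : wL D L (D.simple j) = D.simple i := by
        by_contra hne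
        have h1 := hC.reflect_pos hi hr hne h
        rw [show wL D (i :: L) (D.simple j) = D.reflectRoot i (wL D L (D.simple j)) from rfl] at hneg
        omega
      obtain ⟨η, hη, e⟩ := nL_conj_ng (F := F) hC hL' (hC.simple_lt hj)
      obtain ⟨c, ec⟩ := ng_simple_eq (F := F) hC hi (a := η * 1) (mul_ne_zero hη one_ne_zero)
      obtain ⟨c', e', -⟩ := ng_conj_tor hC hi c
      obtain ⟨d, ed⟩ := ng_sq (F := F) hC hi
      refine ⟨0, Nat.succ_pos _, c' * d, ?_⟩
      have e2 : nL hC F L * ng hC (D.simple j) 1 =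
          tor D c * ng hC (D.simple i) 1 * nL hC F L := by
        rw [← ec, ← hri, ← e 1, inv_mul_cancel_right]
      rw [List.eraseIdx_zero, List.tail_cons, nL_cons, mul_assoc, e2, ← mul_assoc, ← mul_assoc,
        ← tor_mul, ← ed, ← e', ← mul_assoc]
      group

/-- The permutation of the roots is determined by the monomial element. -/
theorem wL_congr {c c' : ℕ → Fˣ} {L L' : List ℕ} (hL : ∀ i ∈ L, i < D.rank)
    (hL' : ∀ i ∈ L', i < D.rank) (h : tor D c * nL hC F L = tor D c' * nL hC F L') {r : ℕ}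
    (hr : r < D.nroots) : wL D L r = wL D L' r := by
  obtain ⟨η, hη, e⟩ := nL_conj_x (F := F) hC hL hr
  obtain ⟨η', hη', e'⟩ := nL_conj_x (F := F) hC hL' hr
  have h1 : tor D c * nL hC F L * xg hC r 1 * (tor D c * nL hC F L)⁻¹ =
      tor D c' * nL hC F L' * xg hC r 1 * (tor D c' * nL hC F L')⁻¹ := by rw [h]
  have e1 : ∀ {c : ℕ → Fˣ} {L : List ℕ},
      tor D c * nL hC F L * xg hC r 1 * (tor D c * nL hC F L)⁻¹ =
        tor D c * (nL hC F L * xg hC r 1 * (nL hC F L)⁻¹) * (tor D c)⁻¹ := fun {c L} => by group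
  rw [e1, e1, e, e', tor_conj_x hC _ _ _ (wL_lt hC hL hr),
    tor_conj_x hC _ _ _ (wL_lt hC hL' hr)] at h1
  exact xg_eq_xg hC (wL_lt hC hL hr) (wL_lt hC hL' hr)
    (mul_ne_zero (Units.ne_zero _) (mul_ne_zero hη one_ne_zero)) h1

/-- A word fixing the positive system acts trivially: its monomial element lies in `H`. -/
theorem exists_tor_of_pos {L : List ℕ} (hL : ∀ i ∈ L, i < D.rank)
    (hpos : ∀ i < D.rank, 0 < T.phi (wL D L (D.simple i))) :
    ∃ c : ℕ → Fˣ, nL hC F L = tor D c := by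
  suffices key : ∀ m : ℕ, ∀ L : List ℕ, L.length = m → (∀ i ∈ L, i < D.rank) →
      (∀ i < D.rank, 0 < T.phi (wL D L (D.simple i))) → ∃ c : ℕ → Fˣ, nL hC F L = tor D c from
    key _ L rfl hL hpos
  intro m
  induction m using Nat.strong_induction_on with
  | _ m ih =>
    intro L hm hL hpos
    rcases List.eq_nil_or_concat L with rfl | ⟨M, j, hMj⟩
    · exact ⟨1, by simp [nL, tor_one]⟩
    obtain rfl : L = M ++ [j] := by simpa using hMj
    have hM : ∀ i ∈ M, i < D.rank := fun i hi => hL i (List.mem_append_left _ hi)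
    have hj : j < D.rank := hL j (List.mem_append_right _ List.mem_cons_self)
    have hneg : T.phi (wL D M (D.simple j)) < 0 := by
      have h := hpos j hj
      rw [wL_append, show wL D [j] (D.simple j) = D.reflectRoot j (D.simple j) from rfl,
        hC.reflect_simple hj, wL_neg hC hM (hC.simple_lt hj),
        hC.phi_neg (wL_lt hC hM (hC.simple_lt hj))] at h
      omega
    obtain ⟨k, hk, c, e⟩ := exists_delete (F := F) hC hM hj hneg
    have hM' : ∀ i ∈ M.eraseIdx k, i < D.rank := fun i hi => hM i (List.eraseIdx_subset hi)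
    have e' : nL hC F (M ++ [j]) = tor D c * nL hC F (M.eraseIdx k) := by
      rw [nL_append, nL_singleton, e]
    have hlen : (M.eraseIdx k).length < m := by
      rw [List.length_eraseIdx_of_lt hk, ← hm, List.length_append, List.length_singleton]
      omega
    obtain ⟨d, ed⟩ := ih _ hlen _ rfl hM' fun i hi => by
      rw [← wL_congr hC (c := 1) (c' := c) hL hM' (by rw [tor_one, one_mul, e'])
        (hC.simple_lt hi)]
      exact hpos i hi
    exact ⟨c * d, by rw [e', ed, tor_mul]⟩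

theorem wL_eq_self_of_pos {L : List ℕ} (hL : ∀ i ∈ L, i < D.rank)
    (hpos : ∀ i < D.rank, 0 < T.phi (wL D L (D.simple i))) {r : ℕ} (hr : r < D.nroots) :
    wL D L r = r := by
  obtain ⟨c, hc⟩ := exists_tor_of_pos (F := ℚ) hC hL hpos
  rw [wL_congr (L' := []) hC (F := ℚ) (c := 1) (c' := c) hL (by simp) (by rw [tor_one, one_mul, hc]; simp [nL]) hr]
  rfl

theorem B_inf_N : D.borelSubgroup F ⊓ D.monomialSubgroup F = D.diagonalSubgroup F := by
  refine le_antisymm ?_ (le_inf le_sup_right le_sup_left)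
  rintro g ⟨hgB, hgN⟩
  obtain ⟨c, L, hL, rfl⟩ := (mem_N_iff hC).1 hgN
  suffices hpos : ∀ i < D.rank, 0 < T.phi (wL D L (D.simple i)) by
    obtain ⟨d, hd⟩ := exists_tor_of_pos (F := F) hC hL hpos
    rw [hd, tor_mul]
    exact tor_mem_H hC _
  intro i hi
  by_contra hcon
  have hr := wL_lt hC hL (hC.simple_lt hi)
  have hneg : T.phi (wL D L (D.simple i)) < 0 := by have := hC.phi_ne_zero hr; omega
  obtain ⟨η, hη, e⟩ := nL_conj_x (F := F) hC hL (hC.simple_lt hi)
  have hgB' : tor D c * nL hC F L ∈ D.borelSubgroup F := hgB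
  have hxB : xg hC (D.simple i) (1 : F) ∈ D.borelSubgroup F :=
    Subgroup.mem_sup_left (xg_mem_U hC (hC.simple_lt hi) (hC.phi_simple hi) 1)
  have h1 := mul_mem (mul_mem hgB' hxB) (inv_mem hgB')
  rw [show tor D c * nL hC F L * xg hC (D.simple i) 1 * (tor D c * nL hC F L)⁻¹ =
    tor D c * (nL hC F L * xg hC (D.simple i) 1 * (nL hC F L)⁻¹) * (tor D c)⁻¹ by group, e,
    tor_conj_x hC _ _ _ hr] at h1
  have h2 : xg hC (wL D L (D.simple i)) ((torChar D c (wL D L (D.simple i)) : F) * (η * 1)) ∈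
      (⊥ : Subgroup (GL D.Idx F)) := by
    rw [← B_inf_V hC]
    exact ⟨h1, xg_mem_V hC hr hneg _⟩
  rw [Subgroup.mem_bot, ← xg_zero hC (wL D L (D.simple i))] at h2
  exact mul_ne_zero (Units.ne_zero _) (mul_ne_zero hη one_ne_zero) (xg_injective hC hr h2)

theorem U_inf_N : D.posUnipotent F ⊓ D.monomialSubgroup F = ⊥ := by
  rw [eq_bot_iff, ← U_inf_H (F := F) hC, ← B_inf_N (F := F) hC]
  exact le_inf inf_le_left (inf_le_inf_right _ le_sup_left)

end Cfsg.Agent.Chevalley.Weyl
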