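import Cfsg.Agent.Lib.Chevalley.NormalForm
import Cfsg.Agent.Lib.Chevalley.Count
import Cfsg.Agent.Lib.Chevalley.TorusCard
import Cfsg.Agent.Lib.BN.Simple

/-!
Perfectness, trivial core of `B`, irreducibility of the BN pair and simplicity.
-/

set_option autoImplicit false

open scoped Matrix
open scoped commutatorElement

namespace Cfsg.Agent.Chevalley.Perfect

open Cfsg.Lie Cfsg.Agent.Chevalley.Eval Cfsg.Agent.Chevalley.Table Cfsg.Agent.Chevalley.Check
  Cfsg.Agent.Chevalley.Cert Cfsg.Agent.Chevalley.Root Cfsg.Agent.Chevalley.Relations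
  Cfsg.Agent.Chevalley.Group Cfsg.Agent.Chevalley.Weight Cfsg.Agent.Chevalley.Unip
  Cfsg.Agent.Chevalley.Borel Cfsg.Agent.Chevalley.Weyl Cfsg.Agent.Chevalley.Bruhat
  Cfsg.Agent.Chevalley.NormalForm

/-- The pairing, by the tables. -/
noncomputable def pairT (T : Tab) (s r : ℕ) : ℤ :=
  Nat.rec 0 (fun k ih => Int.add (Int.mul (T.C s k) (T.A k r)) ih) T.l

/-- `±1`. -/
def isUnit1 (z : ℤ) : Bool := Nat.beq z.natAbs 1

/-- Some root pairs to `±1` with each fundamental root in the list. -/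
noncomputable def toralChk (T : Tab) (L : List ℕ) : Bool :=
  allL (fun i => Nat.blt i T.l && anyR T.n fun s => isUnit1 (pairT T s (T.simple i))) L

/-- The fundamental root is the only term of some commutator, with coefficient `±1`. -/
noncomputable def oneTerm (T : Tab) (k a b : ℕ) : Bool :=
  !Nat.beq b a && (!Nat.beq b (T.neg a) &&
    List.rec false (fun c L _ => Nat.beq c.1 k && (isUnit1 c.2.1 && (Nat.beq c.2.2.1 1 &&
      (Nat.beq c.2.2.2 1 && List.rec true (fun _ _ _ => false) L)))) (commOf T.E a b))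

/-- Each fundamental root in the list is reached by such a commutator. -/
noncomputable def singleChk (T : Tab) (L : List ℕ) : Bool :=
  allL (fun i => Nat.blt i T.l && anyR T.n fun a => anyR T.n fun b => oneTerm T (T.simple i) a b) L

/-- Consecutive letters of the order are joined to an earlier one. -/
noncomputable def connChk (T : Tab) : List ℕ → Bool
  | [] => true
  | i :: rest => (List.isEmpty rest || anyR T.l fun j => List.elem j rest &&
      !Nat.beq (T.refl i (T.refl j (T.simple i))) (T.refl j (T.refl i (T.simple i)))) && connChk T rest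

variable {D : ChevalleyDatum} {F : Type*} [Field F] {T : Tab}

/-- All of `X_r` lies in the derived group. -/
def InDer (D : ChevalleyDatum) (F : Type*) [Field F] (r : ℕ) : Prop :=
  ∀ g : D.group F, (g : GL D.Idx F) ∈ D.rootSubgroup F r → g ∈ commutator (D.group F)

variable (hC : Certified D T)
include hC

theorem pairT_eq {s r : ℕ} (hs : s < D.nroots) (hr : r < D.nroots) : pairT T s r = pair D s r := by
  rw [pair, pairT, hC.l_eq]
  suffices key : ∀ m ≤ D.rank,
      (Nat.rec 0 (fun k ih => Int.add (Int.mul (T.C s k) (T.A k r)) ih) m : ℤ) =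
        ∑ k ∈ Finset.range m, cor D s k * D.cartan k r from key _ le_rfl
  intro m
  induction m with
  | zero => intro _; simp
  | succ m ih =>
    intro hm
    rw [Finset.sum_range_succ, ← ih (by omega)]
    show T.C s m * T.A m r + _ = _
    rw [hC.linked.C_eq s hs m (by omega), hC.linked.A_eq m (by omega) r hr]
    exact add_comm _ _

theorem commOf_eq {r s : ℕ} (hr : r < D.nroots) (hs : s < D.nroots) :
    commOf T.E r s = D.commTerms r s := by
  rw [commTerms_eq]
  have e : ∀ a b, a < D.nroots → b < D.nroots → T.E a b = D.chainEntry a b :=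
    fun a b ha hb => hC.linked.E_eq a ha b hb
  have e1 := e r s hr hs
  have e2 := e s r hs hr
  have r1 : ∀ m, chRoot T.E r s m = chRoot D.chainEntry r s m := fun m => by rw [chRoot, chRoot, e1]
  have r2 : ∀ m, chRoot T.E s r m = chRoot D.chainEntry s r m := fun m => by rw [chRoot, chRoot, e2]
  have m1 : ∀ m, chM T.E r s m = chM D.chainEntry r s m := fun m => by rw [chM, chM, e1]
  have m2 : ∀ m, chM T.E s r m = chM D.chainEntry s r m := fun m => by rw [chM, chM, e2]
  have b1 : ((chRoot D.chainEntry r s 3).bind fun k => chRoot T.E k s 1) =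
      ((chRoot D.chainEntry r s 3).bind fun k => chRoot D.chainEntry k s 1) := by
    cases hk : chRoot D.chainEntry r s 3 with
    | none => rfl
    | some k => simp [chRoot, e k s (chainRoot_lt hC hr hk) hs]
  have b2 : ((chRoot D.chainEntry s r 3).bind fun k => chRoot T.E k r 1) =
      ((chRoot D.chainEntry s r 3).bind fun k => chRoot D.chainEntry k r 1) := by
    cases hk : chRoot D.chainEntry s r 3 with
    | none => rfl
    | some k => simp [chRoot, e k r (chainRoot_lt hC hs hk) hr]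
  have c1 : ((chRoot D.chainEntry r s 1).map fun k => chM T.E k r 2 / 3) =
      ((chRoot D.chainEntry r s 1).map fun k => chM D.chainEntry k r 2 / 3) := by
    cases hk : chRoot D.chainEntry r s 1 with
    | none => rfl
    | some k => simp [chM, e k r (chainRoot_lt hC hr hk) hr]
  have c2 : ((chRoot D.chainEntry r s 1).map fun k => -2 * chM T.E k s 2 / 3) =
      ((chRoot D.chainEntry r s 1).map fun k => -2 * chM D.chainEntry k s 2 / 3) := by
    cases hk : chRoot D.chainEntry r s 1 with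
    | none => rfl
    | some k => simp [chM, e k s (chainRoot_lt hC hr hk) hs]
  simp only [commOf, r1, r2, m1, m2, b1, b2, c1, c2]

theorem torChar_pow (t : Fˣ) (s r : ℕ) :
    torChar D (fun i => t ^ cor D s i) r = t ^ pair D s r := by
  rw [torChar, pair, ← TorusCard.prod_zpow_sum]
  exact Finset.prod_congr rfl fun i _ => by rw [← zpow_mul]

theorem mem_der {r : ℕ} (hr : r < D.nroots) :
    InDer D F r ↔ ∀ t : F, (⟨xg hC r t, xg_mem_group hC hr t⟩ : D.group F) ∈ commutator (D.group F) := by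
  constructor
  · exact fun h t => h _ ((mem_rootSubgroup hC).2 ⟨t, rfl⟩)
  · intro h g hg
    obtain ⟨t, ht⟩ := (mem_rootSubgroup hC).1 hg
    rw [show g = ⟨xg hC r t, xg_mem_group hC hr t⟩ from Subtype.ext ht]
    exact h t

theorem inDer_toral {r s : ℕ} (hr : r < D.nroots) (hs : s < D.nroots)
    (hp : pair D s r = 1 ∨ pair D s r = -1) (ha : ∃ a : F, a ≠ 0 ∧ a ≠ 1) : InDer D F r := by
  obtain ⟨a, ha0, ha1⟩ := ha
  rw [mem_der hC hr]
  intro t
  obtain ⟨c, hc, hc1⟩ : ∃ c : ℕ → Fˣ, tor D c ∈ D.group F ∧ (torChar D c r : F) ≠ 1 := by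
    refine ⟨fun i => Units.mk0 a ha0 ^ cor D s i, H_le_group hC (tor_mem_H hC _), ?_⟩
    rw [torChar_pow hC]
    rcases hp with h | h <;> simp [h, ha1]
  have hsub : ((torChar D c r : Fˣ) : F) - 1 ≠ 0 := sub_ne_zero.2 hc1
  obtain ⟨u, hu⟩ : ∃ u : F, u = t / (((torChar D c r : Fˣ) : F) - 1) := ⟨_, rfl⟩
  have e : (⟨xg hC r t, xg_mem_group hC hr t⟩ : D.group F) =
      ⁅(⟨tor D c, hc⟩ : D.group F), ⟨xg hC r u, xg_mem_group hC hr u⟩⁆ := by
    refine Subtype.ext ?_
    show xg hC r t = tor D c * xg hC r u * (tor D c)⁻¹ * (xg hC r u)⁻¹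
    rw [tor_conj_x hC c r u hr, xg_inv hC, ← xg_add hC]
    congr 1
    rw [← sub_eq_add_neg, ← sub_one_mul, hu, mul_div_cancel₀ _ hsub]
  rw [e, commutator_def]
  exact Subgroup.commutator_mem_commutator (Subgroup.mem_top _) (Subgroup.mem_top _)

/-- A commutator word all of whose terms but one are in the derived group. -/
theorem inDer_word {k a b : ℕ} (hk : k < D.nroots) (ha : a < D.nroots) (hb : b < D.nroots)
    (hba : b ≠ a) (hbn : b ≠ D.neg a)
    (h : ∀ u : F, ∃ (w w' : List (ℕ × F)) (t u' : F),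
      D.commWord F a b t u' = w ++ (k, u) :: w' ∧ (∀ p ∈ w ++ w', p.1 < D.nroots ∧ InDer D F p.1)) :
    InDer D F k := by
  rw [mem_der hC hk]
  intro u
  obtain ⟨w, w', t, u', he, hw⟩ := h u
  let K : Subgroup (GL D.Idx F) := (commutator (D.group F)).map (D.group F).subtype
  have hmemK : ∀ g : D.group F, (g : GL D.Idx F) ∈ K → g ∈ commutator (D.group F) := by
    rintro g ⟨g', hg', e⟩
    rwa [show g = g' from Subtype.ext e.symm]
  refine hmemK _ ?_
  have hx := xg_comm (F := F) hC ha hb hba hbn t u'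
  rw [he, List.map_append, List.prod_append, List.map_cons, List.prod_cons] at hx
  obtain ⟨P, hP⟩ : ∃ P, P = (w.map fun p => xg hC p.1 p.2).prod := ⟨_, rfl⟩
  obtain ⟨P', hP'⟩ : ∃ P', P' = (w'.map fun p => xg hC p.1 p.2).prod := ⟨_, rfl⟩
  have hall : ∀ v : List (ℕ × F), (∀ p ∈ v, p.1 < D.nroots ∧ InDer D F p.1) →
      (v.map fun p => xg hC p.1 p.2).prod ∈ K := by
    intro v hv
    refine list_prod_mem fun g hg => ?_
    obtain ⟨p, hp, rfl⟩ := List.mem_map.1 hg
    exact ⟨_, (mem_der hC (hv p hp).1).1 (hv p hp).2 p.2, rfl⟩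
  have hPK : P ∈ K := hP ▸ hall w fun p hp => hw p (List.mem_append_left _ hp)
  have hP'K : P' ∈ K := hP' ▸ hall w' fun p hp => hw p (List.mem_append_right _ hp)
  rw [← hP, ← hP'] at hx
  have hcomm : (xg hC b u')⁻¹ * (xg hC a t)⁻¹ * xg hC b u' * xg hC a t ∈ K := by
    refine ⟨⁅(⟨xg hC b u', xg_mem_group hC hb u'⟩ : D.group F)⁻¹,
      (⟨xg hC a t, xg_mem_group hC ha t⟩ : D.group F)⁻¹⁆, ?_, ?_⟩
    · rw [commutator_def]
      exact Subgroup.commutator_mem_commutator (Subgroup.mem_top _) (Subgroup.mem_top _)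
    · show (xg hC b u')⁻¹ * (xg hC a t)⁻¹ * (xg hC b u')⁻¹⁻¹ * (xg hC a t)⁻¹⁻¹ = _
      rw [inv_inv, inv_inv]
  rw [mul_assoc _ (xg hC b u') (xg hC a t), hx] at hcomm
  have e : xg hC k u = P⁻¹ * ((xg hC b u')⁻¹ * (xg hC a t)⁻¹ *
      (xg hC a t * xg hC b u' * (P * (xg hC k u * P')))) * P'⁻¹ := by group
  show xg hC k u ∈ K
  rw [e]
  exact mul_mem (mul_mem (inv_mem hPK) hcomm) (inv_mem hP'K)

theorem inDer_single {k a b : ℕ} (hk : k < D.nroots) (ha : a < D.nroots) (hb : b < D.nroots)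
    (h : oneTerm T k a b = true) : InDer D F k := by
  simp only [oneTerm, Bool.and_eq_true, Bool.not_eq_true', hC.neg_eq ha] at h
  obtain ⟨h1, h2, h3⟩ := h
  refine inDer_word hC hk ha hb (Nat.ne_of_beq_eq_false h1) (Nat.ne_of_beq_eq_false h2) fun u => ?_
  have hE : commOf T.E a b = D.commTerms a b := commOf_eq hC ha hb
  rw [hE] at h3
  cases hc : D.commTerms a b with
  | nil => rw [hc] at h3; exact absurd h3 (by simp)
  | cons c L =>
    rw [hc] at h3
    simp only [Bool.and_eq_true, Nat.beq_eq] at h3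
    obtain ⟨hck, hcu, hci, hcj, hL⟩ := h3
    cases L with
    | cons c' L' => exact absurd hL (by simp)
    | nil =>
      have hC1 : ((c.2.1 : ℤ) : F) * ((c.2.1 : ℤ) : F) = 1 := by
        rcases Int.natAbs_eq_iff.1 (Nat.eq_of_beq_eq_true hcu) with e | e <;> simp [e]
      refine ⟨[], [], -1, (c.2.1 : F) * u, ?_, by simp⟩
      simp only [ChevalleyDatum.commWord, hc, List.map_cons, List.map_nil, List.nil_append, hck,
        hci, hcj]
      rw [neg_neg, pow_one, pow_one, mul_one, ← mul_assoc, hC1, one_mul]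

theorem inDer_reflect {i r : ℕ} (hi : i < D.rank) (hr : r < D.nroots) (h : InDer D F r) :
    InDer D F (D.reflectRoot i r) := by
  rw [mem_der hC (hC.reflect_lt hi hr)]
  intro t
  obtain ⟨η, hη, he⟩ := eta_field (F := F) (i := i) (r := r) hC
  have := Subgroup.Normal.conj_mem (inferInstance : (commutator (D.group F)).Normal) _
    ((mem_der hC hr).1 h (η⁻¹ * t)) ⟨_, N_le_group hC (ng_mem_N hC hi)⟩
  convert this using 1
  refine Subtype.ext ?_
  show _ = ng hC (D.simple i) (1 : F) * xg hC r (η⁻¹ * t) * (ng hC (D.simple i) (1 : F))⁻¹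
  rw [ng_conj_x hC hi hr, ← he, mul_inv_cancel_left₀ hη]

theorem perfect_of_simples (h : ∀ i < D.rank, InDer D F (D.simple i)) :
    commutator (D.group F) = ⊤ := by
  have hall : ∀ r < D.nroots, InDer D F r :=
    Root.simple_induction hC h fun r hr i hi ih => inDer_reflect hC hi hr ih
  rw [eq_top_iff]
  intro g _
  suffices hle : D.group F ≤ (commutator (D.group F)).map (D.group F).subtype by
    obtain ⟨g', hg', e⟩ := hle g.2
    rwa [show g = g' from Subtype.ext e.symm]
  conv_lhs => rw [group_eq_closure hC]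
  rw [Subgroup.closure_le]
  rintro x ⟨r, t, hr, rfl⟩
  exact ⟨_, (mem_der hC hr).1 (hall r hr) t, rfl⟩

theorem toral_of_chk {L : List ℕ} (h : toralChk T L = true) {i : ℕ} (hi : i ∈ L)
    (ha : ∃ a : F, a ≠ 0 ∧ a ≠ 1) : InDer D F (D.simple i) := by
  have h1 := of_allL h i hi
  simp only [Bool.and_eq_true, Nat.blt_eq, hC.l_eq] at h1
  obtain ⟨hil, h2⟩ := h1
  obtain ⟨s, hs, h3⟩ := of_anyR h2
  rw [hC.n_eq] at hs
  rw [hC.simple_eq hil, pairT_eq hC hs (hC.simple_lt hil)] at h3
  exact inDer_toral hC (hC.simple_lt hil) hs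
    (Int.natAbs_eq_iff.1 (Nat.eq_of_beq_eq_true h3)) ha

theorem single_of_chk {L : List ℕ} (h : singleChk T L = true) {i : ℕ} (hi : i ∈ L) :
    InDer D F (D.simple i) := by
  have h1 := of_allL h i hi
  simp only [Bool.and_eq_true, Nat.blt_eq, hC.l_eq] at h1
  obtain ⟨hil, h2⟩ := h1
  obtain ⟨a, ha, h3⟩ := of_anyR h2
  obtain ⟨b, hb, h4⟩ := of_anyR h3
  rw [hC.n_eq] at ha hb
  rw [hC.simple_eq hil] at h4
  exact inDer_single hC (hC.simple_lt hil) ha hb h4

/-! ### The core of `B` and simplicity -/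

theorem eq_one_of_H_normal {K : Subgroup (D.group F)} [K.Normal]
    (hK : ∀ k ∈ K, (k : GL D.Idx F) ∈ D.diagonalSubgroup F) : K = ⊥ := by
  rw [eq_bot_iff]
  intro k hk
  rw [Subgroup.mem_bot]
  obtain ⟨c, hc⟩ := (mem_H_iff hC).1 (hK k hk)
  have hchar : ∀ r < D.nroots, torChar D c r = 1 := by
    intro r hr
    let x : D.group F := ⟨xg hC r 1, xg_mem_group hC hr 1⟩
    have h1 : k * x * k⁻¹ * x⁻¹ ∈ K := by
      rw [show k * x * k⁻¹ * x⁻¹ = k * (x * k⁻¹ * x⁻¹) by group]
      exact mul_mem hk (Subgroup.Normal.conj_mem inferInstance _ (inv_mem hk) x)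
    have h2 := hK _ h1
    simp only [Subgroup.coe_mul, Subgroup.coe_inv, hc, x] at h2
    rw [tor_conj_x hC c r 1 hr, xg_inv hC, ← xg_add hC] at h2
    have h3 : xg hC r (((torChar D c r : Fˣ) : F) * 1 + -1) = 1 := by
      rcases lt_or_gt_of_ne (hC.phi_ne_zero hr) with h | h
      · exact UT_inf_H hC (V_le_UT hC (xg_mem_V hC hr h _)) h2
      · exact UT_inf_H hC (U_le_UT hC (xg_mem_U hC hr h _)) h2
    rw [← xg_zero hC r] at h3
    have h4 := xg_injective hC hr h3
    rw [mul_one, add_neg_eq_zero] at h4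
    exact Units.val_eq_one.1 h4
  refine Subtype.ext ?_
  rw [hc, Subgroup.coe_one, tor, ← dg_one]
  exact dg_congr fun s hs => hchar s hs

theorem core_eq_bot : ((D.borelSubgroup F).subgroupOf (D.group F)).normalCore = ⊥ := by
  refine eq_one_of_H_normal hC fun k hk => ?_
  have hkB : k ∈ (D.borelSubgroup F).subgroupOf (D.group F) := Subgroup.normalCore_le _ hk
  obtain ⟨n, hn, hnU⟩ := exists_U_map_eq_V (F := F) hC
  let n' : D.group F := ⟨n, N_le_group hC hn⟩
  have h0 : n'⁻¹ * k * n'⁻¹⁻¹ ∈ (D.borelSubgroup F).subgroupOf (D.group F) :=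
    Subgroup.normalCore_le _ (Subgroup.Normal.conj_mem inferInstance k hk n'⁻¹)
  have h1 : n⁻¹ * (k : GL D.Idx F) * n ∈ D.borelSubgroup F := by
    simpa [Subgroup.mem_subgroupOf, n'] using h0
  obtain ⟨u, hu, h, hh, he⟩ := (mem_B_iff hC).1 h1
  have h2 : (k : GL D.Idx F) ∈ D.negUnipotent F ⊔ D.diagonalSubgroup F := by
    rw [show (k : GL D.Idx F) = n * u * n⁻¹ * (n * h * n⁻¹) by
      rw [show n * u * n⁻¹ * (n * h * n⁻¹) = n * (u * h) * n⁻¹ by group, ← he]; group]
    refine mul_mem (Subgroup.mem_sup_left ?_) (Subgroup.mem_sup_right (H_conj hC hn hh))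
    rw [← hnU]
    exact ⟨u, hu, rfl⟩
  rw [← B_inf_VH hC]
  exact Subgroup.mem_inf.2 ⟨hkB, h2⟩

theorem irreducible {order : List ℕ} (hconn : connChk T order = true)
    (hmem : ∀ i, i < D.rank → i ∈ order) (hlt : ∀ i ∈ order, i < D.rank) :
    (bn (F := F) hC).Irreducible := by
  intro J hJ hJne hJc
  have key : ∀ L : List ℕ, connChk T L = true → (∀ i ∈ L, i < D.rank) → ∀ P : ℕ → Prop,
      (∃ i ∈ L, P i) → (∃ i ∈ L, ¬ P i) → ∃ i ∈ L, ∃ j ∈ L, ((P i ∧ ¬ P j) ∨ (P j ∧ ¬ P i)) ∧
        D.reflectRoot i (D.reflectRoot j (D.simple i)) ≠ D.reflectRoot j (D.reflectRoot i (D.simple i)) := by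
    intro L
    induction L with
    | nil => rintro _ _ P ⟨i, hi, -⟩; exact absurd hi List.not_mem_nil
    | cons a L ih =>
      intro h hL P hP hP'
      simp only [connChk, Bool.and_eq_true, Bool.or_eq_true, List.isEmpty_iff] at h
      have hL' : ∀ i ∈ L, i < D.rank := fun i hi => hL i (List.mem_cons_of_mem a hi)
      by_cases hmix : (∃ i ∈ L, P i) ∧ ∃ i ∈ L, ¬ P i
      · obtain ⟨i, hi, j, hj, h'⟩ := ih h.2 hL' P hmix.1 hmix.2
        exact ⟨i, List.mem_cons_of_mem a hi, j, List.mem_cons_of_mem a hj, h'⟩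
      · obtain ⟨i, hi, hPi⟩ := hP
        obtain ⟨i', hi', hPi'⟩ := hP'
        rcases h.1 with rfl | hne
        · rw [List.mem_singleton] at hi hi'
          subst hi hi'
          exact absurd hPi hPi'
        · obtain ⟨j, hj, h2⟩ := of_anyR hne
          rw [hC.l_eq] at hj
          simp only [Bool.and_eq_true, List.elem_iff, Bool.not_eq_true'] at h2
          obtain ⟨hjL, h3⟩ := h2
          have ha := hL a List.mem_cons_self
          refine ⟨a, List.mem_cons_self, j, List.mem_cons_of_mem a hjL, ?_, ?_⟩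
          · by_cases hPa : P a
            · refine Or.inl ⟨hPa, fun hPj => hmix ⟨⟨j, hjL, hPj⟩, ?_⟩⟩
              rcases List.mem_cons.1 hi' with rfl | hi'
              exacts [absurd hPa hPi', ⟨i', hi', hPi'⟩]
            · refine Or.inr ⟨by_contra fun hPj => hmix ⟨?_, j, hjL, hPj⟩, hPa⟩
              rcases List.mem_cons.1 hi with rfl | hi
              exacts [absurd hPi hPa, ⟨i, hi, hPi⟩]
          · have hs := hC.simple_lt ha
            rw [hC.simple_eq ha, ← hC.reflect_eq hj hs, ← hC.reflect_eq ha hs,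
              ← hC.reflect_eq ha (hC.reflect_lt hj hs),
              ← hC.reflect_eq hj (hC.reflect_lt ha hs)] at h3
            exact Nat.ne_of_beq_eq_false h3
  let P : ℕ → Prop := fun i => ∀ g : D.group F, (g : GL D.Idx F) = ng hC (D.simple i) 1 → g ∈ J
  obtain ⟨i, hi, j, hj, hPP, hne⟩ := key order hconn hlt P
    (by
      obtain ⟨g, hg⟩ := hJne
      obtain ⟨i, hi, e⟩ := hJ hg
      exact ⟨i, hmem i hi, fun g' hg' => (Subtype.ext (hg'.trans e.symm) : g' = g) ▸ hg⟩)
    (by
      obtain ⟨g, ⟨i, hi, e⟩, hgJ⟩ := hJc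
      exact ⟨i, hmem i hi, fun h => hgJ (h g e)⟩)
  have hir := hlt i hi
  have hjr := hlt j hj
  let a : D.group F := ⟨_, N_le_group hC (ng_mem_N hC hir)⟩
  let b : D.group F := ⟨_, N_le_group hC (ng_mem_N hC hjr)⟩
  have haS : a ∈ (bn (F := F) hC).S := ⟨i, hir, rfl⟩
  have hbS : b ∈ (bn (F := F) hC).S := ⟨j, hjr, rfl⟩
  have hmemJ : ∀ {i : ℕ} (g : D.group F), (g : GL D.Idx F) = ng hC (D.simple i) 1 → (P i ↔ g ∈ J) :=
    fun {i} g hg => ⟨fun h => h g hg, fun h g' hg' => (Subtype.ext (hg'.trans hg.symm) : g' = g) ▸ h⟩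
  have hab : a * b * a⁻¹ * b⁻¹ ∉ (bn (F := F) hC).B := by
    intro hB
    apply hne
    have hBN : ((a * b * a⁻¹ * b⁻¹ : D.group F) : GL D.Idx F) ∈ D.diagonalSubgroup F := by
      rw [← B_inf_N hC, Subgroup.mem_inf]
      refine ⟨hB, ?_⟩
      simp only [Subgroup.coe_mul, Subgroup.coe_inv]
      exact mul_mem (mul_mem (mul_mem (ng_mem_N hC hir) (ng_mem_N hC hjr))
        (inv_mem (ng_mem_N hC hir))) (inv_mem (ng_mem_N hC hjr))
    obtain ⟨c, hc⟩ := (mem_H_iff hC).1 hBN
    simp only [Subgroup.coe_mul, Subgroup.coe_inv, a, b] at hc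
    have e : tor D 1 * nL hC F [i, j] = tor D c * nL hC F [j, i] := by
      rw [← hc, tor_one]; simp [nL, mul_assoc]
    exact wL_congr hC (by simp [hir, hjr]) (by simp [hir, hjr]) e (hC.simple_lt hir)
  rcases hPP with ⟨hPi, hPj⟩ | ⟨hPj, hPi⟩
  · exact ⟨a, (hmemJ a rfl).1 hPi, b, ⟨hbS, fun h => hPj ((hmemJ b rfl).2 h)⟩, hab⟩
  · refine ⟨b, (hmemJ b rfl).1 hPj, a, ⟨haS, fun h => hPi ((hmemJ a rfl).2 h)⟩, fun h => hab ?_⟩
    rw [show a * b * a⁻¹ * b⁻¹ = (b * a * b⁻¹ * a⁻¹)⁻¹ by group]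
    exact inv_mem h

theorem group_ne_B (hl : 0 < D.rank) : (bn (F := F) hC).B ≠ ⊤ := by
  intro h
  have hn := N_le_group hC (ng_mem_N (F := F) hC hl)
  have h1 : (⟨_, hn⟩ : D.group F) ∈ (bn (F := F) hC).B := h ▸ Subgroup.mem_top _
  have hxU : xg hC (D.simple 0) (1 : F) ∈ D.borelSubgroup F :=
    Subgroup.mem_sup_left (xg_mem_U hC (hC.simple_lt hl) (hC.phi_simple hl) 1)
  have h2 : ng hC (D.simple 0) (1 : F) ∈ D.borelSubgroup F := h1
  exact conj_ne hC hl (mul_mem (mul_mem h2 hxU) h2)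

theorem isSimple_group (hl : 0 < D.rank) {order : List ℕ} (hconn : connChk T order = true)
    (hmem : ∀ i, i < D.rank → i ∈ order) (hlt : ∀ i ∈ order, i < D.rank)
    (hperf : commutator (D.group F) = ⊤) :
    IsSimpleGroup (D.group F) ∧ ¬ IsMulCommutative (D.group F) := by
  have hr := hC.simple_lt hl
  have hnc : ¬ IsMulCommutative (D.group F) := by
    intro h
    have h1 : commutator (D.group F) = ⊥ := by
      rw [commutator_def, Subgroup.commutator_eq_bot_iff_le_centralizer]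
      exact fun x _ => Subgroup.mem_centralizer_iff.2 fun y _ => h.is_comm.comm y x
    rw [hperf] at h1
    have h3 : (⟨xg hC (D.simple 0) (1 : F), xg_mem_group hC hr 1⟩ : D.group F) = 1 :=
      Subgroup.mem_bot.1 (h1 ▸ Subgroup.mem_top _)
    have h4 : xg hC (D.simple 0) (1 : F) = xg hC (D.simple 0) 0 :=
      (congrArg Subtype.val h3).trans (xg_zero hC _).symm
    exact one_ne_zero (xg_injective hC hr h4)
  refine ⟨?_, hnc⟩
  have : Nontrivial (D.group F) := ⟨⟨xg hC (D.simple 0) 1, xg_mem_group hC hr 1⟩, 1, fun e => by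
    have h4 : xg hC (D.simple 0) (1 : F) = xg hC (D.simple 0) 0 :=
      (congrArg Subtype.val e).trans (xg_zero hC _).symm
    exact one_ne_zero (xg_injective hC hr h4)⟩
  have hsolv : Group.IsSolvable (bn (F := F) hC).B := by
    have := Count.B_isSolvable (F := F) hC
    exact Group.isSolvable_of_isSolvable_injective
      (f := (Subgroup.subgroupOfEquivOfLe (B_le_group hC)).toMonoidHom) (MulEquiv.injective _)
  exact Cfsg.Agent.BN.Simple.isSimpleGroup (irreducible hC hconn hmem hlt) hsolv hperf (core_eq_bot hC)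

end Cfsg.Agent.Chevalley.Perfect
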