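import Cfsg.Agent.Lib.Chevalley.StUnip
import Cfsg.Agent.Lib.Chevalley.Parabolic
import Cfsg.Agent.Lib.Chevalley.Perfect

/-!
In such a cover the monomial elements of the fundamental roots conjugate root elements as they do in
the Chevalley group.
-/

set_option autoImplicit false

open scoped Matrix

namespace Cfsg.Agent.Chevalley.StConj

open Cfsg.Lie Cfsg.Agent.Chevalley.Eval Cfsg.Agent.Chevalley.Table Cfsg.Agent.Chevalley.Check
  Cfsg.Agent.Chevalley.Cert Cfsg.Agent.Chevalley.Relations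
  Cfsg.Agent.Chevalley.Group Cfsg.Agent.Chevalley.Unip Cfsg.Agent.Chevalley.Borel
  Cfsg.Agent.Chevalley.Weyl Cfsg.Agent.Chevalley.Coef Cfsg.Agent.Chevalley.Perfect
  Cfsg.Agent.Chevalley.Parabolic Cfsg.Agent.Chevalley.StUnip

/-- The terms of the certificate: the fundamental root occurs once, linearly, with coefficient `±1`, and
its negative does not occur. -/
noncomputable def termsChk (p q : ℕ) : List (ℕ × ℤ × ℕ × ℕ) → Bool :=
  List.rec false (fun c L ih =>
    bif Nat.beq c.1 p then (isUnit1 c.2.1 && Nat.beq c.2.2.2 1) &&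
      allL (fun d => !Nat.beq d.1 p && !Nat.beq d.1 q) L
    else !Nat.beq c.1 q && ih)

/-- One certificate: a pair of roots and a word making both positive. -/
noncomputable def pairCert (T : Tab) (i : ℕ) (c : ℕ × ℕ × List ℕ) : Bool :=
  ((Nat.blt c.1 T.n && Nat.blt c.2.1 T.n) && (allL (fun j => Nat.blt j T.l) c.2.2)) &&
  ((!Nat.beq c.2.1 c.1 && !Nat.beq c.2.1 (T.neg c.1)) &&
  ((!Nat.beq c.1 (T.simple i) && !Nat.beq c.1 (T.neg (T.simple i))) &&
  ((!Nat.beq c.2.1 (T.simple i) && !Nat.beq c.2.1 (T.neg (T.simple i))) &&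
  ((iblt 0 (T.phi (List.rec c.1 (fun j _ ih => T.refl j ih) c.2.2)) &&
    iblt 0 (T.phi (List.rec c.2.1 (fun j _ ih => T.refl j ih) c.2.2))) &&
  termsChk (T.simple i) (T.neg (T.simple i)) (commOf T.E c.1 c.2.1)))))

/-- A certificate for every fundamental root. -/
noncomputable def certsChk (T : Tab) (L : List (ℕ × ℕ × List ℕ)) : Bool :=
  allR T.l fun i => pairCert T i (L.getD i (0, 0, []))

variable {D : ChevalleyDatum} {F : Type*} [Field F] {T : Tab} {hC : Certified D T}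
variable {G : Type*} [Group G]

/-- `n̄_r(c)`. -/
def nb (S : Sys hC F G) (r : ℕ) (c : F) : G := S.X r c * S.X (D.neg r) (-c⁻¹) * S.X r c

variable (S : Sys hC F G)

theorem th_nb {r : ℕ} (hr : r < D.nroots) (c : F) : S.th (nb S r c) = ng hC r c := by
  rw [nb, map_mul, map_mul, S.th_X r hr, S.th_X _ (hC.neg_lt hr)]; rfl

theorem nb_inv {r : ℕ} (hr : r < D.nroots) (c : F) : (nb S r c)⁻¹ = nb S r (-c) := by
  rw [nb, nb, mul_inv_rev, mul_inv_rev, X_inv S hr, X_inv S (hC.neg_lt hr), inv_neg, mul_assoc]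

/-- In the Chevalley group `n_p(c)` moves `x_s(t)` to the reflected root. -/
theorem ng_conj_general (hC : Certified D T) {i s : ℕ} (hi : i < D.rank) (hs : s < D.nroots) {c : F} (hc : c ≠ 0) (t : F) :
    ∃ u : F, ng hC (D.simple i) c * xg hC s t * (ng hC (D.simple i) c)⁻¹ =
      xg hC (D.reflectRoot i s) u := by
  obtain ⟨d, hd⟩ := ng_simple_eq (F := F) hC hi hc
  refine ⟨(torChar D d (D.reflectRoot i s) : F) * ((T.eta i s : F) * t), ?_⟩
  rw [hd, ← tor_conj_x hC d _ _ (hC.reflect_lt hi hs), ← ng_conj_x hC hi hs]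
  group

theorem eq_simple_of_inRootSub (hC : Certified D T) {i : ℕ} (hi : i < D.rank) :
    ∀ r, D.InRootSub {i} r → 0 < T.phi r → r = D.simple i := by
  intro r
  induction r using Nat.strong_induction_on with
  | _ r ih =>
    intro hr hp
    obtain ⟨j, -, hjJ, h⟩ := descend_inRootSub hC hr hp
    obtain rfl : j = i := hjJ
    rcases h with h | ⟨hlt, hp', hJ'⟩
    · exact h
    · have h1 := ih _ hlt hJ' hp'
      have h2 := hC.reflect_reflect hi hr.1
      rw [h1, hC.reflect_simple hi] at h2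
      rw [← h2, hC.phi_neg (hC.simple_lt hi)] at hp
      have := hC.phi_simple hi
      omega

variable {N : List (List ℤ)} (hN : coefChk T N = true)
include hN

/-- Transport away from `±p`. -/
theorem conj_other {i s : ℕ} (hi : i < D.rank) (hs : s < D.nroots) (h1 : s ≠ D.simple i)
    (h2 : s ≠ D.neg (D.simple i)) {c : F} (hc : c ≠ 0) {t u : F}
    (h : ng hC (D.simple i) c * xg hC s t * (ng hC (D.simple i) c)⁻¹ =
      xg hC (D.reflectRoot i s) u) :
    nb S (D.simple i) c * S.X s t * (nb S (D.simple i) c)⁻¹ = S.X (D.reflectRoot i s) u := by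
  obtain ⟨a, ha⟩ := exists_coefJ hC hN {i}
  have hp := hC.simple_lt hi
  have hlp : Graded.lin D a (D.simple i) = 0 :=
    (ha _ hp).1.2 (simple_inRootSub (J := {i}) hC hi (Set.mem_singleton i)).1
  have hls : Graded.lin D a s ≠ 0 := by
    intro h0
    have hin := (ha s hs).1.1 h0
    rcases lt_or_gt_of_ne (hC.phi_ne_zero hs) with hneg | hpos
    · refine h2 ?_
      rw [← eq_simple_of_inRootSub hC hi (D.neg s) ⟨hC.neg_lt hs, fun k hk hkJ => ?_⟩
        (by rw [hC.phi_neg hs]; omega), hC.neg_neg hs]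
      have := hin.2 k hk hkJ
      rw [cor_eq hC] at this ⊢
      rw [hC.cor_neg hs hk, this, neg_zero]
    · exact h1 (eq_simple_of_inRootSub hC hi s hin hpos)
  obtain ⟨e, he, hes⟩ : ∃ e : ℤ, (e = 1 ∨ e = -1) ∧ 0 < e * Graded.lin D a s := by
    rcases lt_or_gt_of_ne hls with h | h
    · exact ⟨-1, Or.inr rfl, by omega⟩
    · exact ⟨1, Or.inl rfl, by omega⟩
  let W : Subgroup G := Subgroup.closure
    {g | ∃ (k : ℕ) (v : F), k < D.nroots ∧ 0 < e * Graded.lin D a k ∧ g = S.X k v}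
  obtain ⟨w, hw, hWw⟩ : ∃ w : List ℕ, (∀ j ∈ w, j < D.rank) ∧
      ∀ k < D.nroots, 0 < e * Graded.lin D a k → 0 < gW D T w k := by
    obtain ⟨L, hL, hneg⟩ := exists_longest hC
    rcases he with rfl | rfl
    · refine ⟨[], by simp, fun k hk hlk => ?_⟩
      by_contra hcon
      have h3 : 0 < T.phi (D.neg k) := by
        have := hC.phi_ne_zero hk
        rw [hC.phi_neg hk]
        simp only [gW, wL, List.foldr_nil] at hcon
        omega
      have h4 := (ha _ (hC.neg_lt hk)).2 h3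
      rw [Graded.lin_neg hC a hk] at h4
      omega
    · refine ⟨L, hL, fun k hk hlk => ?_⟩
      have h3 : ¬ 0 < T.phi k := fun h3 => by have := (ha k hk).2 h3; omega
      have h4 := hneg _ (hC.neg_lt hk) (by have := hC.phi_ne_zero hk; rw [hC.phi_neg hk]; omega)
      rw [wL_neg hC hL hk, hC.phi_neg (wL_lt hC hL hk)] at h4
      show 0 < T.phi (wL D L k)
      omega
  have hWPS : W ≤ PS S w 0 := by
    refine (Subgroup.closure_le _).2 ?_
    rintro g ⟨k, v, hk, hlk, rfl⟩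
    exact X_mem_PS0 S hk (hWw k hk hlk) v
  have hconj : ∀ r, r = D.simple i ∨ r = D.neg (D.simple i) → ∀ (v : F) (g : G), g ∈ W →
      S.X r v * g * (S.X r v)⁻¹ ∈ W := by
    intro r hr v
    have hrn : r < D.nroots := by rcases hr with rfl | rfl; exacts [hp, hC.neg_lt hp]
    have hlr : Graded.lin D a r = 0 := by
      rcases hr with rfl | rfl
      · exact hlp
      · rw [Graded.lin_neg hC a hp, hlp, neg_zero]
    refine Bruhat.conj_closure_le ?_
    rintro x ⟨k, v', hk, hlk, rfl⟩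
    have hk1 : k ≠ r := fun h => by rw [h, hlr, mul_zero] at hlk; omega
    have hk2 : k ≠ D.neg r := fun h => by
      rw [h, Graded.lin_neg hC a hrn, hlr, neg_zero, mul_zero] at hlk; omega
    have hcm := S.comm r hrn k hk hk1 hk2 (-v) v'
    rw [← X_inv S hrn v] at hcm
    rw [mul_assoc, hcm]
    simp only [← mul_assoc, mul_inv_cancel, one_mul]
    refine mul_mem (Subgroup.subset_closure ⟨k, v', hk, hlk, rfl⟩) (list_prod_mem fun g hg => ?_)
    obtain ⟨q, hq, rfl⟩ := List.mem_map.1 hg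
    simp only [ChevalleyDatum.commWord, List.mem_map] at hq
    obtain ⟨d, hd, rfl⟩ := hq
    obtain ⟨i', j', -, hj', hlin⟩ := Graded.lin_commTerms hC a hrn hk d hd
    refine Subgroup.subset_closure ⟨d.1, _, commTerms_lt hC hrn hk d hd, ?_, rfl⟩
    rw [hlin, hlr, mul_zero, zero_add, ← mul_assoc, mul_comm e, mul_assoc]
    exact mul_pos (by exact_mod_cast hj') hlk
  have hmem : nb S (D.simple i) c * S.X s t * (nb S (D.simple i) c)⁻¹ ∈ W := by
    rw [show nb S (D.simple i) c * S.X s t * (nb S (D.simple i) c)⁻¹ =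
      S.X (D.simple i) c * (S.X (D.neg (D.simple i)) (-c⁻¹) * (S.X (D.simple i) c * S.X s t *
        (S.X (D.simple i) c)⁻¹) * (S.X (D.neg (D.simple i)) (-c⁻¹))⁻¹) * (S.X (D.simple i) c)⁻¹ by
      rw [nb]; group]
    exact hconj _ (Or.inl rfl) _ _ (hconj _ (Or.inr rfl) _ _ (hconj _ (Or.inl rfl) _ _
      (Subgroup.subset_closure ⟨s, t, hs, hes, rfl⟩)))
  have hs' := hC.reflect_lt hi hs
  refine inj_on_PS S hw (hWPS hmem) (X_mem_PS0 S hs' (hWw _ hs' ?_) u) ?_
  · rw [Graded.lin_reflect hC a hi hs, hlp, mul_zero, sub_zero]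
    exact hes
  · rw [map_mul, map_mul, map_inv, th_nb S hp, S.th_X s hs, S.th_X _ hs', h]

omit hN in
theorem actT_foldr (hC : Certified D T) {L : List ℕ} (hL : ∀ j ∈ L, j < D.rank) {r : ℕ} (hr : r < D.nroots) :
    (List.rec r (fun j _ ih => T.refl j ih) L : ℕ) = wL D L r := by
  induction L with
  | nil => rfl
  | cons a L ih =>
    have hL' : ∀ j ∈ L, j < D.rank := fun j hj => hL j (List.mem_cons_of_mem a hj)
    show T.refl a (List.rec r (fun j _ ih => T.refl j ih) L) = D.reflectRoot a (wL D L r)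
    rw [ih hL', hC.reflect_eq (hL a List.mem_cons_self) (wL_lt hC hL' hr)]

variable {Ls : List (ℕ × ℕ × List ℕ)} (hcert : certsChk T Ls = true)
include hcert

/-- Transport of `x_p` to `x_{-p}`. -/
theorem conj_simple {i : ℕ} (hi : i < D.rank) {c : F} (hc : c ≠ 0) {t u : F}
    (h : ng hC (D.simple i) c * xg hC (D.simple i) t * (ng hC (D.simple i) c)⁻¹ =
      xg hC (D.neg (D.simple i)) u) :
    nb S (D.simple i) c * S.X (D.simple i) t * (nb S (D.simple i) c)⁻¹ =
      S.X (D.neg (D.simple i)) u := by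
  have hcer := of_allR hcert i (by rw [hC.l_eq]; exact hi)
  obtain ⟨⟨a, b, w₀⟩, hce⟩ : ∃ x, x = Ls.getD i (0, 0, []) := ⟨_, rfl⟩
  rw [← hce] at hcer
  simp only [pairCert, Bool.and_eq_true, Nat.blt_eq, Bool.not_eq_true', hC.n_eq,
    iblt_iff] at hcer
  obtain ⟨⟨⟨ha, hb⟩, hw₀⟩, ⟨hba, hbn⟩, ⟨hap, hapn⟩, ⟨hbp, hbpn⟩, ⟨hpa, hpb⟩, hterms⟩ := hcer
  have hw : ∀ j ∈ w₀, j < D.rank := fun j hj => by
    have := of_allL hw₀ j hj
    rwa [Nat.blt_eq, hC.l_eq] at this
  have hp := hC.simple_lt hi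
  rw [hC.simple_eq hi, hC.neg_eq hp] at hterms hapn hbpn
  rw [hC.simple_eq hi] at hap hbp
  rw [hC.neg_eq ha] at hbn
  rw [actT_foldr hC hw ha] at hpa
  rw [actT_foldr hC hw hb] at hpb
  rw [commOf_eq hC ha hb] at hterms
  have hba' := Nat.ne_of_beq_eq_false hba
  have hbn' := Nat.ne_of_beq_eq_false hbn
  -- the terms
  have hsplit : ∀ L : List (ℕ × ℤ × ℕ × ℕ), termsChk (D.simple i) (D.neg (D.simple i)) L = true →
      ∃ L₁ L₂ : List (ℕ × ℤ × ℕ × ℕ), ∃ d : ℕ × ℤ × ℕ × ℕ, L = L₁ ++ d :: L₂ ∧ d.1 = D.simple i ∧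
        (d.2.1 = 1 ∨ d.2.1 = -1) ∧ d.2.2.2 = 1 ∧
        ∀ x ∈ L₁ ++ L₂, x.1 ≠ D.simple i ∧ x.1 ≠ D.neg (D.simple i) := by
    intro L
    induction L with
    | nil => intro h; exact absurd h (by simp [termsChk])
    | cons d L ih =>
      intro h
      change (bif Nat.beq d.1 (D.simple i) then (isUnit1 d.2.1 && Nat.beq d.2.2.2 1) &&
        allL (fun x => !Nat.beq x.1 (D.simple i) && !Nat.beq x.1 (D.neg (D.simple i))) L
        else !Nat.beq d.1 (D.neg (D.simple i)) &&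
          termsChk (D.simple i) (D.neg (D.simple i)) L) = true at h
      cases hd : Nat.beq d.1 (D.simple i) with
      | true =>
        rw [hd, cond_true] at h
        simp only [Bool.and_eq_true, Nat.beq_eq] at h
        refine ⟨[], L, d, rfl, Nat.eq_of_beq_eq_true hd,
          Int.natAbs_eq_iff.1 (Nat.eq_of_beq_eq_true h.1.1), h.1.2, fun x hx => ?_⟩
        have h3 := of_allL h.2 x (by simpa using hx)
        simp only [Bool.and_eq_true, Bool.not_eq_true'] at h3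
        exact ⟨Nat.ne_of_beq_eq_false h3.1, Nat.ne_of_beq_eq_false h3.2⟩
      | false =>
        rw [hd, cond_false, Bool.and_eq_true, Bool.not_eq_true'] at h
        obtain ⟨L₁, L₂, d', e, h1, h2, h3, h4⟩ := ih h.2
        refine ⟨d :: L₁, L₂, d', by rw [e]; rfl, h1, h2, h3, fun x hx => ?_⟩
        rcases List.mem_cons.1 hx with rfl | hx
        exacts [⟨Nat.ne_of_beq_eq_false hd, Nat.ne_of_beq_eq_false h.1⟩, h4 x hx]
  obtain ⟨L₁, L₂, d, hL, hd1, hd2, hd3, hd4⟩ := hsplit _ hterms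
  have hd2' : ((d.2.1 : ℤ) : F) * ((d.2.1 : ℤ) : F) = 1 := by
    rcases hd2 with e | e <;> simp [e]
  -- the parameters
  obtain ⟨v, hv⟩ : ∃ v : F, ((d.2.1 : ℤ) : F) * (-1) ^ d.2.2.1 * v = t :=
    ⟨((d.2.1 : ℤ) : F) * (-1) ^ d.2.2.1 * t, by
      have h1 : ((-1 : F) ^ d.2.2.1) * (-1) ^ d.2.2.1 = 1 := by
        rw [← mul_pow, neg_one_mul, neg_neg, one_pow]
      linear_combination ((-1 : F) ^ d.2.2.1 * (-1) ^ d.2.2.1 * t) * hd2' + t * h1⟩
  have hword := S.comm a ha b hb hba' hbn' 1 v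
  obtain ⟨P, hP⟩ : ∃ P, P = ((L₁.map fun x => (x.1, ((x.2.1 : ℤ) : F) * (-1) ^ x.2.2.1 * v ^ x.2.2.2)).map
    fun q => S.X q.1 q.2).prod := ⟨_, rfl⟩
  obtain ⟨Q, hQ⟩ : ∃ Q, Q = ((L₂.map fun x => (x.1, ((x.2.1 : ℤ) : F) * (-1) ^ x.2.2.1 * v ^ x.2.2.2)).map
    fun q => S.X q.1 q.2).prod := ⟨_, rfl⟩
  rw [ChevalleyDatum.commWord, hL] at hword
  simp only [List.map_append, List.map_cons, List.prod_append, List.prod_cons] at hword
  rw [← hP, ← hQ, hd3, pow_one, hv, hd1] at hword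
  have hXp : S.X (D.simple i) t = P⁻¹ * ((S.X b v)⁻¹ * (S.X a 1)⁻¹ * S.X b v * S.X a 1) * Q⁻¹ := by
    rw [mul_assoc ((S.X b v)⁻¹ * (S.X a 1)⁻¹) (S.X b v), hword]; group
  -- a positive system containing all images
  obtain ⟨n, hn⟩ : ∃ n, n = nb S (D.simple i) c := ⟨_, rfl⟩
  have hwi : ∀ j ∈ w₀ ++ [i], j < D.rank := fun j hj =>
    (List.mem_append.1 hj).elim (hw j) fun e => List.mem_singleton.1 e ▸ hi
  have himg : ∀ s, s < D.nroots → s ≠ D.simple i → s ≠ D.neg (D.simple i) → 0 < gW D T w₀ s →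
      ∀ z : F, n * S.X s z * n⁻¹ ∈ PS S (w₀ ++ [i]) 0 := by
    intro s hs h1 h2 h3 z
    obtain ⟨z', hz'⟩ := ng_conj_general hC hi hs hc z
    rw [hn, conj_other S hN hi hs h1 h2 hc hz']
    refine X_mem_PS0 S (hC.reflect_lt hi hs) ?_ _
    rw [gW, wL_append]
    show 0 < T.phi (wL D w₀ (D.reflectRoot i (D.reflectRoot i s)))
    rw [hC.reflect_reflect hi hs]
    exact h3
  have hpos : ∀ x ∈ D.commTerms a b, x.1 < D.nroots ∧ 0 < gW D T w₀ x.1 := by
    intro x hx
    obtain ⟨hk, i', j', hi', hj', e⟩ := gW_commTerms hC hw ha hb x hx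
    refine ⟨hk, ?_⟩
    have h1 : (1 : ℤ) ≤ i' := by exact_mod_cast hi'
    have h2 : (1 : ℤ) ≤ j' := by exact_mod_cast hj'
    rw [e]
    simp only [gW]
    positivity
  have hterm : ∀ Lx : List (ℕ × ℤ × ℕ × ℕ), (∀ x ∈ Lx, x ∈ L₁ ++ L₂) →
      n * ((Lx.map fun x => (x.1, ((x.2.1 : ℤ) : F) * (-1) ^ x.2.2.1 * v ^ x.2.2.2)).map
        fun q => S.X q.1 q.2).prod * n⁻¹ ∈ PS S (w₀ ++ [i]) 0 := by
    intro Lx hLx
    induction Lx with
    | nil => simp
    | cons x Lx ih =>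
      simp only [List.map_cons, List.prod_cons]
      rw [show ∀ y z : G, n * (y * z) * n⁻¹ = n * y * n⁻¹ * (n * z * n⁻¹) from fun y z => by group]
      refine mul_mem ?_ (ih fun y hy => hLx y (List.mem_cons_of_mem x hy))
      have hx := hLx x List.mem_cons_self
      have hxm : x ∈ D.commTerms a b := by
        rw [hL]
        rcases List.mem_append.1 hx with h | h
        exacts [List.mem_append_left _ h, List.mem_append_right _ (List.mem_cons_of_mem d h)]
      exact himg x.1 (hpos x hxm).1 (hd4 x hx).1 (hd4 x hx).2 (hpos x hxm).2 _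
  have ha' := himg a ha (Nat.ne_of_beq_eq_false hap) (Nat.ne_of_beq_eq_false hapn) hpa 1
  have hb' := himg b hb (Nat.ne_of_beq_eq_false hbp) (Nat.ne_of_beq_eq_false hbpn) hpb v
  have hmem : n * S.X (D.simple i) t * n⁻¹ ∈ PS S (w₀ ++ [i]) 0 := by
    rw [hXp, show n * (P⁻¹ * ((S.X b v)⁻¹ * (S.X a 1)⁻¹ * S.X b v * S.X a 1) * Q⁻¹) * n⁻¹ =
      (n * P * n⁻¹)⁻¹ * ((n * S.X b v * n⁻¹)⁻¹ * (n * S.X a 1 * n⁻¹)⁻¹ * (n * S.X b v * n⁻¹) *
        (n * S.X a 1 * n⁻¹)) * (n * Q * n⁻¹)⁻¹ by group]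
    have h1 := hterm L₁ fun x hx => List.mem_append_left _ hx
    have h2 := hterm L₂ fun x hx => List.mem_append_right _ hx
    rw [← hP] at h1
    rw [← hQ] at h2
    exact mul_mem (mul_mem (inv_mem h1) (mul_mem (mul_mem (mul_mem (inv_mem hb') (inv_mem ha')) hb') ha'))
      (inv_mem h2)
  rw [hn] at hmem
  refine inj_on_PS S hwi hmem (X_mem_PS0 S (hC.neg_lt hp) ?_ u) ?_
  · have hdm : d ∈ D.commTerms a b := hL ▸ List.mem_append_right _ List.mem_cons_self
    rw [gW, wL_append]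
    show 0 < T.phi (wL D w₀ (D.reflectRoot i (D.neg (D.simple i))))
    rw [hC.reflect_neg hi hp, hC.reflect_simple hi, hC.neg_neg hp, ← hd1]
    exact (hpos d hdm).2
  · rw [map_mul, map_mul, map_inv, th_nb S hp, S.th_X _ hp, S.th_X _ (hC.neg_lt hp), h]

/-- Transport along `n̄_p(c)` for every root. -/
theorem conj_X {i s : ℕ} (hi : i < D.rank) (hs : s < D.nroots) {c : F} (hc : c ≠ 0) {t u : F}
    (h : ng hC (D.simple i) c * xg hC s t * (ng hC (D.simple i) c)⁻¹ =
      xg hC (D.reflectRoot i s) u) :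
    nb S (D.simple i) c * S.X s t * (nb S (D.simple i) c)⁻¹ = S.X (D.reflectRoot i s) u := by
  have hp := hC.simple_lt hi
  by_cases h1 : s = D.simple i
  · subst h1
    rw [hC.reflect_simple hi] at h ⊢
    exact conj_simple S hN hcert hi hc h
  by_cases h2 : s = D.neg (D.simple i)
  · subst h2
    rw [hC.reflect_neg hi hp, hC.reflect_simple hi, hC.neg_neg hp] at h ⊢
    have h3 : ng hC (D.simple i) (-c) * xg hC (D.simple i) u * (ng hC (D.simple i) (-c))⁻¹ =
        xg hC (D.neg (D.simple i)) t := by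
      rw [← ng_inv hC, ← h]; group
    have h4 := conj_simple S hN hcert hi (neg_ne_zero.2 hc) h3
    rw [← nb_inv S hp] at h4
    rw [← h4]
    group
  exact conj_other S hN hi hs h1 h2 hc h

end Cfsg.Agent.Chevalley.StConj
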