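import Cfsg.Agent.Lib.Chevalley.Perfect
import Mathlib.LinearAlgebra.Matrix.SpecialLinearGroup

/-!
The homomorphism from `SL₂` onto the subgroup generated by a pair of opposite root subgroups.
-/

set_option autoImplicit false

open scoped Matrix

namespace Cfsg.Agent.Chevalley.SL2

section Abstract

variable {F : Type*} [Field F] {G : Type*} [Group G]

/-- The relations of a rank-one group: upper and lower root elements `X`, `Y`, torus `H`, and `w`. -/
structure Rank1 (X Y H : F → G) (w : G) : Prop where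
  X_add : ∀ s t, X (s + t) = X s * X t
  H_mul : ∀ u v, u ≠ 0 → v ≠ 0 → H (u * v) = H u * H v
  H_conj : ∀ u t, u ≠ 0 → H u * X t = X (u ^ 2 * t) * H u
  w_conj : ∀ t, w * X t * w⁻¹ = Y (-t)
  Y_eq : ∀ t, t ≠ 0 → Y t = X t⁻¹ * (H (-t⁻¹) * w) * X t⁻¹
  w_sq : w * w = H (-1)

/-- An element of `SL₂` from its entries. -/
abbrev el (g : Matrix.SpecialLinearGroup (Fin 2) F) (i j : Fin 2) : F :=
  (g : Matrix (Fin 2) (Fin 2) F) i j

/-- The upper unitriangular element. -/
def sx (t : F) : Matrix.SpecialLinearGroup (Fin 2) F :=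
  ⟨!![1, t; 0, 1], by simp [Matrix.det_fin_two_of]⟩

/-- The lower unitriangular element. -/
def sy (t : F) : Matrix.SpecialLinearGroup (Fin 2) F :=
  ⟨!![1, 0; t, 1], by simp [Matrix.det_fin_two_of]⟩

/-- The monomial element. -/
def sw : Matrix.SpecialLinearGroup (Fin 2) F :=
  ⟨!![0, 1; -1, 0], by simp [Matrix.det_fin_two_of]⟩

open Classical in
/-- The map. -/
noncomputable def phiFun (X H : F → G) (w : G) (g : Matrix.SpecialLinearGroup (Fin 2) F) : G :=
  if el g 1 0 = 0 then X (el g 0 0 * el g 0 1) * H (el g 0 0)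
  else X (el g 0 0 / el g 1 0) * (H (-(el g 1 0)⁻¹) * w) * X (el g 1 1 / el g 1 0)

@[simp] theorem coe_sx (t : F) : (sx t : Matrix (Fin 2) (Fin 2) F) = !![1, t; 0, 1] := rfl

@[simp] theorem coe_sy (t : F) : (sy t : Matrix (Fin 2) (Fin 2) F) = !![1, 0; t, 1] := rfl

@[simp] theorem coe_sw :
    ((sw : Matrix.SpecialLinearGroup (Fin 2) F) : Matrix (Fin 2) (Fin 2) F) = !![0, 1; -1, 0] := rfl

theorem el_det (g : Matrix.SpecialLinearGroup (Fin 2) F) :
    el g 0 0 * el g 1 1 - el g 0 1 * el g 1 0 = 1 := by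
  have := g.2
  rwa [Matrix.det_fin_two] at this

theorem el_mul (g h : Matrix.SpecialLinearGroup (Fin 2) F) (i j : Fin 2) :
    el (g * h) i j = el g i 0 * el h 0 j + el g i 1 * el h 1 j := by
  simp [el, Matrix.mul_apply, Fin.sum_univ_two]

theorem decomp {g : Matrix.SpecialLinearGroup (Fin 2) F} (hc : el g 1 0 ≠ 0) :
    g = sx ((el g 0 0 - 1) / el g 1 0) * sy (el g 1 0) * sx ((el g 1 1 - 1) / el g 1 0) := by
  have hdet := el_det g
  ext i j
  fin_cases i <;> fin_cases j <;> simp [el, Matrix.mul_apply, Fin.sum_univ_two] at hc hdet ⊢ <;>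
    field_simp <;>
    first
      | ring1
      | linear_combination hdet
      | linear_combination (-1 : F) * hdet

theorem mem_of_generators {K : Subgroup (Matrix.SpecialLinearGroup (Fin 2) F)}
    (hx : ∀ t, sx t ∈ K) (hy : ∀ t, sy t ∈ K) (g : Matrix.SpecialLinearGroup (Fin 2) F) : g ∈ K := by
  by_cases hc : el g 1 0 = 0
  · have hd : el g 1 1 ≠ 0 := fun h => by
      have := el_det g
      rw [hc, h] at this
      simp at this
    have h' : el (g * sy 1) 1 0 ≠ 0 := by
      rw [el_mul, hc]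
      simpa [el] using hd
    have hm : g * sy 1 ∈ K := by
      rw [decomp h']
      exact mul_mem (mul_mem (hx _) (hy _)) (hx _)
    simpa using mul_mem hm (inv_mem (hy 1))
  · rw [decomp hc]
    exact mul_mem (mul_mem (hx _) (hy _)) (hx _)

variable {X Y H : F → G} {w : G} (R : Rank1 X Y H w)
include R

theorem X_zero : X 0 = 1 := by
  have := R.X_add 0 0
  rw [add_zero] at this
  exact (mul_eq_left.1 this.symm)

theorem H_one : H 1 = 1 := by
  have := R.H_mul 1 1 one_ne_zero one_ne_zero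
  rw [one_mul] at this
  exact (mul_eq_left.1 this.symm)

theorem phi_one : phiFun X H w 1 = 1 := by
  rw [phiFun, if_pos (by simp [el])]
  simp [el, X_zero R, H_one R]

theorem phi_sx (g : Matrix.SpecialLinearGroup (Fin 2) F) (t : F) :
    phiFun X H w (g * sx t) = phiFun X H w g * X t := by
  have h00 : el (g * sx t) 0 0 = el g 0 0 := by rw [el_mul]; simp [sx, el]
  have h10 : el (g * sx t) 1 0 = el g 1 0 := by rw [el_mul]; simp [sx, el]
  have h01 : el (g * sx t) 0 1 = el g 0 0 * t + el g 0 1 := by rw [el_mul]; simp [sx, el]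
  have h11 : el (g * sx t) 1 1 = el g 1 0 * t + el g 1 1 := by rw [el_mul]; simp [sx, el]
  rw [phiFun, phiFun, h00, h10, h01, h11]
  by_cases hc : el g 1 0 = 0
  · rw [if_pos hc, if_pos hc]
    have ha : el g 0 0 ≠ 0 := by
      intro h; have := el_det g; rw [h, hc] at this; simp at this
    rw [mul_assoc, R.H_conj _ _ ha, ← mul_assoc, ← R.X_add]
    congr 2
    ring
  · rw [if_neg hc, if_neg hc, mul_assoc _ (X _) (X t), ← R.X_add]
    congr 2
    field_simp
    ring

theorem w_inv_conj (v : F) : w⁻¹ * X v * w = Y (-v) := by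
  have h1 : w * w * X v = X v * (w * w) := by
    rw [R.w_sq, R.H_conj _ _ (neg_ne_zero.2 one_ne_zero)]
    simp
  rw [← R.w_conj]
  calc w⁻¹ * X v * w = w⁻¹ * (X v * (w * w)) * w⁻¹ := by group
    _ = w⁻¹ * (w * w * X v) * w⁻¹ := by rw [h1]
    _ = _ := by group

theorem phi_sw (g : Matrix.SpecialLinearGroup (Fin 2) F) :
    phiFun X H w (g * sw) = phiFun X H w g * w := by
  have h00 : el (g * sw) 0 0 = -el g 0 1 := by rw [el_mul]; simp [sw, el]
  have h10 : el (g * sw) 1 0 = -el g 1 1 := by rw [el_mul]; simp [sw, el]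
  have h01 : el (g * sw) 0 1 = el g 0 0 := by rw [el_mul]; simp [sw, el]
  have h11 : el (g * sw) 1 1 = el g 1 0 := by rw [el_mul]; simp [sw, el]
  have hdet := el_det g
  rw [phiFun, phiFun, h00, h10, h01, h11]
  by_cases hc : el g 1 0 = 0
  · rw [hc, mul_zero, sub_zero] at hdet
    have hd : el g 1 1 ≠ 0 := right_ne_zero_of_mul (hdet ▸ one_ne_zero)
    rw [if_neg (neg_ne_zero.2 hd), if_pos hc, hc, zero_div, X_zero R, mul_one, mul_assoc]
    have hai : el g 0 0 = (el g 1 1)⁻¹ := eq_inv_of_mul_eq_one_left hdet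
    congr 2
    · rw [hai]; field_simp
    · rw [hai, inv_neg, neg_neg]
  · by_cases hd : el g 1 1 = 0
    · rw [hd, mul_zero, zero_sub] at hdet
      rw [if_pos (by simp [hd]), if_neg hc, hd, zero_div, X_zero R, mul_one, mul_assoc, mul_assoc,
        R.w_sq, ← R.H_mul _ _ (neg_ne_zero.2 (inv_ne_zero hc)) (neg_ne_zero.2 one_ne_zero)]
      have hb : -el g 0 1 = (el g 1 0)⁻¹ := eq_inv_of_mul_eq_one_left (by rw [← hdet]; ring)
      congr 2
      · rw [hb]; field_simp
      · rw [hb]; ring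
    · rw [if_neg (neg_ne_zero.2 hd), if_neg hc]
      have e1 : X (el g 1 1 / el g 1 0) * w = w * Y (-(el g 1 1 / el g 1 0)) := by
        rw [← w_inv_conj R]; group
      have hv : -(el g 1 1 / el g 1 0) ≠ 0 := neg_ne_zero.2 (div_ne_zero hd hc)
      rw [mul_assoc _ (X (el g 1 1 / el g 1 0)) w, e1, R.Y_eq _ hv]
      have e2 : X (el g 0 0 / el g 1 0) * (H (-(el g 1 0)⁻¹) * w) *
          (w * (X (-(el g 1 1 / el g 1 0))⁻¹ * (H (-(-(el g 1 1 / el g 1 0))⁻¹) * w) *
            X (-(el g 1 1 / el g 1 0))⁻¹)) =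
          X (el g 0 0 / el g 1 0) * ((H (-(el g 1 0)⁻¹) * (w * w)) * X (-(el g 1 1 / el g 1 0))⁻¹) *
            H (-(-(el g 1 1 / el g 1 0))⁻¹) * w * X (-(el g 1 1 / el g 1 0))⁻¹ := by group
      rw [e2, R.w_sq, ← R.H_mul _ _ (neg_ne_zero.2 (inv_ne_zero hc)) (neg_ne_zero.2 one_ne_zero),
        R.H_conj _ _ (mul_ne_zero (neg_ne_zero.2 (inv_ne_zero hc)) (neg_ne_zero.2 one_ne_zero)),
        ← mul_assoc (X _) (X _) (H _), ← R.X_add, mul_assoc (X _) (H _) (H _),
        ← R.H_mul _ _ (mul_ne_zero (neg_ne_zero.2 (inv_ne_zero hc)) (neg_ne_zero.2 one_ne_zero))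
          (neg_ne_zero.2 (inv_ne_zero hv)), mul_assoc (X _) (H _) w]
      congr 2
      · congr 1
        field_simp
        linear_combination (-1 : F) * hdet
      · congr 1
        field_simp
      · field_simp

/-- The homomorphism. -/
theorem exists_hom :
    ∃ φ : Matrix.SpecialLinearGroup (Fin 2) F →* G, (∀ t, φ (sx t) = X t) ∧ (∀ t, φ (sy t) = Y t) ∧
      (∀ g, φ g ∈ Subgroup.closure (Set.range X ∪ Set.range Y)) := by
  have hwY : ∀ t, w * X (-t) * w⁻¹ = Y t := fun t => by rw [R.w_conj, neg_neg]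
  have hY0 : Y 0 = 1 := by rw [← hwY, neg_zero, X_zero R, mul_one, mul_inv_cancel]
  let S : Set (Matrix.SpecialLinearGroup (Fin 2) F) := Set.range sx ∪ {sw}
  let M : Subgroup (Matrix.SpecialLinearGroup (Fin 2) F) :=
    { carrier := {h | ∀ g, phiFun X H w (g * h) = phiFun X H w g * phiFun X H w h}
      one_mem' := fun g => by rw [mul_one, phi_one R, mul_one]
      mul_mem' := fun {a b} ha hb g => by rw [← mul_assoc, hb, hb, ha, mul_assoc]
      inv_mem' := fun {a} ha g => by
        have h1 := ha (g * a⁻¹)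
        have h2 := ha a⁻¹
        rw [inv_mul_cancel_right] at h1
        rw [inv_mul_cancel, phi_one R] at h2
        rw [h1, mul_assoc]
        rw [mul_eq_one_iff_eq_inv.1 h2.symm, mul_inv_cancel, mul_one] }
  have hsx : ∀ t, phiFun X H w (sx t) = X t := fun t => by
    have := phi_sx R 1 t
    rwa [one_mul, phi_one R, one_mul] at this
  have hsw : phiFun X H w (sw : Matrix.SpecialLinearGroup (Fin 2) F) = w := by
    have := phi_sw R 1
    rwa [one_mul, phi_one R, one_mul] at this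
  have hxM : ∀ t, sx t ∈ M := fun t g => by rw [phi_sx R, hsx]
  have hwM : (sw : Matrix.SpecialLinearGroup (Fin 2) F) ∈ M := fun g => by rw [phi_sw R, hsw]
  have hsy : ∀ t : F, sy t = sw * sx (-t) * sw⁻¹ := fun t => by
    rw [eq_mul_inv_iff_mul_eq]
    ext i j; fin_cases i <;> fin_cases j <;> simp [Matrix.mul_apply, Fin.sum_univ_two]
  have hyM : ∀ t, sy t ∈ M := fun t => by
    rw [hsy]; exact mul_mem (mul_mem hwM (hxM _)) (inv_mem hwM)
  have htop : ∀ g, g ∈ M := mem_of_generators hxM hyM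
  let φ : Matrix.SpecialLinearGroup (Fin 2) F →* G :=
    { toFun := phiFun X H w
      map_one' := phi_one R
      map_mul' := fun g h => htop h g }
  have hyφ : ∀ t, φ (sy t) = Y t := fun t => by
    rw [hsy, map_mul, map_mul, map_inv, show φ sw = w from hsw, show φ (sx (-t)) = X (-t) from hsx _, hwY]
  refine ⟨φ, hsx, hyφ, fun g => ?_⟩
  -- the preimage of the generated subgroup contains all generators
  let K := (Subgroup.closure (Set.range X ∪ Set.range Y)).comap φ
  have hxK : ∀ t, sx t ∈ K := fun t => by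
    show φ (sx t) ∈ Subgroup.closure (Set.range X ∪ Set.range Y)
    rw [show φ (sx t) = X t from hsx t]
    exact Subgroup.subset_closure (Or.inl ⟨t, rfl⟩)
  have hyK : ∀ t, sy t ∈ K := fun t => by
    show φ (sy t) ∈ Subgroup.closure (Set.range X ∪ Set.range Y)
    rw [hyφ]
    exact Subgroup.subset_closure (Or.inr ⟨t, rfl⟩)
  exact mem_of_generators (K := K) hxK hyK g

end Abstract

open Cfsg.Lie Cfsg.Agent.Chevalley.Table Cfsg.Agent.Chevalley.Cert Cfsg.Agent.Chevalley.Relations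
  Cfsg.Agent.Chevalley.Group Cfsg.Agent.Chevalley.Borel Cfsg.Agent.Chevalley.Weyl

variable {D : ChevalleyDatum} {F : Type*} [Field F] {T : Tab}
variable (hC : Certified D T)
include hC

theorem ng_one_conj : ∀ r < D.nroots, ∀ t : F,
    ng hC r 1 * xg hC r t * (ng hC r (1 : F))⁻¹ = xg hC (D.neg r) (-t) := by
  refine Root.simple_induction hC (fun i hi t => ?_) fun r hr i hi ih t => ?_
  · rw [ng_conj_x hC hi (hC.simple_lt hi), hC.reflect_simple hi, hC.eta_simple hi]
    simp
  · obtain ⟨η, hη, he⟩ := eta_field (F := F) (i := i) (r := r) hC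
    have hη2 : η * η = 1 := by
      rw [he, ← Int.cast_mul, Certified.eta_sq, Int.cast_one]
    have hr' := hC.reflect_lt hi hr
    obtain ⟨n, hn⟩ : ∃ n, n = ng hC (D.simple i) (1 : F) := ⟨_, rfl⟩
    have e1 : n * ng hC r 1 * n⁻¹ = ng hC (D.reflectRoot i r) η := by
      rw [hn, ng_conj_ng hC hi hr, ← he, mul_one]
    have e2 : n * xg hC r (η * t) * n⁻¹ = xg hC (D.reflectRoot i r) t := by
      rw [hn, ng_conj_x hC hi hr, ← he, ← mul_assoc, hη2, one_mul]
    have e3 : n * xg hC (D.neg r) (-(η * t)) * n⁻¹ = xg hC (D.neg (D.reflectRoot i r)) (-t) := by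
      rw [hn, ng_conj_x hC hi (hC.neg_lt hr), hC.reflect_neg hi hr, hC.eta_neg hi hr, ← he,
        mul_neg, ← mul_assoc, hη2, one_mul]
    have e4 : ng hC (D.reflectRoot i r) η * xg hC (D.reflectRoot i r) t *
        (ng hC (D.reflectRoot i r) η)⁻¹ = xg hC (D.neg (D.reflectRoot i r)) (-t) := by
      rw [← e1, ← e2, ← e3, ← ih]; group
    obtain ⟨c, hc⟩ : ∃ c : ℕ → Fˣ, hg hC (D.reflectRoot i r) η = tor D c :=
      ⟨_, by rw [show η = ((Units.mk0 η hη : Fˣ) : F) from rfl, hg_eq_tor hC hr']⟩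
    have e5 : (tor D c)⁻¹ * xg hC (D.neg (D.reflectRoot i r)) (-t) * tor D c =
        xg hC (D.neg (D.reflectRoot i r)) (-t) := by
      have h1 := tor_conj_x hC c⁻¹ (D.neg (D.reflectRoot i r)) (-t) (hC.neg_lt hr')
      rw [← tor_inv, inv_inv] at h1
      rw [h1]
      congr 1
      have hcc : (torChar D c⁻¹ (D.neg (D.reflectRoot i r)) : F) = 1 := by
        have hdm : ((tor D c : GL D.Idx F) : Matrix D.Idx D.Idx F)
            (Sum.inr ⟨_, hC.neg_lt hr'⟩) (Sum.inr ⟨_, hC.neg_lt hr'⟩) = 1 := by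
          rw [← hc, coe_hg, hMat_diag hC _ hr' hη, Root.dMat, Matrix.diagonal_apply_eq, Sum.elim_inr]
          show η ^ pair D (D.reflectRoot i r) (D.neg (D.reflectRoot i r)) = 1
          have hp : pair D (D.reflectRoot i r) (D.neg (D.reflectRoot i r)) = -2 := by
            rw [← pair_self hC _ hr', pair, pair, ← Finset.sum_neg_distrib]
            exact Finset.sum_congr rfl fun j hj => by
              rw [hC.cartan_neg hr' (Finset.mem_range.1 hj)]; ring
          rw [hp, zpow_neg, show η ^ (2 : ℤ) = η * η from zpow_two η, hη2, inv_one]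
        rw [coe_tor hC, Root.dMat, Matrix.diagonal_apply_eq, Sum.elim_inr] at hdm
        have : torChar D c⁻¹ (D.neg (D.reflectRoot i r)) =
            (torChar D c (D.neg (D.reflectRoot i r)))⁻¹ := by
          simp [torChar]
        rw [this, Units.val_inv_eq_inv_val, hdm, inv_one]
      rw [hcc, one_mul]
    rw [ng_eq_hg_mul hC _ η, hc] at e4
    rw [← e5, ← e4]
    group

theorem rank1 {r : ℕ} (hr : r < D.nroots) :
    Rank1 (fun t : F => xg hC r t) (fun t => xg hC (D.neg r) t) (fun u => hg hC r u)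
      (ng hC r (1 : F)) where
  X_add s t := xg_add hC r s t
  H_mul u v hu hv := by
    obtain ⟨a, rfl⟩ : ∃ a : Fˣ, (a : F) = u := ⟨Units.mk0 u hu, rfl⟩
    obtain ⟨b, rfl⟩ : ∃ b : Fˣ, (b : F) = v := ⟨Units.mk0 v hv, rfl⟩
    rw [← Units.val_mul, hg_eq_tor hC hr, hg_eq_tor hC hr, hg_eq_tor hC hr, tor_mul]
    congr 1
    funext i
    simp [mul_zpow]
  H_conj u t hu := by
    obtain ⟨a, rfl⟩ : ∃ a : Fˣ, (a : F) = u := ⟨Units.mk0 u hu, rfl⟩
    have e : ((torChar D (fun i => a ^ cor D r i) r : Fˣ) : F) = (a : F) ^ 2 := by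
      rw [Perfect.torChar_pow hC, pair_self hC r hr, zpow_two, pow_two, Units.val_mul]
    rw [hg_eq_tor hC hr, ← e, ← tor_conj_x hC _ _ _ hr]
    group
  w_conj t := ng_one_conj hC r hr t
  Y_eq t ht := by
    rw [← ng_eq_hg_mul hC]
    exact Bruhat.neg_xg_eq hC r t
  w_sq := by
    have hm : hg hC r ((-1 : F) * -1) = hg hC r (-1) * hg hC r (-1) := by
      obtain ⟨a, ha⟩ : ∃ a : Fˣ, (a : F) = -1 := ⟨-1, by simp⟩
      rw [← ha, ← Units.val_mul, hg_eq_tor hC hr, hg_eq_tor hC hr, tor_mul]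
      congr 1
      funext i
      simp [mul_zpow]
    have h1 : hg hC r (-1 : F) * hg hC r (-1) = 1 := by
      rw [← hm, neg_one_mul, neg_neg, hg, ← ng_inv hC r (1 : F), mul_inv_cancel]
    have h2 : hg hC r (-1 : F) = (ng hC r (1 : F) * ng hC r 1)⁻¹ := by
      rw [hg, mul_inv_rev, ng_inv]
    rw [← inv_inv (ng hC r (1 : F) * ng hC r 1), ← h2, inv_eq_of_mul_eq_one_right h1]

end Cfsg.Agent.Chevalley.SL2
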