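import Cfsg.Agent.Lib.Chevalley.StSteinberg
import Cfsg.Agent.Lib.Chevalley.FieldAut
import Mathlib.Algebra.CharP.Lemmas

/-!
Graph automorphisms: a signed permutation of the roots with exponents, compatible with the
commutator relations modulo `p`, gives an endomorphism of the Chevalley group.
-/

set_option autoImplicit false

open scoped Matrix

namespace Cfsg.Agent.Chevalley.GraphAut

open Cfsg.Lie Cfsg.Agent.Chevalley.Eval Cfsg.Agent.Chevalley.Table Cfsg.Agent.Chevalley.Check Cfsg.Agent.Chevalley.Cert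
  Cfsg.Agent.Chevalley.Group Cfsg.Agent.Chevalley.Unip Cfsg.Agent.Chevalley.Borel Cfsg.Agent.Chevalley.Perfect
  Cfsg.Agent.Chevalley.StUnip Cfsg.Agent.Chevalley.StKernel Cfsg.Agent.Chevalley.Weyl

/-- A signed permutation with exponents, by lists. -/
structure GTab where
  perm : List ℕ
  sgn : List ℤ
  expo : List ℕ

/-- The image root. -/
def GTab.ρ (M : GTab) (r : ℕ) : ℕ := M.perm.getD r 0
/-- The sign. -/
def GTab.ε (M : GTab) (r : ℕ) : ℤ := M.sgn.getD r 1
/-- The exponent. -/
def GTab.e (M : GTab) (r : ℕ) : ℕ := M.expo.getD r 1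

/-- Divisibility by `p`. -/
def dvdZ (p : ℕ) (z : ℤ) : Bool := Nat.beq (z.natAbs % p) 0

/-- The image of a commutator word. -/
noncomputable def imgTerms (T : Tab) (M : GTab) (r s : ℕ) : List (ℕ × ℤ × ℕ × ℕ) :=
  (commOf T.E r s).map fun c =>
    (M.ρ c.1, M.ε c.1 * c.2.1 * (-1) ^ c.2.2.1, c.2.2.1 * M.e c.1, c.2.2.2 * M.e c.1)

/-- The commutator word of the images. -/
noncomputable def tgtTerms (T : Tab) (M : GTab) (r s : ℕ) : List (ℕ × ℤ × ℕ × ℕ) :=
  (commOf T.E (M.ρ r) (M.ρ s)).map fun c =>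
    (c.1, c.2.1 * (-M.ε r) ^ c.2.2.1 * M.ε s ^ c.2.2.2, c.2.2.1 * M.e r, c.2.2.2 * M.e s)

/-- The terms that survive modulo `p`. -/
def keep (p : ℕ) (L : List (ℕ × ℤ × ℕ × ℕ)) : List (ℕ × ℤ × ℕ × ℕ) :=
  L.filter fun c => !dvdZ p c.2.1

/-- Root elements of these two roots commute modulo `p`. -/
noncomputable def commute2 (T : Tab) (p a b : ℕ) : Bool :=
  Nat.beq b a || (!Nat.beq b (T.neg a) && allL (fun c => dvdZ p c.2.1) (commOf T.E a b))

/-- The same term modulo `p`. -/
def same (p : ℕ) (a b : ℕ × ℤ × ℕ × ℕ) : Bool :=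
  Nat.beq a.1 b.1 && (Nat.beq a.2.2.1 b.2.2.1 && (Nat.beq a.2.2.2 b.2.2.2 &&
    dvdZ p (a.2.1 - b.2.1)))

/-- Move a term to the front. -/
noncomputable def takeOut (T : Tab) (p : ℕ) (a : ℕ × ℤ × ℕ × ℕ) :
    List (ℕ × ℤ × ℕ × ℕ) → Option (List (ℕ × ℤ × ℕ × ℕ))
  | [] => none
  | b :: B => bif same p a b then some B else
      bif commute2 T p a.1 b.1 then (takeOut T p a B).map (b :: ·) else none

/-- Equality up to commuting neighbours. -/
noncomputable def traceEq (T : Tab) (p : ℕ) :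
    List (ℕ × ℤ × ℕ × ℕ) → List (ℕ × ℤ × ℕ × ℕ) → Bool
  | [], B => B.isEmpty
  | a :: A, B => (takeOut T p a B).elim false fun B' => traceEq T p A B'

/-- The relations are preserved. -/
noncomputable def relChk (T : Tab) (p : ℕ) (M : GTab) : Bool :=
  allR T.n fun r => ((Nat.blt (M.ρ r) T.n && isUnit1 (M.ε r)) &&
      (Nat.beq (M.e r) 1 || (Nat.beq (M.e r) p && !Nat.beq p 0))) &&
    allR T.n fun s => (Nat.beq s r || Nat.beq s (T.neg r)) ||
      ((!Nat.beq (M.ρ s) (M.ρ r) && !Nat.beq (M.ρ s) (T.neg (M.ρ r))) &&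
        traceEq T p (keep p (imgTerms T M r s)) (keep p (tgtTerms T M r s)))

/-- The permutation is onto. -/
noncomputable def ontoChk (T : Tab) (M : GTab) : Bool :=
  allR T.n fun k => anyR T.n fun r => Nat.beq (M.ρ r) k

/-- The values on the fundamental roots: node `i` goes to node `(L i).1` with exponent `(L i).2`. -/
noncomputable def simpleChk (T : Tab) (M : GTab) (L : List (ℕ × ℕ)) : Bool :=
  allR T.l fun i =>
    ((Nat.blt (L.getD i (0, 1)).1 T.l && Nat.beq (M.ρ (T.simple i)) (T.simple (L.getD i (0, 1)).1)) &&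
      (Nat.beq (M.ρ (T.neg (T.simple i))) (T.neg (T.simple (L.getD i (0, 1)).1)) &&
      (isUnit1 (M.ε (T.simple i)) && isNN (M.ε (T.simple i))))) &&
    ((isUnit1 (M.ε (T.neg (T.simple i))) && isNN (M.ε (T.neg (T.simple i)))) &&
      (Nat.beq (M.e (T.simple i)) (L.getD i (0, 1)).2 &&
        Nat.beq (M.e (T.neg (T.simple i))) (L.getD i (0, 1)).2))

variable {D : ChevalleyDatum} {F : Type*} [Field F] {T : Tab}

/-- The characteristic assumption. -/
def CharOK (F : Type*) [Field F] (p : ℕ) : Prop :=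
  p = 0 ∨ (p.Prime ∧ CharP F p ∧ ∀ x : F, ∃ y : F, y ^ p = x)

theorem dvdZ_sound {p : ℕ} (hp : CharOK F p) {z : ℤ} (h : dvdZ p z = true) : (z : F) = 0 := by
  have h' := Nat.eq_of_beq_eq_true h
  rcases hp with rfl | ⟨hp, hc, -⟩
  · rw [Nat.mod_zero, Int.natAbs_eq_zero] at h'
    rw [h', Int.cast_zero]
  · exact (CharP.intCast_eq_zero_iff F p z).2 (Int.natCast_dvd.2 (Nat.dvd_of_mod_eq_zero h'))

theorem exists_powHom {p e : ℕ} (hp : CharOK F p)
    (h : (Nat.beq e 1 || (Nat.beq e p && !Nat.beq p 0)) = true) :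
    ∃ φ : F →+* F, (∀ x, φ x = x ^ e) ∧ ∀ x : F, ∃ y : F, y ^ e = x := by
  simp only [Bool.or_eq_true, Bool.and_eq_true, Bool.not_eq_true'] at h
  rcases h with h | ⟨h, h0⟩
  · obtain rfl : e = 1 := Nat.eq_of_beq_eq_true h
    exact ⟨RingHom.id F, fun x => (pow_one x).symm, fun x => ⟨x, pow_one x⟩⟩
  · rcases hp with rfl | ⟨hp, hc, hperf⟩
    · simp at h0
    · obtain rfl : e = p := Nat.eq_of_beq_eq_true h
      haveI := hc
      haveI := Fact.mk hp
      exact ⟨frobenius F e, frobenius_def e, hperf⟩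

variable (hC : Certified D T)

/-- The image of a root element. -/
def Xi (F : Type*) [Field F] (M : GTab) (r : ℕ) (t : F) : GL D.Idx F :=
  xg hC (M.ρ r) ((M.ε r : F) * t ^ M.e r)

/-- Value of a list of terms. -/
def evalT (t u : F) (L : List (ℕ × ℤ × ℕ × ℕ)) : GL D.Idx F :=
  (L.map fun a => xg hC a.1 ((a.2.1 : F) * t ^ a.2.2.1 * u ^ a.2.2.2)).prod

include hC

theorem evalT_keep {p : ℕ} (hp : CharOK F p) (t u : F) (L : List (ℕ × ℤ × ℕ × ℕ)) :
    evalT hC t u (keep p L) = evalT hC t u L := by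
  induction L with
  | nil => rfl
  | cons a L ih =>
    by_cases h : dvdZ p a.2.1 = true
    · rw [keep, List.filter_cons_of_neg (by simp [h]), ← keep, ih]
      simp only [evalT, List.map_cons, List.prod_cons]
      rw [dvdZ_sound hp h, zero_mul, zero_mul, xg_zero hC, one_mul]
    · rw [keep, List.filter_cons_of_pos (by simp [h]), ← keep]
      simp only [evalT, List.map_cons, List.prod_cons] at ih ⊢
      rw [ih]

theorem commute2_sound {p : ℕ} (hp : CharOK F p) {a b : ℕ} (ha : a < D.nroots) (hb : b < D.nroots)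
    (h : commute2 T p a b = true) (x y : F) : xg hC b y * xg hC a x = xg hC a x * xg hC b y := by
  by_cases hab : b = a
  · subst hab
    rw [← xg_add hC, ← xg_add hC, add_comm]
  simp only [commute2, Bool.or_eq_true, Bool.and_eq_true, Bool.not_eq_true', hC.neg_eq ha] at h
  rcases h with h | ⟨hn, hall⟩
  · exact absurd (Nat.eq_of_beq_eq_true h) hab
  rw [xg_comm hC ha hb hab (Nat.ne_of_beq_eq_false hn)]
  refine mul_eq_left.2 (List.prod_eq_one fun g hg => ?_)
  obtain ⟨q, hq, rfl⟩ := List.mem_map.1 hg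
  simp only [ChevalleyDatum.commWord, List.mem_map] at hq
  obtain ⟨c, hc, rfl⟩ := hq
  have h0 := dvdZ_sound (F := F) hp (of_allL hall c (by rwa [commOf_eq hC ha hb]))
  simp only [h0, zero_mul, xg_zero hC]

theorem takeOut_sound {p : ℕ} (hp : CharOK F p) (t u : F) {a : ℕ × ℤ × ℕ × ℕ} (ha : a.1 < D.nroots) :
    ∀ {B B' : List (ℕ × ℤ × ℕ × ℕ)}, (∀ b ∈ B, b.1 < D.nroots) → takeOut T p a B = some B' →
      evalT hC t u B = evalT hC t u [a] * evalT hC t u B' ∧ ∀ b ∈ B', b.1 < D.nroots := by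
  intro B
  induction B with
  | nil => intro B' _ h; simp [takeOut] at h
  | cons b B ih =>
    intro B' hB h
    have hB' : ∀ x ∈ B, x.1 < D.nroots := fun x hx => hB x (List.mem_cons_of_mem b hx)
    rw [takeOut] at h
    cases hs : same p a b with
    | true =>
      rw [hs, cond_true, Option.some.injEq] at h
      subst h
      simp only [same, Bool.and_eq_true] at hs
      obtain ⟨e1, e2, e3, e4⟩ := hs
      refine ⟨?_, hB'⟩
      simp only [evalT, List.map_cons, List.map_nil, List.prod_cons, List.prod_nil, mul_one]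
      have e := dvdZ_sound (F := F) hp e4
      rw [Int.cast_sub, sub_eq_zero] at e
      rw [Nat.eq_of_beq_eq_true e1, Nat.eq_of_beq_eq_true e2, Nat.eq_of_beq_eq_true e3, e]
    | false =>
      rw [hs, cond_false] at h
      cases hc : commute2 T p a.1 b.1 with
      | false => rw [hc, cond_false] at h; simp at h
      | true =>
        rw [hc, cond_true, Option.map_eq_some_iff] at h
        obtain ⟨B'', hB'', rfl⟩ := h
        obtain ⟨e, hlt⟩ := ih hB' hB''
        refine ⟨?_, fun x hx => ?_⟩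
        · simp only [evalT, List.map_cons, List.map_nil, List.prod_cons, List.prod_nil, mul_one] at e ⊢
          rw [e, ← mul_assoc, ← mul_assoc,
            commute2_sound hC hp ha (hB b List.mem_cons_self) hc]
        · rcases List.mem_cons.1 hx with rfl | hx
          exacts [hB _ List.mem_cons_self, hlt x hx]

theorem traceEq_sound {p : ℕ} (hp : CharOK F p) (t u : F) :
    ∀ {A B : List (ℕ × ℤ × ℕ × ℕ)}, (∀ a ∈ A, a.1 < D.nroots) → (∀ b ∈ B, b.1 < D.nroots) →
      traceEq T p A B = true → evalT hC t u A = evalT hC t u B := by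
  intro A
  induction A with
  | nil => intro B _ _ h; rw [traceEq, List.isEmpty_iff] at h; rw [h]
  | cons a A ih =>
    intro B hA hB h
    rw [traceEq] at h
    cases hto : takeOut T p a B with
    | none => rw [hto] at h; simp at h
    | some B' =>
      rw [hto] at h
      obtain ⟨e, hlt⟩ := takeOut_sound hC hp t u (hA a List.mem_cons_self) hB hto
      rw [e, ← ih (fun x hx => hA x (List.mem_cons_of_mem a hx)) hlt h]
      simp [evalT]

variable {p : ℕ} {M : GTab}

theorem relChk_spec (hp : CharOK F p) (h : relChk T p M = true) {r : ℕ} (hr : r < D.nroots) :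
    M.ρ r < D.nroots ∧ (M.ε r = 1 ∨ M.ε r = -1) ∧
      ∃ φ : F →+* F, (∀ x, φ x = x ^ M.e r) ∧ ∀ x : F, ∃ y : F, y ^ M.e r = x := by
  have h1 := of_allR h r (by rw [hC.n_eq]; exact hr)
  simp only [Bool.and_eq_true, Nat.blt_eq, hC.n_eq] at h1
  exact ⟨h1.1.1.1, Int.natAbs_eq_iff.1 (Nat.eq_of_beq_eq_true h1.1.1.2), exists_powHom hp h1.1.2⟩

theorem Xi_add (hp : CharOK F p) (h : relChk T p M = true) {r : ℕ} (hr : r < D.nroots) (t u : F) :
    Xi hC F M r (t + u) = Xi hC F M r t * Xi hC F M r u := by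
  obtain ⟨-, -, φ, hφ, -⟩ := relChk_spec hC hp h hr
  rw [Xi, Xi, Xi, ← xg_add hC, ← hφ, ← hφ, ← hφ, map_add, mul_add]

theorem Xi_comm (hp : CharOK F p) (h : relChk T p M = true) {r s : ℕ} (hr : r < D.nroots)
    (hs : s < D.nroots) (hne : s ≠ r) (hnn : s ≠ D.neg r) (t u : F) :
    Xi hC F M s u * Xi hC F M r t = Xi hC F M r t * Xi hC F M s u *
      ((D.commWord F r s t u).map fun q => Xi hC F M q.1 q.2).prod := by
  obtain ⟨hρr, -, -⟩ := relChk_spec hC hp h hr
  obtain ⟨hρs, -, -⟩ := relChk_spec hC hp h hs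
  have h1 := of_allR h r (by rw [hC.n_eq]; exact hr)
  rw [Bool.and_eq_true] at h1
  have h2 := of_allR h1.2 s (by rw [hC.n_eq]; exact hs)
  simp only [Bool.or_eq_true, Bool.and_eq_true, Bool.not_eq_true', hC.neg_eq hr, hC.neg_eq hρr] at h2
  rcases h2 with (h2 | h2) | ⟨⟨hne', hnn'⟩, htr⟩
  · exact absurd (Nat.eq_of_beq_eq_true h2) hne
  · exact absurd (Nat.eq_of_beq_eq_true h2) hnn
  have hE : commOf T.E r s = D.commTerms r s := commOf_eq hC hr hs
  have hE' : commOf T.E (M.ρ r) (M.ρ s) = D.commTerms (M.ρ r) (M.ρ s) := commOf_eq hC hρr hρs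
  rw [Xi, Xi, xg_comm hC hρr hρs (Nat.ne_of_beq_eq_false hne') (Nat.ne_of_beq_eq_false hnn')]
  congr 1
  have hA : ((D.commWord F r s t u).map fun q => Xi hC F M q.1 q.2).prod =
      evalT hC t u (imgTerms T M r s) := by
    rw [evalT, imgTerms, ChevalleyDatum.commWord, List.map_map, List.map_map, hE]
    congr 1
    refine List.map_congr_left fun c hc => ?_
    obtain ⟨-, -, φ, hφ, -⟩ := relChk_spec hC hp h (Relations.commTerms_lt hC hr hs c hc)
    simp only [Function.comp_apply, Xi, Int.cast_mul, Int.cast_pow, Int.cast_neg, Int.cast_one]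
    congr 1
    rw [← hφ, map_mul, map_mul, map_pow, map_pow, map_intCast, map_neg, hφ t, hφ u, neg_pow,
      ← pow_mul, ← pow_mul, mul_comm (M.e c.1) c.2.2.1, mul_comm (M.e c.1) c.2.2.2]
    ring
  have hB : ((D.commWord F (M.ρ r) (M.ρ s) ((M.ε r : F) * t ^ M.e r) ((M.ε s : F) * u ^ M.e s)).map
      fun q => xg hC q.1 q.2).prod = evalT hC t u (tgtTerms T M r s) := by
    rw [evalT, tgtTerms, ChevalleyDatum.commWord, List.map_map, List.map_map, hE']
    congr 1
    refine List.map_congr_left fun c _ => ?_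
    simp only [Function.comp_apply, Int.cast_mul, Int.cast_pow, Int.cast_neg]
    congr 1
    rw [show -((M.ε r : F) * t ^ M.e r) = (-(M.ε r : F)) * t ^ M.e r by ring, mul_pow, mul_pow,
      ← pow_mul, ← pow_mul, mul_comm c.2.2.1 (M.e r), mul_comm c.2.2.2 (M.e s)]
    ring
  rw [hA, hB, ← evalT_keep hC hp, ← evalT_keep hC hp _ _ (imgTerms T M r s)]
  refine (traceEq_sound hC hp t u (fun a ha => ?_) (fun a ha => ?_) htr).symm
  · obtain ⟨c, hc, rfl⟩ := List.mem_map.1 (List.mem_filter.1 ha).1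
    exact (relChk_spec hC hp h (Relations.commTerms_lt hC hr hs c (hE ▸ hc))).1
  · obtain ⟨c, hc, rfl⟩ := List.mem_map.1 (List.mem_filter.1 ha).1
    exact Relations.commTerms_lt hC hρr hρs c (hE' ▸ hc)

theorem Xi_mem (hp : CharOK F p) (h : relChk T p M = true) {r : ℕ} (hr : r < D.nroots) (t : F) :
    Xi hC F M r t ∈ D.group F :=
  xg_mem_group hC (relChk_spec hC hp h hr).1 _

/-- A subgroup containing the root elements of the fundamental roots and their negatives contains
the group. -/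
theorem group_le_of_simples {K : Subgroup (GL D.Idx F)}
    (h : ∀ i < D.rank, ∀ t : F, xg hC (D.simple i) t ∈ K ∧ xg hC (D.neg (D.simple i)) t ∈ K) :
    D.group F ≤ K := by
  have hall : ∀ r < D.nroots, ∀ t : F, xg hC r t ∈ K := by
    refine Root.simple_induction hC (fun i hi t => (h i hi t).1) fun r hr i hi ih t => ?_
    obtain ⟨η, hη, he⟩ := eta_field (F := F) (i := i) (r := r) hC
    rw [show xg hC (D.reflectRoot i r) t =
      ng hC (D.simple i) 1 * xg hC r (η⁻¹ * t) * (ng hC (D.simple i) (1 : F))⁻¹ by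
      rw [ng_conj_x hC hi hr, ← he, mul_inv_cancel_left₀ hη]]
    have hn : ng hC (D.simple i) (1 : F) ∈ K :=
      mul_mem (mul_mem (h i hi _).1 (h i hi _).2) (h i hi _).1
    exact mul_mem (mul_mem hn (ih _)) (inv_mem hn)
  rw [group_eq_closure hC, Subgroup.closure_le]
  rintro g ⟨r, t, hr, rfl⟩
  exact hall r hr t

/-- The endomorphism. -/
theorem exists_hom (hT : HasCerts T) (hp : CharOK F p) (h : relChk T p M = true)
    (honto : ontoChk T M = true) :
    ∃ α : D.group F →* D.group F, Function.Surjective α ∧ ∀ r, ∀ hr : r < D.nroots, ∀ t : F,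
      (α ⟨xg hC r t, xg_mem_group hC hr t⟩ : GL D.Idx F) = Xi hC F M r t := by
  classical
  let A : Set (GL D.Idx F × GL D.Idx F) :=
    {g | ∃ r t, r < D.nroots ∧ g = (xg hC r t, Xi hC F M r t)}
  let P : Subgroup (GL D.Idx F × GL D.Idx F) := Subgroup.closure A
  let X : ℕ → F → P := fun r t =>
    if hr : r < D.nroots then
      ⟨(xg hC r t, Xi hC F M r t), Subgroup.subset_closure ⟨r, t, hr, rfl⟩⟩
    else 1
  have hX : ∀ r < D.nroots, ∀ t, ((X r t : P) : GL D.Idx F × GL D.Idx F) =
      (xg hC r t, Xi hC F M r t) := fun r hr t => by simp [X, hr]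
  let S : Sys hC F P :=
    { X := X
      th := (MonoidHom.fst _ _).comp P.subtype
      th_X := fun r hr t => by simp [hX r hr t]
      add := fun r hr t u => Subtype.ext (by
        rw [Subgroup.coe_mul, hX r hr, hX r hr, hX r hr, Prod.mk_mul_mk, ← xg_add hC,
          ← Xi_add hC hp h hr])
      comm := fun r hr s hs hne hnn t u => Subtype.ext (by
        have hw : ∀ w : List (ℕ × F), (∀ q ∈ w, q.1 < D.nroots) →
            (((w.map fun q => X q.1 q.2).prod : P) : GL D.Idx F × GL D.Idx F) =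
              ((w.map fun q => xg hC q.1 q.2).prod, (w.map fun q => Xi hC F M q.1 q.2).prod) := by
          intro w hw
          induction w with
          | nil => simp; rfl
          | cons q w ih =>
            simp only [List.map_cons, List.prod_cons, Subgroup.coe_mul,
              ih fun x hx => hw x (List.mem_cons_of_mem q hx), hX q.1 (hw q List.mem_cons_self),
              Prod.mk_mul_mk]
        rw [Subgroup.coe_mul, Subgroup.coe_mul, Subgroup.coe_mul, hX r hr, hX s hs,
          hw _ (fun q hq => by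
            simp only [ChevalleyDatum.commWord, List.mem_map] at hq
            obtain ⟨c, hc, rfl⟩ := hq
            exact Relations.commTerms_lt hC hr hs c hc),
          Prod.mk_mul_mk, Prod.mk_mul_mk, Prod.mk_mul_mk, xg_comm hC hr hs hne hnn,
          Xi_comm hC hp h hr hs hne hnn])
      gen := by
        have e : {g : P | ∃ r t, r < D.nroots ∧ g = X r t} = ((↑) : P → _) ⁻¹' A := by
          ext g
          constructor
          · rintro ⟨r, t, hr, rfl⟩; exact ⟨r, t, hr, hX r hr t⟩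
          · rintro ⟨r, t, hr, e⟩; exact ⟨r, t, hr, Subtype.ext (e.trans (hX r hr t).symm)⟩
        rw [e]
        exact Subgroup.closure_closure_coe_preimage }
  let snd : P →* GL D.Idx F := (MonoidHom.snd _ _).comp P.subtype
  have hsnd : snd.range = D.group F := by
    rw [MonoidHom.range_eq_map, ← S.gen, MonoidHom.map_closure]
    refine le_antisymm ((Subgroup.closure_le _).2 ?_) ?_
    · rintro x ⟨y, ⟨r, t, hr, rfl⟩, rfl⟩
      show ((X r t : P) : GL D.Idx F × GL D.Idx F).2 ∈ D.group F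
      rw [hX r hr]
      exact Xi_mem hC hp h hr t
    · rw [group_eq_closure hC]
      refine Subgroup.closure_mono ?_
      rintro x ⟨k, u, hk, rfl⟩
      obtain ⟨r, hr, hrk⟩ := of_anyR (of_allR honto k (by rw [hC.n_eq]; exact hk))
      rw [hC.n_eq] at hr
      have hrk' : M.ρ r = k := Nat.eq_of_beq_eq_true hrk
      obtain ⟨-, hε, φ, -, hsurj⟩ := relChk_spec hC hp h hr
      obtain ⟨t, ht⟩ := hsurj ((M.ε r : F) * u)
      refine ⟨X r t, ⟨r, t, hr, rfl⟩, ?_⟩
      show ((X r t : P) : GL D.Idx F × GL D.Idx F).2 = _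
      rw [hX r hr]
      show Xi hC F M r t = _
      rw [Xi, hrk', ht, ← mul_assoc]
      rcases hε with e | e <;> simp [e]
  have hinj : Function.Injective S.th := by
    rw [← MonoidHom.ker_eq_bot_iff, eq_bot_iff]
    intro z hz
    have hc := ker_le_center S hT hz
    have hzG : snd z ∈ D.group F := hsnd ▸ ⟨z, rfl⟩
    have h1 : (⟨snd z, hzG⟩ : D.group F) ∈ Subgroup.center (D.group F) := by
      rw [Subgroup.mem_center_iff]
      rintro ⟨y, hy⟩
      obtain ⟨x, rfl⟩ : y ∈ snd.range := hsnd.symm ▸ hy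
      exact Subtype.ext (by
        show snd x * snd z = snd z * snd x
        rw [← map_mul, ← map_mul, Subgroup.mem_center_iff.1 hc x])
    rw [StSteinberg.center_group hC hT, Subgroup.mem_bot] at h1
    rw [Subgroup.mem_bot]
    exact Subtype.ext (Prod.ext hz (congrArg Subtype.val h1))
  let e : P ≃* D.group F :=
    (MonoidHom.ofInjective hinj).trans (MulEquiv.subgroupCongr (th_range S))
  let β : P →* D.group F := snd.codRestrict (D.group F) fun z => hsnd ▸ ⟨z, rfl⟩
  refine ⟨β.comp e.symm.toMonoidHom, fun y => ?_, fun r hr t => ?_⟩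
  · obtain ⟨z, hz⟩ : (y : GL D.Idx F) ∈ snd.range := by rw [hsnd]; exact y.2
    exact ⟨e z, by simp [β]; exact Subtype.ext hz⟩
  · have he : e (X r t) = ⟨xg hC r t, xg_mem_group hC hr t⟩ :=
      Subtype.ext (S.th_X r hr t)
    show ((β (e.symm _) : D.group F) : GL D.Idx F) = _
    rw [← he, e.symm_apply_apply]
    show ((X r t : P) : GL D.Idx F × GL D.Idx F).2 = _
    rw [hX r hr]

theorem simpleChk_spec {L : List (ℕ × ℕ)} (h : simpleChk T M L = true) {i : ℕ} (hi : i < D.rank) :
    (L.getD i (0, 1)).1 < D.rank ∧ ∀ t : F,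
      Xi hC F M (D.simple i) t = xg hC (D.simple (L.getD i (0, 1)).1) (t ^ (L.getD i (0, 1)).2) ∧
      Xi hC F M (D.neg (D.simple i)) t =
        xg hC (D.neg (D.simple (L.getD i (0, 1)).1)) (t ^ (L.getD i (0, 1)).2) := by
  have h1 := of_allR h i (by rw [hC.l_eq]; exact hi)
  simp only [Bool.and_eq_true, Nat.blt_eq, hC.l_eq] at h1
  obtain ⟨⟨⟨hj, e1⟩, e2, e3, e3'⟩, ⟨e4, e4'⟩, e5, e6⟩ := h1
  have one : ∀ z : ℤ, isUnit1 z = true → isNN z = true → z = 1 := fun z hu hn => by
    have := (isNN_iff z).1 hn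
    rcases Int.natAbs_eq_iff.1 (Nat.eq_of_beq_eq_true hu) with e | e <;> omega
  have hp' := hC.simple_lt hi
  rw [hC.simple_eq hi, hC.simple_eq hj] at e1 e2
  rw [hC.neg_eq hp', hC.neg_eq (hC.simple_lt hj)] at e2
  rw [hC.simple_eq hi, hC.neg_eq hp'] at e4 e4' e6
  rw [hC.simple_eq hi] at e3 e3' e5
  refine ⟨hj, fun t => ⟨?_, ?_⟩⟩ <;> rw [Xi]
  · rw [Nat.eq_of_beq_eq_true e1, one _ e3 e3', Nat.eq_of_beq_eq_true e5, Int.cast_one, one_mul]
  · rw [Nat.eq_of_beq_eq_true e2, one _ e4 e4', Nat.eq_of_beq_eq_true e6, Int.cast_one, one_mul]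

/-- The automorphism: the second table undoes the first up to the Frobenius map `t ↦ t^q`. -/
theorem exists_aut (hT : HasCerts T) (hp : CharOK F p) {M' : GTab} {L L' : List (ℕ × ℕ)}
    (h : relChk T p M = true) (honto : ontoChk T M = true) (hs : simpleChk T M L = true)
    (h' : relChk T p M' = true) (honto' : ontoChk T M' = true) (hs' : simpleChk T M' L' = true)
    {q : ℕ} (hq : (Nat.beq q 1 || (Nat.beq q p && !Nat.beq p 0)) = true)
    (hLL : ∀ i < D.rank, (L'.getD (L.getD i (0, 1)).1 (0, 1)).1 = i ∧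
      (L.getD i (0, 1)).2 * (L'.getD (L.getD i (0, 1)).1 (0, 1)).2 = q) :
    ∃ α : D.group F ≃* D.group F, ∀ (g : D.group F) (i : ℕ) (t : F), i < D.rank →
      (((g : GL D.Idx F) : Matrix D.Idx D.Idx F) = D.x F (D.simple i) t →
        ((α g : GL D.Idx F) : Matrix D.Idx D.Idx F) =
          D.x F (D.simple (L.getD i (0, 1)).1) (t ^ (L.getD i (0, 1)).2)) ∧
      (((g : GL D.Idx F) : Matrix D.Idx D.Idx F) = D.x F (D.neg (D.simple i)) t →
        ((α g : GL D.Idx F) : Matrix D.Idx D.Idx F) =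
          D.x F (D.neg (D.simple (L.getD i (0, 1)).1)) (t ^ (L.getD i (0, 1)).2)) := by
  obtain ⟨α, hαs, hα⟩ := exists_hom hC hT hp h honto
  obtain ⟨α', -, hα'⟩ := exists_hom hC hT hp h' honto'
  obtain ⟨φ, hφ, -⟩ := exists_powHom hp hq
  have hcomp : (D.group F).subtype.comp (α'.comp α) =
      (FieldAut.mapGL D φ).comp (D.group F).subtype := by
    let K : Subgroup (D.group F) := MonoidHom.eqLocus ((D.group F).subtype.comp (α'.comp α))
      ((FieldAut.mapGL D φ).comp (D.group F).subtype)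
    have hK : D.group F ≤ K.map (D.group F).subtype := by
      refine group_le_of_simples hC fun i hi t => ?_
      obtain ⟨hj, hval⟩ := simpleChk_spec hC (F := F) hs hi
      obtain ⟨-, hval'⟩ := simpleChk_spec hC (F := F) hs' hj
      obtain ⟨e1, e2⟩ := hLL i hi
      have hp' := hC.simple_lt hi
      have hj' := hC.simple_lt hj
      have key : ∀ (r r' : ℕ) (hr : r < D.nroots) (hr' : r' < D.nroots),
          (∀ t, Xi hC F M r t = xg hC r' (t ^ (L.getD i (0, 1)).2)) →
          (∀ t, Xi hC F M' r' t = xg hC r (t ^ (L'.getD (L.getD i (0, 1)).1 (0, 1)).2)) →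
          xg hC r t ∈ K.map (D.group F).subtype := by
        intro r r' hr hr' ha hb'
        refine ⟨⟨xg hC r t, xg_mem_group hC hr t⟩, ?_, rfl⟩
        show ((α' (α ⟨_, _⟩) : D.group F) : GL D.Idx F) = FieldAut.mapGL D φ (xg hC r t)
        rw [show α ⟨xg hC r t, xg_mem_group hC hr t⟩ =
          ⟨xg hC r' (t ^ (L.getD i (0, 1)).2), xg_mem_group hC hr' _⟩ from
            Subtype.ext ((hα r hr t).trans (ha t)), hα' r' hr', hb', ← pow_mul, e2]
        refine Units.ext ?_
        rw [FieldAut.mapGL_coe, coe_xg, coe_xg, FieldAut.x_map, hφ]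
      refine ⟨key _ _ hp' hj' (fun t => (hval t).1) fun t => ?_,
        key _ _ (hC.neg_lt hp') (hC.neg_lt hj') (fun t => (hval t).2) fun t => ?_⟩
      · rw [(hval' t).1, e1]
      · rw [(hval' t).2, e1]
    refine MonoidHom.ext fun g => ?_
    obtain ⟨g', hg', e⟩ := hK g.2
    obtain rfl : g' = g := Subtype.ext e
    exact hg'
  have hinj : Function.Injective α := by
    rw [← MonoidHom.ker_eq_bot_iff, eq_bot_iff]
    intro g hg
    rw [Subgroup.mem_bot]
    have h1 := DFunLike.congr_fun hcomp g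
    simp only [MonoidHom.comp_apply, Subgroup.coe_subtype] at h1
    rw [MonoidHom.mem_ker.1 hg, map_one, Subgroup.coe_one] at h1
    refine Subtype.ext (Units.ext ?_)
    have h2 := congrArg (fun z : GL D.Idx F => (z : Matrix D.Idx D.Idx F)) h1
    simp only [Units.val_one, FieldAut.mapGL_coe] at h2
    exact Matrix.map_injective φ.injective (by show Matrix.map _ φ = Matrix.map _ φ; rw [← h2]; simp)
  refine ⟨MulEquiv.ofBijective α ⟨hinj, hαs⟩, fun g i t hi => ?_⟩
  obtain ⟨-, hval⟩ := simpleChk_spec hC (F := F) hs hi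
  have hp' := hC.simple_lt hi
  constructor <;> intro hg
  · rw [show g = ⟨xg hC (D.simple i) t, xg_mem_group hC hp' t⟩ from Subtype.ext (Units.ext hg)]
    exact congrArg Units.val ((hα _ hp' t).trans (hval t).1)
  · rw [show g = ⟨xg hC (D.neg (D.simple i)) t, xg_mem_group hC (hC.neg_lt hp') t⟩ from
      Subtype.ext (Units.ext hg)]
    exact congrArg Units.val ((hα _ (hC.neg_lt hp') t).trans (hval t).2)

end Cfsg.Agent.Chevalley.GraphAut
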