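import Cfsg.Agent.Lib.Chevalley.Weyl
import Cfsg.Agent.Lib.BN.Parabolic

/-!
The BN pair of a Chevalley group.
-/

set_option autoImplicit false

open scoped Matrix

namespace Cfsg.Agent.Chevalley.Bruhat

open Cfsg.Lie Cfsg.Agent.Chevalley.Table Cfsg.Agent.Chevalley.Check
  Cfsg.Agent.Chevalley.Cert Cfsg.Agent.Chevalley.Group Cfsg.Agent.Chevalley.Weight
  Cfsg.Agent.Chevalley.Unip Cfsg.Agent.Chevalley.Borel Cfsg.Agent.Chevalley.Weyl

variable {D : ChevalleyDatum} {F : Type*} [Field F] {T : Tab}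

/-- The subgroup generated by the root subgroups of the positive roots other than `p`. -/
def Uom (hC : Certified D T) (F : Type*) [Field F] (p : ℕ) : Subgroup (GL D.Idx F) :=
  Subgroup.closure {g : GL D.Idx F | ∃ (r : ℕ) (t : F), r < D.nroots ∧ (0 < T.phi r ∧ r ≠ p) ∧
    g = xg hC r t}

theorem conj_closure_le {G : Type*} [Group G] {S : Set G} {g : G}
    (h : ∀ x ∈ S, g * x * g⁻¹ ∈ Subgroup.closure S) :
    ∀ x ∈ Subgroup.closure S, g * x * g⁻¹ ∈ Subgroup.closure S := by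
  intro x hx
  induction hx using Subgroup.closure_induction with
  | mem x hx => exact h x hx
  | one => simp
  | mul a b _ _ iha ihb =>
    rw [show g * (a * b) * g⁻¹ = g * a * g⁻¹ * (g * b * g⁻¹) by group]; exact mul_mem iha ihb
  | inv a _ iha => rw [show g * a⁻¹ * g⁻¹ = (g * a * g⁻¹)⁻¹ by group]; exact inv_mem iha

theorem mem_normalizer_of_conj {G : Type*} [Group G] {S : Set G} {g : G}
    (h : ∀ x ∈ S, g * x * g⁻¹ ∈ Subgroup.closure S)
    (h' : ∀ x ∈ S, g⁻¹ * x * g ∈ Subgroup.closure S) :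
    g ∈ Subgroup.normalizer (Subgroup.closure S : Set G) := by
  rw [Subgroup.mem_normalizer_iff]
  refine fun x => ⟨conj_closure_le h x, fun hx => ?_⟩
  have := conj_closure_le (g := g⁻¹) (by simpa using h') _ hx
  simpa [mul_assoc] using this

variable (hC : Certified D T)
include hC

theorem Uom_le_U (p : ℕ) : Uom hC F p ≤ D.posUnipotent F := by
  refine (Subgroup.closure_le _).2 ?_
  rintro g ⟨r, t, hr, ⟨hp, -⟩, rfl⟩
  exact xg_mem_U hC hr hp t

theorem U_split {p : ℕ} (hp : p < D.nroots) (hpos : 0 < T.phi p) {u : GL D.Idx F}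
    (hu : u ∈ D.posUnipotent F) : ∃ v ∈ Uom hC F p, ∃ t : F, u = v * xg hC p t := by
  classical
  rw [← Uge_zero hC] at hu
  obtain ⟨f, hf⟩ := split_decomp hC (fun r => decide (r ≠ p)) 0 u hu
  refine ⟨prodX hC ((posFrom D 0).filter fun r => decide (r ≠ p)) f, ?_, f p, ?_⟩
  · refine list_prod_mem fun g hg => ?_
    obtain ⟨r, hr, rfl⟩ := List.mem_map.1 hg
    obtain ⟨hr', hne⟩ := List.mem_filter.1 hr
    have h1 := (mem_posFrom hC).1 hr'
    exact Subgroup.subset_closure ⟨r, _, h1.1, ⟨h1.2.1, by simpa using hne⟩, rfl⟩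
  · rw [hf]
    congr 1
    have : ((posFrom D 0).filter fun r => !decide (r ≠ p)) = [p] := by
      refine eq_of_sorted hC ((posFrom_sorted 0).filter _) (List.pairwise_singleton _ _) fun x => ?_
      simp only [List.mem_filter, mem_posFrom hC, List.mem_singleton]
      constructor
      · rintro ⟨-, h⟩; simpa using h
      · rintro rfl; exact ⟨⟨hp, hpos, Nat.zero_le _⟩, by simp⟩
    rw [this]
    simp [prodX]

theorem xg_normalizes_Uom {i : ℕ} (hi : i < D.rank) (t : F) :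
    xg hC (D.simple i) t ∈ Subgroup.normalizer (Uom hC F (D.simple i) : Set (GL D.Idx F)) := by
  have key : ∀ t : F, ∀ x ∈ {g : GL D.Idx F | ∃ (r : ℕ) (t : F), r < D.nroots ∧
      (0 < T.phi r ∧ r ≠ D.simple i) ∧ g = xg hC r t},
      (xg hC (D.simple i) t)⁻¹ * x * xg hC (D.simple i) t ∈ Uom hC F (D.simple i) := by
    rintro t _ ⟨s, u, hs, ⟨hps, hne⟩, rfl⟩
    have hpr := hC.phi_simple hi
    have hr := hC.simple_lt hi
    have hsn : s ≠ D.neg (D.simple i) := by
      rintro rfl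
      rw [hC.phi_neg hr] at hps
      omega
    rw [mul_assoc, xg_comm hC hr hs hne hsn, ← mul_assoc, ← mul_assoc, inv_mul_cancel, one_mul]
    refine mul_mem (Subgroup.subset_closure ⟨s, u, hs, ⟨hps, hne⟩, rfl⟩) (list_prod_mem fun g hg => ?_)
    obtain ⟨q, hq, rfl⟩ := List.mem_map.1 hg
    simp only [ChevalleyDatum.commWord, List.mem_map] at hq
    obtain ⟨c, hc, rfl⟩ := hq
    obtain ⟨hk, a, b, ha, hb, hphi⟩ := commTerms_phi hC hr hs c hc
    have h1 : T.phi (D.simple i) + T.phi s ≤ T.phi c.1 := by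
      rw [hphi]
      exact add_le_add (le_mul_of_one_le_left hpr.le (by exact_mod_cast ha))
        (le_mul_of_one_le_left hps.le (by exact_mod_cast hb))
    refine Subgroup.subset_closure ⟨c.1, _, hk, ⟨by omega, fun h => ?_⟩, rfl⟩
    rw [h] at h1
    omega
  refine mem_normalizer_of_conj (fun x hx => ?_) (fun x hx => key t x hx)
  have := key (-t) x hx
  rwa [← xg_inv hC, inv_inv] at this

theorem ng_normalizes_Uom {i : ℕ} (hi : i < D.rank) :
    ng hC (D.simple i) (1 : F) ∈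
      Subgroup.normalizer (Uom hC F (D.simple i) : Set (GL D.Idx F)) := by
  have key : ∀ x ∈ {g : GL D.Idx F | ∃ (r : ℕ) (t : F), r < D.nroots ∧
      (0 < T.phi r ∧ r ≠ D.simple i) ∧ g = xg hC r t},
      ∃ (r : ℕ) (t : F), r < D.nroots ∧ (0 < T.phi r ∧ r ≠ D.simple i) ∧
        ng hC (D.simple i) 1 * x * (ng hC (D.simple i) (1 : F))⁻¹ = xg hC r t := by
    rintro _ ⟨r, t, hr, ⟨hp, hne⟩, rfl⟩
    refine ⟨_, _, hC.reflect_lt hi hr, ⟨hC.reflect_pos hi hr hne hp, fun h => ?_⟩, ng_conj_x hC hi hr t⟩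
    have h1 := hC.reflect_reflect hi hr
    rw [h, hC.reflect_simple hi] at h1
    rw [← h1, hC.phi_neg (hC.simple_lt hi)] at hp
    have := hC.phi_simple hi
    omega
  refine mem_normalizer_of_conj (fun x hx => ?_) fun x hx => ?_
  · obtain ⟨r, t, hr, hP, e⟩ := key x hx
    rw [e]
    exact Subgroup.subset_closure ⟨r, t, hr, hP, rfl⟩
  · obtain ⟨c, hc⟩ := ng_sq (F := F) hC hi
    obtain ⟨r, t, hr, hP, e⟩ := key x hx
    have hn : (ng hC (D.simple i) (1 : F))⁻¹ = (tor D c)⁻¹ * ng hC (D.simple i) 1 := by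
      rw [← hc, mul_inv_rev, inv_mul_cancel_right]
    have e2 : (ng hC (D.simple i) (1 : F))⁻¹ * x * ng hC (D.simple i) 1 =
        tor D c⁻¹ * xg hC r t * (tor D c⁻¹)⁻¹ := by
      rw [← tor_inv, inv_inv, ← e, hn, ← hc]
      group
    rw [e2, tor_conj_x hC _ _ _ hr]
    exact Subgroup.subset_closure ⟨r, _, hr, hP, rfl⟩

theorem H_normalizes_Uom (p : ℕ) :
    D.diagonalSubgroup F ≤ Subgroup.normalizer (Uom hC F p : Set (GL D.Idx F)) :=
  H_le_normalizer hC

theorem neg_xg_mem {i : ℕ} (hi : i < D.rank) (t : F) :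
    ∃ u : F, xg hC (D.neg (D.simple i)) t =
      ng hC (D.simple i) 1 * xg hC (D.simple i) u * (ng hC (D.simple i) (1 : F))⁻¹ := by
  obtain ⟨η, hη, he⟩ := eta_field (F := F) (i := i) (r := D.simple i) hC
  refine ⟨η⁻¹ * t, ?_⟩
  rw [ng_conj_x hC hi (hC.simple_lt hi), hC.reflect_simple hi, ← he, mul_inv_cancel_left₀ hη]

theorem rootSubgroups_le_normalizer {i : ℕ} (hi : i < D.rank) :
    D.rootSubgroup F (D.simple i) ⊔ D.rootSubgroup F (D.neg (D.simple i)) ≤
      Subgroup.normalizer (Uom hC F (D.simple i) : Set (GL D.Idx F)) := by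
  refine sup_le (fun g hg => ?_) fun g hg => ?_
  · obtain ⟨t, rfl⟩ := (mem_rootSubgroup hC).1 hg
    exact xg_normalizes_Uom hC hi t
  · obtain ⟨t, rfl⟩ := (mem_rootSubgroup hC).1 hg
    obtain ⟨u, hu⟩ := neg_xg_mem hC hi t
    rw [hu]
    exact mul_mem (mul_mem (ng_normalizes_Uom hC hi) (xg_normalizes_Uom hC hi u))
      (inv_mem (ng_normalizes_Uom hC hi))

theorem Uom_sup {i : ℕ} (hi : i < D.rank) :
    Uom hC F (D.simple i) ⊔ D.rootSubgroup F (D.simple i) = D.posUnipotent F := by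
  refine le_antisymm (sup_le (Uom_le_U hC _) fun g hg => ?_) fun u hu => ?_
  · obtain ⟨t, rfl⟩ := (mem_rootSubgroup hC).1 hg
    exact xg_mem_U hC (hC.simple_lt hi) (hC.phi_simple hi) t
  · obtain ⟨v, hv, t, rfl⟩ := U_split hC (hC.simple_lt hi) (hC.phi_simple hi) hu
    exact mul_mem (Subgroup.mem_sup_left hv) (Subgroup.mem_sup_right ((mem_rootSubgroup hC).2 ⟨t, rfl⟩))

/-- Rewriting `x_{-p}(u)` through `n_p`. -/
theorem neg_xg_eq (p : ℕ) (u : F) :
    xg hC (D.neg p) u = xg hC p u⁻¹ * ng hC p (-u⁻¹) * xg hC p u⁻¹ := by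
  simp only [ng, inv_neg, inv_inv, neg_neg, ← mul_assoc]
  rw [← xg_add hC, add_neg_cancel, xg_zero hC, one_mul, mul_assoc, ← xg_add hC, neg_add_cancel,
    xg_zero hC, mul_one]

theorem wL_neg_simple {L : List ℕ} (hL : ∀ i ∈ L, i < D.rank) {r : ℕ} (hr : r < D.nroots) :
    wL D L (wL D L.reverse r) = r := by
  have hLr : ∀ i ∈ L.reverse, i < D.rank := fun i hi => hL i (List.mem_reverse.1 hi)
  simpa using wL_reverse hC hLr hr

/-- The double coset condition. -/
theorem mul_mem_union {i : ℕ} (hi : i < D.rank) {n b : GL D.Idx F}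
    (hn : n ∈ D.monomialSubgroup F) (hb : b ∈ D.borelSubgroup F) :
    ng hC (D.simple i) 1 * b * n ∈
        DoubleCoset.doubleCoset (ng hC (D.simple i) 1 * n) (D.borelSubgroup F : Set (GL D.Idx F))
          (D.borelSubgroup F) ∪
      DoubleCoset.doubleCoset n (D.borelSubgroup F : Set (GL D.Idx F)) (D.borelSubgroup F) := by
  obtain ⟨c, L, hL, rfl⟩ := (mem_N_iff hC).1 hn
  obtain ⟨u, hu, h, hh, rfl⟩ := (mem_B_iff hC).1 hb
  obtain ⟨d, rfl⟩ := (mem_H_iff hC).1 hh
  obtain ⟨v, hv, t, rfl⟩ := U_split hC (hC.simple_lt hi) (hC.phi_simple hi) hu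
  have hB : ∀ c : ℕ → Fˣ, tor D c ∈ D.borelSubgroup F := fun c =>
    Subgroup.mem_sup_right (tor_mem_H hC c)
  have hUB : D.posUnipotent F ≤ D.borelSubgroup F := le_sup_left
  have hv' : ng hC (D.simple i) 1 * v * (ng hC (D.simple i) (1 : F))⁻¹ ∈ D.borelSubgroup F :=
    hUB (Uom_le_U hC _ ((Subgroup.mem_normalizer_iff.1 (ng_normalizes_Uom hC hi) v).1 hv))
  obtain ⟨e', he', hee'⟩ := ng_conj_tor (F := F) hC hi (d * c)
  -- everything reduces to the product `n_p x_p(t') n_L`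
  obtain ⟨t', ht'⟩ : ∃ t' : F, xg hC (D.simple i) t * tor D (d * c) =
      tor D (d * c) * xg hC (D.simple i) t' := by
    have h1 := tor_conj_x hC (d * c)⁻¹ (D.simple i) t (hC.simple_lt hi)
    rw [← tor_inv, inv_inv] at h1
    exact ⟨_, by rw [← h1]; group⟩
  have e1 : ng hC (D.simple i) 1 * (v * xg hC (D.simple i) t * tor D d) * (tor D c * nL hC F L) =
      ng hC (D.simple i) 1 * v * (ng hC (D.simple i) (1 : F))⁻¹ * tor D e' *
        (ng hC (D.simple i) 1 * xg hC (D.simple i) t' * nL hC F L) := by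
    rw [← he']
    calc _ = ng hC (D.simple i) 1 * v * ((xg hC (D.simple i) t * tor D (d * c)) * nL hC F L) := by
          rw [← tor_mul]; group
      _ = _ := by rw [ht']; group
  rw [e1]
  have hpre : ng hC (D.simple i) 1 * v * (ng hC (D.simple i) (1 : F))⁻¹ * tor D e' ∈
      D.borelSubgroup F := mul_mem hv' (hB e')
  generalize ng hC (D.simple i) 1 * v * (ng hC (D.simple i) (1 : F))⁻¹ * tor D e' = b₀ at hpre
  set r := wL D L.reverse (D.simple i) with hrdef
  have hLr : ∀ i ∈ L.reverse, i < D.rank := fun i hi => hL i (List.mem_reverse.1 hi)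
  have hr : r < D.nroots := wL_lt hC hLr (hC.simple_lt hi)
  have hwr : wL D L r = D.simple i := wL_neg_simple hC hL (hC.simple_lt hi)
  have hsn : ∀ c : ℕ → Fˣ, ∃ c' : ℕ → Fˣ,
      ng hC (D.simple i) 1 * tor D c = tor D c' * ng hC (D.simple i) (1 : F) := fun c => by
    obtain ⟨c', h1, -⟩ := ng_conj_tor (F := F) hC hi c
    exact ⟨c', by rw [← h1]; group⟩
  rcases lt_or_gt_of_ne (hC.phi_ne_zero hr) with hneg | hpos
  · by_cases ht0 : t' = 0
    · refine Or.inl (DoubleCoset.mem_doubleCoset.2 ?_)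
      obtain ⟨c', hc'⟩ := hsn c
      refine ⟨b₀ * (tor D c')⁻¹, mul_mem hpre (inv_mem (hB c')), 1, one_mem _, ?_⟩
      rw [ht0, xg_zero hC, ← mul_assoc (ng hC (D.simple i) 1) (tor D c) (nL hC F L), hc']
      group
    refine Or.inr (DoubleCoset.mem_doubleCoset.2 ?_)
    -- `n_p x_p(t') = x_{-p}(a) n_p`
    obtain ⟨η, hη, he⟩ := eta_field (F := F) (i := i) (r := D.simple i) hC
    have e2 : ng hC (D.simple i) 1 * xg hC (D.simple i) t' =
        xg hC (D.neg (D.simple i)) (η * t') * ng hC (D.simple i) 1 := by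
      have := ng_conj_x hC hi (hC.simple_lt hi) t'
      rw [hC.reflect_simple hi, ← he] at this
      rw [← this]; group
    have ha : η * t' ≠ 0 := mul_ne_zero hη ht0
    obtain ⟨g, hg⟩ := ng_simple_eq (F := F) hC hi (a := -(η * t')⁻¹) (neg_ne_zero.2 (inv_ne_zero ha))
    obtain ⟨k, hk⟩ := ng_sq (F := F) hC hi
    -- `n_p⁻¹ x_p(a) n_p n_L = n_L x_r(·)` with `-r` positive
    obtain ⟨s, hs⟩ : ∃ s : F, (ng hC (D.simple i) (1 : F))⁻¹ * xg hC (D.simple i) (η * t')⁻¹ *
        ng hC (D.simple i) 1 = xg hC (D.neg (D.simple i)) s := by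
      obtain ⟨c, hc⟩ := ng_sq (F := F) hC hi
      have hn : (ng hC (D.simple i) (1 : F))⁻¹ = (tor D c)⁻¹ * ng hC (D.simple i) 1 := by
        rw [← hc, mul_inv_rev, inv_mul_cancel_right]
      refine ⟨(torChar D c⁻¹ (D.neg (D.simple i)) : F) * (η * (η * t')⁻¹), ?_⟩
      have := ng_conj_x hC hi (hC.simple_lt hi) (η * t')⁻¹
      rw [hC.reflect_simple hi, ← he] at this
      rw [← tor_conj_x hC _ _ _ (hC.neg_lt (hC.simple_lt hi)), ← this, ← tor_inv, inv_inv, hn,
        ← hc]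
      group
    obtain ⟨ε, hε, heps⟩ := nL_conj_x (F := F) hC hL (hC.neg_lt hr)
    have hnr : wL D L (D.neg r) = D.neg (D.simple i) := by rw [wL_neg hC hL hr, hwr]
    refine ⟨b₀ * xg hC (D.simple i) (η * t')⁻¹ * tor D g * tor D k * (tor D c)⁻¹, ?_,
      xg hC (D.neg r) (ε⁻¹ * s), ?_, ?_⟩
    · refine mul_mem (mul_mem (mul_mem (mul_mem hpre ?_) (hB g)) (hB k)) (inv_mem (hB c))
      exact hUB (xg_mem_U hC (hC.simple_lt hi) (hC.phi_simple hi) _)
    · exact hUB (xg_mem_U hC (hC.neg_lt hr) (by rw [hC.phi_neg hr]; omega) _)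
    have e3 := heps (ε⁻¹ * s)
    rw [hnr, mul_inv_cancel_left₀ hε, ← hs] at e3
    rw [show ng hC (D.simple i) 1 * xg hC (D.simple i) t' * nL hC F L =
      xg hC (D.neg (D.simple i)) (η * t') * ng hC (D.simple i) 1 * nL hC F L by rw [e2],
      neg_xg_eq hC (D.simple i) (η * t'), hg, ← hk]
    calc _ = b₀ * xg hC (D.simple i) (η * t')⁻¹ * tor D g * ng hC (D.simple i) 1 * ng hC (D.simple i) 1 *
          ((ng hC (D.simple i) (1 : F))⁻¹ * xg hC (D.simple i) (η * t')⁻¹ *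
            ng hC (D.simple i) 1) * nL hC F L := by group
      _ = _ := by rw [← e3]; group
  · refine Or.inl (DoubleCoset.mem_doubleCoset.2 ?_)
    obtain ⟨η, hη, he⟩ := nL_conj_x (F := F) hC hL hr
    obtain ⟨c', hc'⟩ := hsn c
    refine ⟨b₀ * (tor D c')⁻¹, mul_mem hpre (inv_mem (hB c')), xg hC r (η⁻¹ * t'),
      hUB (xg_mem_U hC hr hpos _), ?_⟩
    have e3 := he (η⁻¹ * t')
    rw [hwr, mul_inv_cancel_left₀ hη] at e3
    rw [← e3, ← mul_assoc (ng hC (D.simple i) 1) (tor D c) (nL hC F L), hc']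
    group

theorem conj_ne {i : ℕ} (hi : i < D.rank) :
    ng hC (D.simple i) 1 * xg hC (D.simple i) 1 * ng hC (D.simple i) (1 : F) ∉
      D.borelSubgroup F := by
  intro h
  obtain ⟨η, hη, he⟩ := eta_field (F := F) (i := i) (r := D.simple i) hC
  obtain ⟨c, hc⟩ := ng_sq (F := F) hC hi
  have hcB : tor D c ∈ D.borelSubgroup F := Subgroup.mem_sup_right (tor_mem_H hC c)
  have h1 := mul_mem h (inv_mem hcB)
  rw [← hc, show ∀ a x : GL D.Idx F, a * x * a * (a * a)⁻¹ = a * x * a⁻¹ from fun a x => by group,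
    ng_conj_x hC hi (hC.simple_lt hi), hC.reflect_simple hi, ← he, mul_one] at h1
  have h2 : xg hC (D.neg (D.simple i)) η ∈ (⊥ : Subgroup (GL D.Idx F)) := by
    rw [← B_inf_V hC]
    refine ⟨h1, xg_mem_V hC (hC.neg_lt (hC.simple_lt hi)) ?_ _⟩
    have := hC.phi_simple hi
    rw [hC.phi_neg (hC.simple_lt hi)]
    omega
  rw [Subgroup.mem_bot, ← xg_zero hC (D.neg (D.simple i))] at h2
  exact hη (xg_injective hC (hC.neg_lt (hC.simple_lt hi)) h2)

theorem simple_eq_of_mem {i j : ℕ} (hi : i < D.rank) (hj : j < D.rank)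
    (h : (ng hC (D.simple i) (1 : F))⁻¹ * ng hC (D.simple j) 1 ∈ D.borelSubgroup F) : i = j := by
  have hN : ∀ i, i < D.rank → ng hC (D.simple i) (1 : F) ∈ D.monomialSubgroup F := fun i hi =>
    nL_singleton (F := F) hC i ▸ nL_mem_N hC (by simpa using hi)
  have hH : (ng hC (D.simple i) (1 : F))⁻¹ * ng hC (D.simple j) 1 ∈ D.diagonalSubgroup F := by
    rw [← B_inf_N hC, Subgroup.mem_inf]; exact ⟨h, mul_mem (inv_mem (hN i hi)) (hN j hj)⟩
  obtain ⟨c, hc⟩ := (mem_H_iff hC).1 hH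
  obtain ⟨c', hc', -⟩ := ng_conj_tor (F := F) hC hi c
  have he : tor D 1 * nL hC F [j] = tor D c' * nL hC F [i] := by
    rw [tor_one, one_mul, nL_singleton, nL_singleton, ← hc', ← hc]
    group
  have hw : D.reflectRoot j (D.simple i) = D.reflectRoot i (D.simple i) :=
    wL_congr hC (by simpa using hj) (by simpa using hi) he (hC.simple_lt hi)
  rw [hC.reflect_simple hi] at hw
  by_contra hne
  have := hC.reflect_pos hj (hC.simple_lt hi) (fun e => hne (hC.simple_inj hi hj e)) (hC.phi_simple hi)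
  rw [hw, hC.phi_neg (hC.simple_lt hi)] at this
  have := hC.phi_simple hi
  omega

theorem ng_mem_N {i : ℕ} (hi : i < D.rank) :
    ng hC (D.simple i) (1 : F) ∈ D.monomialSubgroup F :=
  nL_singleton (F := F) hC i ▸ nL_mem_N hC (by simpa using hi)

theorem H_conj {n h : GL D.Idx F} (hn : n ∈ D.monomialSubgroup F)
    (hh : h ∈ D.diagonalSubgroup F) : n * h * n⁻¹ ∈ D.diagonalSubgroup F := by
  have hhN : h ∈ D.monomialSubgroup F := Subgroup.mem_sup_left hh
  have := (H_normal_N (F := F) hC).conj_mem ⟨h, hhN⟩ (Subgroup.mem_subgroupOf.2 hh) ⟨n, hn⟩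
  simpa [Subgroup.mem_subgroupOf] using this

/-- The BN pair. -/
def bn : Cfsg.BNPair ↥(D.group F) where
  B := (D.borelSubgroup F).subgroupOf (D.group F)
  N := (D.monomialSubgroup F).subgroupOf (D.group F)
  S := {n | ∃ i < D.rank, (n : GL D.Idx F) = ng hC (D.simple i) 1}
  sup_eq_top := by
    rw [← Subgroup.subgroupOf_sup (B_le_group hC) (N_le_group hC), B_sup_N hC, Subgroup.subgroupOf_self]
  conj_mem := fun n hn t ht => by
    have ht' : (t : GL D.Idx F) ∈ D.diagonalSubgroup F := by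
      rw [← B_inf_N hC]; exact ht
    rw [Subgroup.mem_subgroupOf, Subgroup.coe_mul, Subgroup.coe_mul, Subgroup.coe_inv]
    exact Subgroup.mem_sup_right (H_conj hC (Subgroup.mem_subgroupOf.1 hn) ht')
  subset := by
    rintro n ⟨i, hi, hn⟩
    show (n : GL D.Idx F) ∈ D.monomialSubgroup F
    rw [hn]; exact ng_mem_N hC hi
  sq_mem := by
    rintro s ⟨i, hi, hs⟩
    obtain ⟨c, hc⟩ := ng_sq (F := F) hC hi
    rw [Subgroup.mem_subgroupOf, Subgroup.coe_mul, hs, hc]
    exact Subgroup.mem_sup_right (tor_mem_H hC c)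
  inj := by
    rintro s ⟨i, hi, hs⟩ s' ⟨j, hj, hs'⟩ h
    rw [Subgroup.mem_subgroupOf, Subgroup.coe_mul, Subgroup.coe_inv, hs, hs'] at h
    obtain rfl := simple_eq_of_mem hC hi hj h
    exact Subtype.ext (hs.trans hs'.symm)
  closure_sup := by
    refine le_antisymm (sup_le ((Subgroup.closure_le _).2 ?_) inf_le_right) fun n hn => ?_
    · rintro n ⟨i, hi, hn⟩
      show (n : GL D.Idx F) ∈ D.monomialSubgroup F
      rw [hn]; exact ng_mem_N hC hi
    obtain ⟨c, L, hL, hnL⟩ := (mem_N_iff hC).1 (Subgroup.mem_subgroupOf.1 hn)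
    have hgen : ∀ L : List ℕ, (∀ i ∈ L, i < D.rank) → ∃ m ∈ Subgroup.closure
        {n : ↥(D.group F) | ∃ i < D.rank, (n : GL D.Idx F) = ng hC (D.simple i) 1},
        (m : GL D.Idx F) = nL hC F L := by
      intro L
      induction L with
      | nil => exact fun _ => ⟨1, one_mem _, by simp [nL]⟩
      | cons i L ih =>
        intro hL
        obtain ⟨m, hm, hme⟩ := ih fun j hj => hL j (List.mem_cons_of_mem i hj)
        have hi := hL i List.mem_cons_self
        refine ⟨⟨_, N_le_group hC (ng_mem_N hC hi)⟩ * m,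
          mul_mem (Subgroup.subset_closure ⟨i, hi, rfl⟩) hm, ?_⟩
        rw [nL_cons, Subgroup.coe_mul, hme]
    obtain ⟨m, hm, hme⟩ := hgen L hL
    have htG : tor D c ∈ D.group F := H_le_group hC (tor_mem_H hC c)
    rw [show n = ⟨tor D c, htG⟩ * m from Subtype.ext (by rw [hnL, Subgroup.coe_mul, hme])]
    exact mul_mem (Subgroup.mem_sup_right
      ⟨Subgroup.mem_sup_right (tor_mem_H hC c), Subgroup.mem_sup_left (tor_mem_H hC c)⟩)
      (Subgroup.mem_sup_left hm)
  mul_mem_union := by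
    rintro s ⟨i, hi, hs⟩ n hn b hb
    rw [Subgroup.mem_subgroupOf] at hn hb
    have key : ∀ m : ↥(D.group F), ((s * b * n : ↥(D.group F)) : GL D.Idx F) ∈
        DoubleCoset.doubleCoset (m : GL D.Idx F) (D.borelSubgroup F : Set (GL D.Idx F))
          (D.borelSubgroup F) →
        s * b * n ∈ DoubleCoset.doubleCoset m
          ((D.borelSubgroup F).subgroupOf (D.group F) : Set ↥(D.group F))
          ((D.borelSubgroup F).subgroupOf (D.group F)) := by
      intro m h
      obtain ⟨x, hx, y, hy, e⟩ := DoubleCoset.mem_doubleCoset.1 h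
      exact DoubleCoset.mem_doubleCoset.2
        ⟨⟨x, B_le_group hC hx⟩, hx, ⟨y, B_le_group hC hy⟩, hy, Subtype.ext e⟩
    rcases mul_mem_union hC hi hn hb with h | h
    · exact Or.inl (key (s * n) (by simpa [Subgroup.coe_mul, hs] using h))
    · exact Or.inr (key n (by simpa [Subgroup.coe_mul, hs] using h))
  conj_ne := by
    rintro s ⟨i, hi, hs⟩ h
    have hxU : xg hC (D.simple i) (1 : F) ∈ D.borelSubgroup F :=
      Subgroup.mem_sup_left (xg_mem_U hC (hC.simple_lt hi) (hC.phi_simple hi) 1)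
    have h1 : s * ⟨_, B_le_group hC hxU⟩ * s ∈
        ((D.borelSubgroup F).subgroupOf (D.group F) : Set ↥(D.group F)) :=
      h ▸ Set.mem_image_of_mem (fun b => s * b * s) hxU
    rw [SetLike.mem_coe, Subgroup.mem_subgroupOf, Subgroup.coe_mul, Subgroup.coe_mul, hs] at h1
    exact conj_ne hC hi h1

theorem bn_S_eq :
    (bn (F := F) hC).S = {n : ↥(D.group F) | ∃ i < D.rank,
      ((n : GL D.Idx F) : Matrix D.Idx D.Idx F) = D.nMat F (D.simple i) 1} := by
  ext n
  constructor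
  · rintro ⟨i, hi, h⟩; exact ⟨i, hi, by rw [h, coe_ng]⟩
  · rintro ⟨i, hi, h⟩; exact ⟨i, hi, Units.ext (h.trans (coe_ng hC _ _).symm)⟩

end Cfsg.Agent.Chevalley.Bruhat
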