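import Cfsg.Agent.Lib.Chevalley.Order
import Cfsg.Agent.Lib.BN.Matsumoto

/-!
The Weyl group as a group of permutations of the roots, as a Coxeter group, and as the quotient `N / H`.
-/

set_option autoImplicit false

namespace Cfsg.Agent.Chevalley.WeylGroup

open Cfsg.Lie Cfsg.Agent.Chevalley.Eval Cfsg.Agent.Chevalley.Table Cfsg.Agent.Chevalley.Check
  Cfsg.Agent.Chevalley.Cert Cfsg.Agent.Chevalley.Group Cfsg.Agent.Chevalley.Unip
  Cfsg.Agent.Chevalley.Borel Cfsg.Agent.Chevalley.Weyl Cfsg.Agent.Chevalley.WeylEnum

/-- The action on the roots of a product of two fundamental reflections, iterated. -/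
noncomputable def iter2 (T : Tab) (i j : ℕ) (r : ℕ) (m : ℕ) : ℕ :=
  Nat.rec r (fun _ ih => T.refl i (T.refl j ih)) m

/-- `(s_i s_j)` has order `m`, tested on the fundamental roots. -/
noncomputable def ordChk (T : Tab) (i j m : ℕ) : Bool :=
  (Nat.blt 0 m && allR T.l fun k => Nat.beq (iter2 T i j (T.simple k) m) (T.simple k)) &&
  allR m fun k => Nat.beq k 0 || !(allR T.l fun a => Nat.beq (iter2 T i j (T.simple a) k) (T.simple a))

/-- The action of a word, by the tables. -/
noncomputable def actT (T : Tab) (L : List ℕ) (r : ℕ) : ℕ :=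
  List.rec r (fun a _ ih => T.refl a ih) L

/-- A word has order `m`, tested on the fundamental roots. -/
noncomputable def wordOrdChk (T : Tab) (L : List ℕ) (m : ℕ) : Bool :=
  (Nat.blt 0 m && allR T.l fun k =>
    Nat.beq (Nat.rec (T.simple k) (fun _ ih => actT T L ih) m) (T.simple k)) &&
  allR m fun k => Nat.beq k 0 ||
    !(allR T.l fun a => Nat.beq (Nat.rec (T.simple a) (fun _ ih => actT T L ih) k) (T.simple a))

variable {D : ChevalleyDatum} {T : Tab}

/-- The permutation of the roots induced by a fundamental reflection. -/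
def sP (hC : Certified D T) (i : Fin D.rank) : Equiv.Perm (Fin D.nroots) where
  toFun r := ⟨D.reflectRoot i r, hC.reflect_lt i.2 r.2⟩
  invFun r := ⟨D.reflectRoot i r, hC.reflect_lt i.2 r.2⟩
  left_inv r := Fin.ext (hC.reflect_reflect i.2 r.2)
  right_inv r := Fin.ext (hC.reflect_reflect i.2 r.2)

/-- The Weyl group. -/
def WG (hC : Certified D T) : Subgroup (Equiv.Perm (Fin D.nroots)) :=
  Subgroup.closure (Set.range (sP hC))

/-- A fundamental reflection in the Weyl group. -/
def gW (hC : Certified D T) (i : Fin D.rank) : WG hC :=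
  ⟨sP hC i, Subgroup.subset_closure ⟨i, rfl⟩⟩

/-- The element of the Weyl group given by a word. -/
def wordG (hC : Certified D T) (L : List (Fin D.rank)) : WG hC := (L.map (gW hC)).prod

variable (hC : Certified D T)
include hC

theorem wordG_apply (L : List (Fin D.rank)) (r : Fin D.nroots) :
    (((wordG hC L : WG hC) : Equiv.Perm (Fin D.nroots)) r : ℕ) = wL D (L.map Fin.val) r := by
  induction L with
  | nil => rfl
  | cons i L ih =>
    simp only [wordG, List.map_cons, List.prod_cons, Subgroup.coe_mul, Equiv.Perm.mul_apply]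
    show D.reflectRoot i _ = D.reflectRoot i (wL D (L.map Fin.val) r)
    rw [← ih]; rfl

theorem wordG_eq_iff (L L' : List (Fin D.rank)) :
    wordG hC L = wordG hC L' ↔ Eqv D (L.map Fin.val) (L'.map Fin.val) := by
  constructor
  · intro h r hr
    rw [← wordG_apply hC L ⟨r, hr⟩, ← wordG_apply hC L' ⟨r, hr⟩, h]
  · intro h
    refine Subtype.ext (Equiv.ext fun r => Fin.ext ?_)
    rw [wordG_apply, wordG_apply]
    exact h r r.2

theorem gW_sq (i : Fin D.rank) : gW hC i * gW hC i = 1 :=
  Subtype.ext (Equiv.ext fun r => Fin.ext (hC.reflect_reflect i.2 r.2))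

theorem gW_gen (w : WG hC) : ∃ L : List (Fin D.rank), wordG hC L = w := by
  obtain ⟨w, hw⟩ := w
  induction hw using Subgroup.closure_induction with
  | mem x hx =>
    obtain ⟨i, rfl⟩ := hx
    exact ⟨[i], by simp [wordG, gW]⟩
  | one => exact ⟨[], rfl⟩
  | mul x y hx hy ihx ihy =>
    obtain ⟨L, hL⟩ := ihx
    obtain ⟨L', hL'⟩ := ihy
    exact ⟨L ++ L', by rw [wordG, List.map_append, List.prod_append, ← wordG, ← wordG, hL, hL']; rfl⟩
  | inv x hx ih =>
    obtain ⟨L, hL⟩ := ih
    refine ⟨L.reverse, ?_⟩
    have : wordG hC L.reverse = (wordG hC L)⁻¹ := by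
      clear hL
      induction L with
      | nil => simp [wordG]
      | cons i L ih =>
        simp only [wordG, List.reverse_cons, List.map_append, List.prod_append, List.map_cons,
          List.map_nil, List.prod_cons, List.prod_nil, mul_one, mul_inv_rev] at ih ⊢
        rw [ih, inv_eq_of_mul_eq_one_right (gW_sq hC i)]
    rw [this, hL]; rfl

theorem valid (L : List (Fin D.rank)) : ∀ i ∈ L.map Fin.val, i < D.rank := fun i hi => by
  obtain ⟨a, -, rfl⟩ := List.mem_map.1 hi; exact a.2

/-- Appending a letter that keeps its root positive adds one inversion. -/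
theorem inv_snoc {L : List ℕ} (hL : ∀ i ∈ L, i < D.rank) {j : ℕ} (hj : j < D.rank)
    (hp : 0 < T.phi (wL D L (D.simple j))) :
    (invSet D T (L ++ [j])).card = (invSet D T L).card + 1 := by
  have hw : ∀ r, wL D (L ++ [j]) r = wL D L (D.reflectRoot j r) := fun r => wL_append L [j] r
  have hps := hC.phi_simple hj
  have e : invSet D T (L ++ [j]) = insert (D.simple j) ((invSet D T L).image (D.reflectRoot j)) := by
    ext r
    simp only [invSet, Finset.mem_insert, Finset.mem_image, Finset.mem_filter, Finset.mem_range, hw]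
    constructor
    · rintro ⟨hr, hpr, hn⟩
      by_cases hrj : r = D.simple j
      · exact Or.inl hrj
      · exact Or.inr ⟨D.reflectRoot j r, ⟨hC.reflect_lt hj hr, hC.reflect_pos hj hr hrj hpr, hn⟩,
          hC.reflect_reflect hj hr⟩
    · rintro (rfl | ⟨s, ⟨hs, hps', hn⟩, rfl⟩)
      · refine ⟨hC.simple_lt hj, hps, ?_⟩
        rw [hC.reflect_simple hj, wL_neg hC hL (hC.simple_lt hj),
          hC.phi_neg (wL_lt hC hL (hC.simple_lt hj))]
        omega
      · refine ⟨hC.reflect_lt hj hs, hC.reflect_pos hj hs ?_ hps', ?_⟩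
        · rintro rfl; omega
        · rw [hC.reflect_reflect hj hs]; exact hn
  rw [e, Finset.card_insert_of_notMem, Finset.card_image_of_injOn]
  · intro a ha b hb h
    simp only [invSet, Finset.coe_filter, Finset.mem_range, Set.mem_setOf_eq] at ha hb
    rw [← hC.reflect_reflect hj ha.1, h, hC.reflect_reflect hj hb.1]
  · simp only [Finset.mem_image, invSet, Finset.mem_filter, Finset.mem_range, not_exists, not_and]
    rintro s ⟨hs, hps', -⟩ h
    have h1 := hC.reflect_reflect hj hs
    rw [h, hC.reflect_simple hj] at h1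
    rw [← h1, hC.phi_neg (hC.simple_lt hj)] at hps'
    omega

theorem invSet_congr {L L' : List ℕ} (h : Eqv D L L') : invSet D T L = invSet D T L' :=
  Finset.filter_congr fun r hr => by rw [h r (Finset.mem_range.1 hr)]

theorem inv_le_length {L : List ℕ} (hL : ∀ i ∈ L, i < D.rank) :
    (invSet D T L).card ≤ L.length := by
  induction L using List.reverseRecOn with
  | nil =>
    rw [List.length_nil, Nat.le_zero, Finset.card_eq_zero, invSet, Finset.filter_eq_empty_iff]
    intro r _ h
    simp only [wL, List.foldr_nil] at h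
    omega
  | append_singleton M j ih =>
    have hM : ∀ i ∈ M, i < D.rank := fun i hi => hL i (List.mem_append_left _ hi)
    have hj : j < D.rank := hL j (List.mem_append_right _ List.mem_cons_self)
    have hr := wL_lt hC hM (hC.simple_lt hj)
    have := ih hM
    rw [List.length_append, List.length_singleton]
    rcases lt_or_gt_of_ne (hC.phi_ne_zero hr) with h | h
    · have h1 := inv_snoc hC hL hj (by
        rw [wL_append, show wL D [j] (D.simple j) = D.reflectRoot j (D.simple j) from rfl,
          hC.reflect_simple hj, wL_neg hC hM (hC.simple_lt hj), hC.phi_neg hr]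
        omega)
      have h2 : invSet D T (M ++ [j] ++ [j]) = invSet D T M :=
        invSet_congr hC fun r hr => by
          rw [wL_append, wL_append]
          show wL D M (D.reflectRoot j (D.reflectRoot j r)) = wL D M r
          rw [hC.reflect_reflect hj hr]
      rw [h2] at h1
      omega
    · rw [inv_snoc hC hM hj h]; omega

theorem eraseIdx_snoc_eqv {M : List ℕ} (hM : ∀ i ∈ M, i < D.rank) {j : ℕ} (hj : j < D.rank)
    (h : T.phi (wL D M (D.simple j)) < 0) :
    ∃ k < M.length, Eqv D (M ++ [j]) (M.eraseIdx k) := by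
  obtain ⟨k, hk, c, e⟩ := exists_delete (F := ℚ) hC hM hj h
  have hall : ∀ i ∈ M ++ [j], i < D.rank := fun i hi =>
    (List.mem_append.1 hi).elim (hM i) fun h => List.mem_singleton.1 h ▸ hj
  refine ⟨k, hk, fun r hr => ?_⟩
  exact wL_congr hC (c := 1) (c' := c) hall (fun i hi => hM i (List.eraseIdx_subset hi))
    (by rw [tor_one, one_mul, nL_append, nL_singleton, e]) hr

theorem red_length {L : List (Fin D.rank)} (h : Cfsg.Agent.BN.Matsumoto.Red (gW hC) L) :
    (invSet D T (L.map Fin.val)).card = L.length := by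
  induction L using List.reverseRecOn with
  | nil =>
    rw [List.length_nil, Finset.card_eq_zero, invSet, Finset.filter_eq_empty_iff]
    intro r _ h
    simp only [List.map_nil, wL, List.foldr_nil] at h
    omega
  | append_singleton M j ih =>
    have hM := ih ((Cfsg.Agent.BN.Matsumoto.red_init (gW hC) h : Cfsg.Agent.BN.Matsumoto.Red (gW hC) M))
    have hr := wL_lt hC (valid hC M) (hC.simple_lt j.2)
    rcases lt_or_gt_of_ne (hC.phi_ne_zero hr) with hn | hp
    · obtain ⟨k, hk, he⟩ := eraseIdx_snoc_eqv hC (valid hC M) j.2 hn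
      exfalso
      have h1 : wordG hC (M ++ [j]) = wordG hC (M.eraseIdx k) := by
        rw [wordG_eq_iff, List.map_append, ← List.eraseIdx_map]
        exact he
      have h2 := h (M.eraseIdx k) h1.symm
      rw [List.length_map] at hk
      rw [List.length_append, List.length_singleton, List.length_eraseIdx_of_lt hk] at h2
      omega
    · rw [List.map_append, List.map_singleton, inv_snoc hC (valid hC M) j.2 hp, hM,
        List.length_append, List.length_singleton]

theorem wordG_reverse (L : List (Fin D.rank)) : wordG hC L.reverse = (wordG hC L)⁻¹ := by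
  induction L with
  | nil => simp [wordG]
  | cons i L ih =>
    simp only [wordG, List.reverse_cons, List.map_append, List.prod_append, List.map_cons,
      List.map_nil, List.prod_cons, List.prod_nil, mul_one, mul_inv_rev] at ih ⊢
    rw [ih, inv_eq_of_mul_eq_one_right (gW_sq hC i)]

theorem red_reverse {L : List (Fin D.rank)} (h : Cfsg.Agent.BN.Matsumoto.Red (gW hC) L) :
    Cfsg.Agent.BN.Matsumoto.Red (gW hC) L.reverse := by
  intro L' hL'
  have h2 := h L'.reverse (by
    show wordG hC L'.reverse = wordG hC L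
    rw [wordG_reverse hC L', show wordG hC L' = wordG hC L.reverse from hL', wordG_reverse hC L,
      inv_inv])
  simpa using h2

theorem exchange : Cfsg.Agent.BN.Matsumoto.Exchange (gW hC) := by
  intro s L hL hsL
  have hR := red_reverse hC hL
  have hlenR := red_length hC hR
  have hr := wL_lt hC (valid hC L.reverse) (hC.simple_lt s.2)
  rcases lt_or_gt_of_ne (hC.phi_ne_zero hr) with hn | hp
  · obtain ⟨k, hk, he⟩ := eraseIdx_snoc_eqv hC (valid hC L.reverse) s.2 hn
    rw [List.length_map, List.length_reverse] at hk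
    refine ⟨L.length - 1 - k, by omega, ?_⟩
    have h1 : wordG hC (L.reverse ++ [s]) = wordG hC (L.reverse.eraseIdx k) := by
      rw [wordG_eq_iff, List.map_append, ← List.eraseIdx_map]
      exact he
    have h2 : L.reverse.eraseIdx k = (L.eraseIdx (L.length - 1 - k)).reverse := by
      rw [List.eraseIdx_eq_take_drop_succ, List.eraseIdx_eq_take_drop_succ, List.reverse_append,
        List.take_reverse, List.drop_reverse,
        show L.length - 1 - k + 1 = L.length - k by omega,
        show L.length - (k + 1) = L.length - 1 - k by omega]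
    rw [h2, show L.reverse ++ [s] = (s :: L).reverse by simp, wordG_reverse, wordG_reverse,
      inv_inj] at h1
    simpa [wordG] using h1
  · exfalso
    apply hsL
    intro L' hL'
    have h1 := inv_snoc hC (valid hC L.reverse) s.2 hp
    rw [hlenR, List.length_reverse] at h1
    have h2 : Eqv D ((L.reverse).map Fin.val ++ [(s : ℕ)]) (L'.reverse.map Fin.val) := by
      have : wordG hC (L.reverse ++ [s]) = wordG hC L'.reverse := by
        rw [show L.reverse ++ [s] = (s :: L).reverse by simp, wordG_reverse, wordG_reverse]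
        exact congrArg _ hL'.symm
      rw [wordG_eq_iff, List.map_append, List.map_singleton] at this
      exact this
    have h3 := inv_le_length hC (valid hC L'.reverse)
    rw [← invSet_congr hC h2, h1, List.length_map, List.length_reverse] at h3
    rw [List.length_cons]
    exact h3

theorem gW_injective : Function.Injective (gW hC) := by
  intro i j h
  refine Fin.ext ?_
  by_contra hne
  have h1 : D.reflectRoot j (D.simple i) = D.reflectRoot i (D.simple i) := congrArg
    (fun w : WG hC => ((w : Equiv.Perm (Fin D.nroots)) ⟨D.simple i, hC.simple_lt i.2⟩ : ℕ)) h.symm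
  have h2 := hC.reflect_pos j.2 (hC.simple_lt i.2) (fun e => hne (hC.simple_inj i.2 j.2 e))
    (hC.phi_simple i.2)
  rw [h1, hC.reflect_simple i.2, hC.phi_neg (hC.simple_lt i.2)] at h2
  have := hC.phi_simple i.2
  omega

theorem gW_ne_one (i : Fin D.rank) : gW hC i ≠ 1 := by
  intro h
  have h1 : D.reflectRoot i (D.simple i) = D.simple i := congrArg
    (fun w : WG hC => ((w : Equiv.Perm (Fin D.nroots)) ⟨D.simple i, hC.simple_lt i.2⟩ : ℕ)) h
  rw [hC.reflect_simple i.2] at h1
  exact hC.neg_ne (hC.simple_lt i.2) h1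

theorem eq_one_of_simples (w : WG hC)
    (h : ∀ k < D.rank, ∀ hk : D.simple k < D.nroots,
      ((w : Equiv.Perm (Fin D.nroots)) ⟨D.simple k, hk⟩ : ℕ) = D.simple k) : w = 1 := by
  obtain ⟨L, rfl⟩ := gW_gen hC w
  rw [show (1 : WG hC) = wordG hC [] from rfl, wordG_eq_iff]
  refine eqv_of_simple hC (valid hC L) (by simp) fun k hk => ?_
  rw [← wordG_apply hC L ⟨_, hC.simple_lt hk⟩, h k hk (hC.simple_lt hk)]
  rfl

theorem actT_eq {L : List ℕ} (hL : ∀ i ∈ L, i < D.rank) {r : ℕ} (hr : r < D.nroots) :
    actT T L r = wL D L r := by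
  induction L with
  | nil => rfl
  | cons a L ih =>
    have hL' : ∀ i ∈ L, i < D.rank := fun i hi => hL i (List.mem_cons_of_mem a hi)
    show T.refl a (actT T L r) = D.reflectRoot a (wL D L r)
    rw [ih hL', hC.reflect_eq (hL a List.mem_cons_self) (wL_lt hC hL' hr)]

theorem orderOf_word {L : List (Fin D.rank)} {m : ℕ}
    (h : wordOrdChk T (L.map Fin.val) m = true) : orderOf (wordG hC L) = m := by
  simp only [wordOrdChk, Bool.and_eq_true, Nat.blt_eq] at h
  obtain ⟨⟨hm, h1⟩, h2⟩ := h
  have hpow : ∀ (k : ℕ) (r : Fin D.nroots),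
      ((((wordG hC L) ^ k : WG hC) : Equiv.Perm (Fin D.nroots)) r : ℕ) =
        (Nat.rec (r : ℕ) (fun _ ih => actT T (L.map Fin.val) ih) k : ℕ) := by
    intro k
    induction k with
    | zero => intro r; rfl
    | succ k ih =>
      intro r
      rw [pow_succ', Subgroup.coe_mul, Equiv.Perm.mul_apply, wordG_apply, ih,
        ← actT_eq hC (valid hC L) (by rw [← ih]; exact Fin.isLt _)]
  rw [orderOf_eq_iff hm]
  refine ⟨eq_one_of_simples hC _ fun k hk hlt => ?_, fun k hkm hk0 he => ?_⟩
  · rw [hpow]
    have := Nat.eq_of_beq_eq_true (of_allR h1 k (by rw [hC.l_eq]; exact hk))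
    rw [hC.simple_eq hk] at this
    exact this
  · have h3 := of_allR h2 k hkm
    rw [Bool.eq_false_iff.2 (fun hb => hk0.ne' (Nat.eq_of_beq_eq_true hb)), Bool.false_or,
      Bool.not_eq_true'] at h3
    have h4 : ∀ a ≤ T.l, allR a (fun a => Nat.beq
        (Nat.rec (T.simple a) (fun _ ih => actT T (L.map Fin.val) ih) k) (T.simple a)) = true := by
      intro a
      induction a with
      | zero => intro _; rfl
      | succ a iha =>
        intro ha
        have hlt : a < D.rank := by rw [← hC.l_eq]; omega
        have hh := hpow k ⟨D.simple a, hC.simple_lt hlt⟩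
        rw [he] at hh
        show (bif Nat.beq _ _ then allR a _ else false) = true
        rw [hC.simple_eq hlt, ← hh]
        show (bif Nat.beq (D.simple a) (D.simple a) then _ else false) = true
        rw [Nat.beq_refl, cond_true]
        exact iha (by omega)
    rw [h4 T.l le_rfl] at h3
    exact Bool.false_ne_true h3.symm

theorem iter2_eq (i j r : ℕ) (m : ℕ) :
    iter2 T i j r m = Nat.rec r (fun _ ih => actT T [i, j] ih) m := rfl

theorem orderOf_pair {i j : Fin D.rank} {m : ℕ} (h : ordChk T i j m = true) :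
    orderOf (gW hC i * gW hC j) = m := by
  have := orderOf_word hC (L := [i, j]) (m := m) (by
    simpa [ordChk, wordOrdChk, iter2_eq hC] using h)
  simpa [wordG] using this

/-- The Weyl group is the Coxeter group of a matrix that passes the order checks. -/
theorem exists_iso (M : CoxeterMatrix (Fin D.rank))
    (hM : ∀ i j : Fin D.rank, ordChk T i j (M i j) = true) :
    ∃ e : WG hC ≃* M.Group, ∀ i, e (gW hC i) = M.simple i := by
  obtain ⟨M', cs, hcs⟩ := Cfsg.Agent.BN.Matsumoto.exists_coxeterSystem (g := gW hC) (gW_injective hC)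
    (gW_ne_one hC) (fun w => gW_gen hC w) (exchange hC) (gW_sq hC)
  have hlift : M.IsLiftable (gW hC) := fun i j => by
    rw [← orderOf_pair hC (hM i j)]; exact pow_orderOf_eq_one _
  have hlift' : M'.IsLiftable M.toCoxeterSystem.simple := fun i j => by
    have h2 : (gW hC i * gW hC j) ^ M' i j = 1 := by
      rw [← hcs, ← hcs]; exact cs.simple_mul_simple_pow i j
    obtain ⟨c, hc⟩ := orderOf_dvd_of_pow_eq_one h2
    rw [orderOf_pair hC (hM i j)] at hc
    rw [hc, pow_mul, M.toCoxeterSystem.simple_mul_simple_pow, one_pow]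
  let f : WG hC →* M.Group := cs.lift ⟨_, hlift'⟩
  let g : M.Group →* WG hC := M.toCoxeterSystem.lift ⟨_, hlift⟩
  have hf : ∀ i, f (gW hC i) = M.simple i := fun i => by
    rw [← hcs]; exact cs.lift_apply_simple hlift' i
  have hg : ∀ i, g (M.simple i) = gW hC i := fun i => M.toCoxeterSystem.lift_apply_simple hlift i
  have hfg : f.comp g = MonoidHom.id _ := M.toCoxeterSystem.ext_simple fun i => by
    show f (g (M.simple i)) = M.simple i
    rw [hg, hf]
  have hgf : g.comp f = MonoidHom.id _ := cs.ext_simple fun i => by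
    rw [hcs]
    show g (f (gW hC i)) = gW hC i
    rw [hf, hg]
  exact ⟨MonoidHom.toMulEquiv f g hgf hfg, hf⟩

/-- The order of a product of all fundamental generators. -/
theorem orderOf_prod_simple {M : CoxeterMatrix (Fin D.rank)} (e : WG hC ≃* M.Group)
    (he : ∀ i, e (gW hC i) = M.simple i) {L : List (Fin D.rank)} {m : ℕ}
    (h : wordOrdChk T (L.map Fin.val) m = true) : orderOf (L.map M.simple).prod = m := by
  have h1 : (L.map M.simple).prod = e (wordG hC L) := by
    unfold wordG
    rw [map_list_prod, List.map_map]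
    congr 1
    exact List.map_congr_left fun i _ => (he i).symm
  rw [h1, MulEquiv.orderOf_eq]
  exact orderOf_word hC h

/-- The order of the Weyl group from an enumeration. -/
theorem card_WG {Ls : List Lev} (hLs : chainLevChk T Ls = true) (htop : topChk T Ls = true) :
    Nat.card (WG hC) = (Ls.map fun L => L.reps.length).prod := by
  obtain ⟨E, hE1, hE2, hE3, hE4⟩ := exists_enum hC (1 : ℕ) Ls hLs
  have hJ : ∀ i ∈ lettersOf Ls, i < D.rank := by
    cases Ls with
    | nil => intro i hi; exact absurd hi List.not_mem_nil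
    | cons L rest =>
      simp only [chainLevChk, Bool.and_eq_true] at hLs
      exact J_lt hC hLs.1
  have hlift : ∀ L : List ℕ, (∀ i ∈ L, i < D.rank) →
      ∃ L' : List (Fin D.rank), L'.map Fin.val = L := fun L hL =>
    ⟨L.pmap (fun a h => (⟨a, h⟩ : Fin D.rank)) hL, by simp [List.map_pmap]⟩
  choose up hup using hlift
  have hEk : ∀ k : Fin E.length, ∀ i ∈ E[k.1], i < D.rank :=
    fun k i hi => hJ i (hE1 _ (List.getElem_mem k.2) i hi)
  have hb : Function.Bijective fun k : Fin E.length => wordG hC (up _ (hEk k)) := by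
    constructor
    · intro a b h
      rw [wordG_eq_iff, hup, hup] at h
      rcases lt_trichotomy a.1 b.1 with hlt | heq | hlt
      · exact absurd h (List.pairwise_iff_getElem.1 hE3 _ _ a.2 b.2 hlt)
      · exact Fin.ext heq
      · exact absurd (fun r hr => (h r hr).symm) (List.pairwise_iff_getElem.1 hE3 _ _ b.2 a.2 hlt)
    · intro w
      obtain ⟨L, rfl⟩ := gW_gen hC w
      obtain ⟨e, he, hLe⟩ := hE2 (L.map Fin.val) fun i hi =>
        (memB_iff _).1 (of_allR htop i (by rw [hC.l_eq]; exact valid hC L i hi))
      obtain ⟨k, hk, rfl⟩ := List.getElem_of_mem he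
      refine ⟨⟨k, hk⟩, ?_⟩
      show wordG hC (up _ (hEk ⟨k, hk⟩)) = _
      rw [wordG_eq_iff, hup]
      exact fun r hr => (hLe r hr).symm
  rw [← Nat.card_eq_of_bijective _ hb, Nat.card_fin]
  simpa using hE4

variable {F : Type*} [Field F]

/-- The map from `N` to the Weyl group. -/
theorem exists_hom_N :
    ∃ φ : D.monomialSubgroup F →* WG hC, Function.Surjective φ ∧
      φ.ker = (D.diagonalSubgroup F).subgroupOf (D.monomialSubgroup F) ∧
      ∀ (i : Fin D.rank) (g : D.monomialSubgroup F),
        (g : GL D.Idx F) = ng hC (D.simple i) 1 → φ g = gW hC i := by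
  have hex : ∀ n : D.monomialSubgroup F, ∃ (c : ℕ → Fˣ) (L : List (Fin D.rank)),
      (n : GL D.Idx F) = tor D c * nL hC F (L.map Fin.val) := fun n => by
    obtain ⟨c, L, hL, h⟩ := (mem_N_iff hC).1 n.2
    exact ⟨c, L.pmap (fun a h => (⟨a, h⟩ : Fin D.rank)) hL, by simp [List.map_pmap, h]⟩
  choose c L hcL using hex
  have huniq : ∀ (n : D.monomialSubgroup F) (c' : ℕ → Fˣ) (L' : List (Fin D.rank)),
      (n : GL D.Idx F) = tor D c' * nL hC F (L'.map Fin.val) → wordG hC (L n) = wordG hC L' := by
    intro n c' L' h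
    rw [wordG_eq_iff]
    exact fun r hr => wL_congr hC (valid hC _) (valid hC _) ((hcL n).symm.trans h) hr
  let φ : D.monomialSubgroup F →* WG hC :=
    { toFun := fun n => wordG hC (L n)
      map_one' := huniq 1 1 [] (by simp [nL, tor_one])
      map_mul' := fun a b => by
        obtain ⟨d, hd⟩ := nL_conj_tor (F := F) hC (valid hC (L a)) (c b)
        refine (huniq (a * b) (c a * d) (L a ++ L b) ?_).trans ?_
        · rw [Subgroup.coe_mul, hcL a, hcL b, List.map_append, nL_append, ← tor_mul]
          simp only [mul_assoc]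
          rw [← mul_assoc (nL hC F _), hd, mul_assoc]
        · rw [wordG, List.map_append, List.prod_append]; rfl }
  refine ⟨φ, fun w => ?_, ?_, fun i g hg => ?_⟩
  · obtain ⟨M, rfl⟩ := gW_gen hC w
    exact ⟨⟨_, nL_mem_N hC (valid hC M)⟩, huniq _ 1 M (by simp [tor_one])⟩
  · ext n
    rw [MonoidHom.mem_ker, Subgroup.mem_subgroupOf]
    show wordG hC (L n) = 1 ↔ _
    constructor
    · intro h
      rw [show (1 : WG hC) = wordG hC [] from rfl, wordG_eq_iff] at h
      obtain ⟨d, hd⟩ := exists_tor_of_pos (F := F) hC (valid hC (L n)) fun i hi => by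
        rw [h _ (hC.simple_lt hi)]
        exact hC.phi_simple hi
      rw [hcL n, hd, tor_mul]
      exact tor_mem_H hC _
    · intro h
      obtain ⟨d, hd⟩ := (mem_H_iff hC).1 h
      exact huniq n d [] (by simp [nL, hd])
  · show wordG hC (L g) = _
    rw [huniq g 1 [i] (by simp [tor_one, nL, hg])]
    simp [wordG]

end Cfsg.Agent.Chevalley.WeylGroup
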