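import Cfsg.Agent.Lib.Chevalley.StConj

/-!
In a cover of a Chevalley group by root elements the kernel is central and lies in the subgroup
generated by the fundamental toral elements.
-/

set_option autoImplicit false

open scoped Matrix

namespace Cfsg.Agent.Chevalley.StKernel

open Cfsg.Lie Cfsg.Agent.Chevalley.Table Cfsg.Agent.Chevalley.Check Cfsg.Agent.Chevalley.Cert
  Cfsg.Agent.Chevalley.Group Cfsg.Agent.Chevalley.Weight Cfsg.Agent.Chevalley.Unip
  Cfsg.Agent.Chevalley.Borel Cfsg.Agent.Chevalley.Weyl Cfsg.Agent.Chevalley.Bruhat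
  Cfsg.Agent.Chevalley.Coef Cfsg.Agent.Chevalley.Parabolic Cfsg.Agent.Chevalley.StUnip
  Cfsg.Agent.Chevalley.StConj

/-- The certificates used by the covering argument. -/
structure HasCerts (T : Tab) : Prop where
  coef : ∃ N : List (List ℤ), coefChk T N = true
  conj : ∃ Ls : List (ℕ × ℕ × List ℕ), certsChk T Ls = true

variable {D : ChevalleyDatum} {F : Type*} [Field F] {T : Tab} {hC : Certified D T}
variable {G : Type*} [Group G]

/-- `h̄_r(c)`. -/
def hb (S : Sys hC F G) (r : ℕ) (c : F) : G := nb S r c * nb S r (-1)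

/-- The fundamental monomial element. -/
def n1 (S : Sys hC F G) (i : ℕ) : G := nb S (D.simple i) 1

/-- The monomial element of a word. -/
def nbL (S : Sys hC F G) (L : List ℕ) : G := (L.map (n1 S)).prod

/-- The subgroup generated by the fundamental toral elements. -/
def Hbar (S : Sys hC F G) : Subgroup G :=
  Subgroup.closure {g | ∃ (i : ℕ) (c : F), i < D.rank ∧ c ≠ 0 ∧ g = hb S (D.simple i) c}

/-- The unipotent subgroup of the positive roots. -/
def Ubar (S : Sys hC F G) : Subgroup G := PS S [] 0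

/-- The elements acting on the root subgroups as their images in the torus do. -/
def Tor (S : Sys hC F G) : Subgroup G where
  carrier := {g | (∃ c : ℕ → Fˣ, S.th g = tor D c) ∧ ∀ r < D.nroots, ∀ t u : F,
    S.th g * xg hC r t * (S.th g)⁻¹ = xg hC r u → g * S.X r t * g⁻¹ = S.X r u}
  one_mem' := ⟨⟨1, by rw [map_one, tor_one]⟩, fun r hr t u h => by
    rw [map_one, one_mul, inv_one, mul_one] at h
    rw [one_mul, inv_one, mul_one, xg_injective hC hr h]⟩
  mul_mem' := by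
    rintro x y ⟨⟨c, hc⟩, hx⟩ ⟨⟨d, hd⟩, hy⟩
    refine ⟨⟨c * d, by rw [map_mul, hc, hd, tor_mul]⟩, fun r hr t u h => ?_⟩
    have h1 : S.th y * xg hC r t * (S.th y)⁻¹ = xg hC r ((torChar D d r : F) * t) := by
      rw [hd]; exact tor_conj_x hC d r t hr
    have h2 : S.th x * xg hC r ((torChar D d r : F) * t) * (S.th x)⁻¹ = xg hC r u := by
      rw [← h1, ← h, map_mul]; group
    rw [show x * y * S.X r t * (x * y)⁻¹ = x * (y * S.X r t * y⁻¹) * x⁻¹ by group,
      hy r hr t _ h1, hx r hr _ u h2]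
  inv_mem' := by
    rintro x ⟨⟨c, hc⟩, hx⟩
    refine ⟨⟨c⁻¹, by rw [map_inv, hc, tor_inv]⟩, fun r hr t u h => ?_⟩
    rw [map_inv, inv_inv] at h
    have h2 : S.th x * xg hC r u * (S.th x)⁻¹ = xg hC r t := by rw [← h]; group
    rw [← hx r hr u t h2]; group

variable (S : Sys hC F G)

theorem th_n1 {i : ℕ} (hi : i < D.rank) : S.th (n1 S i) = ng hC (D.simple i) 1 :=
  th_nb S (hC.simple_lt hi) 1

theorem th_hb {r : ℕ} (hr : r < D.nroots) (c : F) : S.th (hb S r c) = hg hC r c := by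
  rw [hb, map_mul, th_nb S hr, th_nb S hr]; rfl

theorem nb_eq {r : ℕ} (hr : r < D.nroots) (c : F) : nb S r c = hb S r c * nb S r 1 := by
  rw [hb, mul_assoc, ← nb_inv S hr, inv_mul_cancel, mul_one]

theorem hb_mem {i : ℕ} (hi : i < D.rank) {c : F} (hc : c ≠ 0) : hb S (D.simple i) c ∈ Hbar S :=
  Subgroup.subset_closure ⟨i, c, hi, hc, rfl⟩

theorem n1_inv {i : ℕ} (hi : i < D.rank) : (n1 S i)⁻¹ = nb S (D.simple i) (-1) :=
  nb_inv S (hC.simple_lt hi) 1

theorem n1_sq_mem {i : ℕ} (hi : i < D.rank) : n1 S i * n1 S i ∈ Hbar S := by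
  have h : n1 S i * n1 S i = (hb S (D.simple i) (-1))⁻¹ := by
    rw [hb, ← nb_inv S (hC.simple_lt hi), n1, mul_inv_rev, inv_inv]
  rw [h]
  exact inv_mem (hb_mem S hi (neg_ne_zero.2 one_ne_zero))

theorem nbL_cons (i : ℕ) (L : List ℕ) : nbL S (i :: L) = n1 S i * nbL S L := by simp [nbL]

theorem nbL_append (L L' : List ℕ) : nbL S (L ++ L') = nbL S L * nbL S L' := by simp [nbL]

theorem nbL_singleton (i : ℕ) : nbL S [i] = n1 S i := by simp [nbL]

theorem th_nbL {L : List ℕ} (hL : ∀ i ∈ L, i < D.rank) : S.th (nbL S L) = nL hC F L := by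
  induction L with
  | nil => simp [nbL, nL]
  | cons i L ih =>
    rw [nbL_cons, nL_cons, map_mul, th_n1 S (hL i List.mem_cons_self),
      ih fun j hj => hL j (List.mem_cons_of_mem i hj)]

variable (hT : HasCerts T)
include hT

theorem conj_eq {i s : ℕ} (hi : i < D.rank) (hs : s < D.nroots) {c : F} (hc : c ≠ 0) {t u : F}
    (h : ng hC (D.simple i) c * xg hC s t * (ng hC (D.simple i) c)⁻¹ =
      xg hC (D.reflectRoot i s) u) :
    nb S (D.simple i) c * S.X s t * (nb S (D.simple i) c)⁻¹ = S.X (D.reflectRoot i s) u := by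
  obtain ⟨N, hN⟩ := hT.coef
  obtain ⟨Ls, hcert⟩ := hT.conj
  exact conj_X S hN hcert hi hs hc h

theorem n1_conj_x {i s : ℕ} (hi : i < D.rank) (hs : s < D.nroots) (t : F) :
    n1 S i * S.X s t * (n1 S i)⁻¹ = S.X (D.reflectRoot i s) ((T.eta i s : F) * t) :=
  conj_eq S hT hi hs one_ne_zero (ng_conj_x hC hi hs t)

theorem n1_conj_nb {i r : ℕ} (hi : i < D.rank) (hr : r < D.nroots) (c : F) :
    n1 S i * nb S r c * (n1 S i)⁻¹ = nb S (D.reflectRoot i r) ((T.eta i r : F) * c) := by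
  have e : ((T.eta i r : F) * c)⁻¹ = (T.eta i r : F) * c⁻¹ := by
    rw [mul_inv]
    rcases Certified.eta_cases (T := T) i r with h | h <;> simp [h]
  rw [nb, nb, e, show n1 S i * (S.X r c * S.X (D.neg r) (-c⁻¹) * S.X r c) * (n1 S i)⁻¹ =
    n1 S i * S.X r c * (n1 S i)⁻¹ * (n1 S i * S.X (D.neg r) (-c⁻¹) * (n1 S i)⁻¹) *
      (n1 S i * S.X r c * (n1 S i)⁻¹) by group, n1_conj_x S hT hi hr,
    n1_conj_x S hT hi (hC.neg_lt hr), hC.reflect_neg hi hr, hC.eta_neg hi hr, mul_neg]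

theorem nbL_conj_x {L : List ℕ} (hL : ∀ i ∈ L, i < D.rank) {r : ℕ} (hr : r < D.nroots) :
    ∃ η : F, η ≠ 0 ∧ ∀ t : F, nbL S L * S.X r t * (nbL S L)⁻¹ = S.X (wL D L r) (η * t) := by
  induction L with
  | nil => exact ⟨1, one_ne_zero, fun t => by simp [nbL, wL]⟩
  | cons i L ih =>
    have hL' : ∀ j ∈ L, j < D.rank := fun j hj => hL j (List.mem_cons_of_mem i hj)
    obtain ⟨η, hη, h⟩ := ih hL'
    have hi := hL i List.mem_cons_self
    obtain ⟨ε, hε, hεe⟩ := eta_field (F := F) (i := i) (r := wL D L r) hC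
    refine ⟨ε * η, mul_ne_zero hε hη, fun t => ?_⟩
    rw [nbL_cons, mul_inv_rev]
    calc _ = n1 S i * (nbL S L * S.X r t * (nbL S L)⁻¹) * (n1 S i)⁻¹ := by simp only [mul_assoc]
      _ = _ := by rw [h, n1_conj_x S hT hi (wL_lt hC hL' hr), hεe, mul_assoc]; rfl

theorem nbL_conj_nb {L : List ℕ} (hL : ∀ i ∈ L, i < D.rank) {r : ℕ} (hr : r < D.nroots) :
    ∃ η : F, η ≠ 0 ∧ ∀ t : F, nbL S L * nb S r t * (nbL S L)⁻¹ = nb S (wL D L r) (η * t) := by
  induction L with
  | nil => exact ⟨1, one_ne_zero, fun t => by simp [nbL, wL]⟩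
  | cons i L ih =>
    have hL' : ∀ j ∈ L, j < D.rank := fun j hj => hL j (List.mem_cons_of_mem i hj)
    obtain ⟨η, hη, h⟩ := ih hL'
    have hi := hL i List.mem_cons_self
    obtain ⟨ε, hε, hεe⟩ := eta_field (F := F) (i := i) (r := wL D L r) hC
    refine ⟨ε * η, mul_ne_zero hε hη, fun t => ?_⟩
    rw [nbL_cons, mul_inv_rev]
    calc _ = n1 S i * (nbL S L * nb S r t * (nbL S L)⁻¹) * (n1 S i)⁻¹ := by simp only [mul_assoc]
      _ = _ := by rw [h, n1_conj_nb S hT hi (wL_lt hC hL' hr), hεe, mul_assoc]; rfl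

theorem Hbar_le_Tor : Hbar S ≤ Tor S := by
  refine (Subgroup.closure_le _).2 ?_
  rintro g ⟨i, c, hi, hc, rfl⟩
  have hp := hC.simple_lt hi
  refine ⟨⟨_, (th_hb S hp c).trans (hg_eq_tor hC hp (Units.mk0 c hc))⟩, fun r hr t u h => ?_⟩
  obtain ⟨v, hv⟩ := ng_conj_general (F := F) hC hi hr (neg_ne_zero.2 one_ne_zero) t
  rw [th_hb S hp, hg, show ng hC (D.simple i) c * ng hC (D.simple i) (-1) * xg hC r t *
    (ng hC (D.simple i) c * ng hC (D.simple i) (-1))⁻¹ = ng hC (D.simple i) c *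
    (ng hC (D.simple i) (-1) * xg hC r t * (ng hC (D.simple i) (-1))⁻¹) *
    (ng hC (D.simple i) c)⁻¹ by group, hv] at h
  rw [hb, show nb S (D.simple i) c * nb S (D.simple i) (-1) * S.X r t *
    (nb S (D.simple i) c * nb S (D.simple i) (-1))⁻¹ = nb S (D.simple i) c *
    (nb S (D.simple i) (-1) * S.X r t * (nb S (D.simple i) (-1))⁻¹) *
    (nb S (D.simple i) c)⁻¹ by group, conj_eq S hT hi hr (neg_ne_zero.2 one_ne_zero) hv,
    conj_eq S hT hi (hC.reflect_lt hi hr) hc (u := u) (by rw [hC.reflect_reflect hi hr]; exact h),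
    hC.reflect_reflect hi hr]

theorem Tor_conj_x {g : G} (hg : g ∈ Tor S) {r : ℕ} (hr : r < D.nroots) (t : F) :
    ∃ c : ℕ → Fˣ, S.th g = tor D c ∧ g * S.X r t * g⁻¹ = S.X r ((torChar D c r : F) * t) := by
  obtain ⟨⟨c, hc⟩, h⟩ := hg
  exact ⟨c, hc, h r hr _ _ (by rw [hc]; exact tor_conj_x hC c r t hr)⟩

theorem Hbar_conj_x {g : G} (hg : g ∈ Hbar S) {r : ℕ} (hr : r < D.nroots) (t : F) :
    ∃ c : ℕ → Fˣ, S.th g = tor D c ∧ g * S.X r t * g⁻¹ = S.X r ((torChar D c r : F) * t) :=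
  Tor_conj_x S hT (Hbar_le_Tor S hT hg) hr t

theorem n1_conj_Hbar {i : ℕ} (hi : i < D.rank) {h : G} (hh : h ∈ Hbar S) :
    n1 S i * h * (n1 S i)⁻¹ ∈ Hbar S := by
  refine Bruhat.conj_closure_le ?_ h hh
  rintro x ⟨j, d, hj, hd, rfl⟩
  have hp := hC.simple_lt hi
  have hxT := Hbar_le_Tor S hT (hb_mem S hj hd)
  obtain ⟨⟨c, hc⟩, hx⟩ := hxT
  obtain ⟨a, ha⟩ : ∃ a : F, a = (torChar D c (D.simple i) : F) := ⟨_, rfl⟩
  have e1 : ∀ t : F, hb S (D.simple j) d * S.X (D.simple i) t * (hb S (D.simple j) d)⁻¹ =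
      S.X (D.simple i) (a * t) := fun t => by
    rw [ha]; exact hx _ hp _ _ (by rw [hc]; exact tor_conj_x hC c _ t hp)
  have e2 : ∀ t : F, hb S (D.simple j) d * S.X (D.neg (D.simple i)) t * (hb S (D.simple j) d)⁻¹ =
      S.X (D.neg (D.simple i)) (a⁻¹ * t) := fun t => by
    rw [hx _ (hC.neg_lt hp) _ _ (by rw [hc]; exact tor_conj_x hC c _ t (hC.neg_lt hp))]
    congr 2
    rw [ha, ← Units.val_inv_eq_inv_val, Units.val_inj]
    refine eq_inv_of_mul_eq_one_right (Units.ext ?_)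
    rw [Units.val_mul, Units.val_one, mul_comm]
    exact (torChar_isMulChar hC c).1 _ hp
  have e : hb S (D.simple j) d * n1 S i * (hb S (D.simple j) d)⁻¹ =
      hb S (D.simple i) a * n1 S i := by
    rw [n1, ← nb_eq S hp, nb, nb, show ∀ h x y z : G, h * (x * y * z) * h⁻¹ =
      h * x * h⁻¹ * (h * y * h⁻¹) * (h * z * h⁻¹) from fun h x y z => by group, e1, e2, mul_one,
      inv_one, mul_neg, mul_one]
  have e3 : n1 S i * hb S (D.simple j) d * (n1 S i)⁻¹ =
      (hb S (D.simple i) a)⁻¹ * hb S (D.simple j) d := by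
    have e4 : hb S (D.simple i) a =
        hb S (D.simple j) d * n1 S i * (hb S (D.simple j) d)⁻¹ * (n1 S i)⁻¹ := by rw [e]; group
    rw [e4]; group
  rw [e3]
  exact mul_mem (inv_mem (hb_mem S hi (ha ▸ Units.ne_zero _))) (hb_mem S hj hd)

theorem nbL_conj_Hbar {L : List ℕ} (hL : ∀ i ∈ L, i < D.rank) {h : G} (hh : h ∈ Hbar S) :
    nbL S L * h * (nbL S L)⁻¹ ∈ Hbar S := by
  induction L with
  | nil => simpa [nbL] using hh
  | cons i L ih =>
    rw [nbL_cons, show n1 S i * nbL S L * h * (n1 S i * nbL S L)⁻¹ =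
      n1 S i * (nbL S L * h * (nbL S L)⁻¹) * (n1 S i)⁻¹ by group]
    exact n1_conj_Hbar S hT (hL i List.mem_cons_self) (ih fun j hj => hL j (List.mem_cons_of_mem i hj))

theorem th_Hbar {h : G} (hh : h ∈ Hbar S) : ∃ c : ℕ → Fˣ, S.th h = tor D c :=
  (Hbar_le_Tor S hT hh).1

/-- Deletion of a letter. -/
theorem exists_delete {L : List ℕ} (hL : ∀ i ∈ L, i < D.rank) {j : ℕ} (hj : j < D.rank)
    (hneg : T.phi (wL D L (D.simple j)) < 0) :
    ∃ k < L.length, ∃ h ∈ Hbar S, nbL S L * n1 S j = h * nbL S (L.eraseIdx k) := by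
  induction L with
  | nil =>
    have h := hC.phi_simple hj
    simp only [wL, List.foldr_nil] at hneg
    omega
  | cons i L ih =>
    have hL' : ∀ j ∈ L, j < D.rank := fun j hj => hL j (List.mem_cons_of_mem i hj)
    have hi := hL i List.mem_cons_self
    have hr := wL_lt hC hL' (hC.simple_lt hj)
    rcases lt_or_gt_of_ne (hC.phi_ne_zero hr) with h | h
    · obtain ⟨k, hk, c, hc, e⟩ := ih hL' h
      refine ⟨k + 1, Nat.succ_lt_succ hk, _, n1_conj_Hbar S hT hi hc, ?_⟩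
      rw [List.eraseIdx_cons_succ, nbL_cons, nbL_cons, mul_assoc, e]
      group
    · have hri : wL D L (D.simple j) = D.simple i := by
        by_contra hne
        have h1 := hC.reflect_pos hi hr hne h
        rw [show wL D (i :: L) (D.simple j) = D.reflectRoot i (wL D L (D.simple j)) from rfl] at hneg
        omega
      obtain ⟨η, hη, e⟩ := nbL_conj_nb S hT hL' (hC.simple_lt hj)
      refine ⟨0, Nat.succ_pos _, _, mul_mem (n1_conj_Hbar S hT hi
        (hb_mem S hi (mul_ne_zero hη one_ne_zero))) (n1_sq_mem S hi), ?_⟩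
      rw [List.eraseIdx_zero, List.tail_cons, nbL_cons]
      have e2 : nbL S L * n1 S j = hb S (D.simple i) (η * 1) * n1 S i * nbL S L := by
        rw [n1, n1, ← nb_eq S (hC.simple_lt hi), ← hri, ← e 1, inv_mul_cancel_right]
      rw [mul_assoc, e2]
      group

/-- A word acting trivially gives an element of `H̄`. -/
theorem nbL_mem_Hbar {L : List ℕ} (hL : ∀ i ∈ L, i < D.rank)
    (hpos : ∀ i < D.rank, 0 < T.phi (wL D L (D.simple i))) : nbL S L ∈ Hbar S := by
  suffices key : ∀ m : ℕ, ∀ L : List ℕ, L.length = m → (∀ i ∈ L, i < D.rank) →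
      (∀ i < D.rank, 0 < T.phi (wL D L (D.simple i))) → nbL S L ∈ Hbar S from
    key _ L rfl hL hpos
  intro m
  induction m using Nat.strong_induction_on with
  | _ m ih =>
    intro L hm hL hpos
    rcases List.eq_nil_or_concat L with rfl | ⟨M, j, hMj⟩
    · simp [nbL]
    obtain rfl : L = M ++ [j] := by simpa using hMj
    have hM : ∀ i ∈ M, i < D.rank := fun i hi => hL i (List.mem_append_left _ hi)
    have hj : j < D.rank := hL j (List.mem_append_right _ List.mem_cons_self)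
    have hneg : T.phi (wL D M (D.simple j)) < 0 := by
      have h := hpos j hj
      rw [wL_append, show wL D [j] (D.simple j) = D.reflectRoot j (D.simple j) from rfl,
        hC.reflect_simple hj, wL_neg hC hM (hC.simple_lt hj),
        hC.phi_neg (wL_lt hC hM (hC.simple_lt hj))] at h
      omega
    obtain ⟨k, hk, c, hc, e⟩ := exists_delete S hT hM hj hneg
    have hM' : ∀ i ∈ M.eraseIdx k, i < D.rank := fun i hi => hM i (List.eraseIdx_subset hi)
    have e' : nbL S (M ++ [j]) = c * nbL S (M.eraseIdx k) := by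
      rw [nbL_append, nbL_singleton, e]
    have hlen : (M.eraseIdx k).length < m := by
      rw [List.length_eraseIdx_of_lt hk, ← hm, List.length_append, List.length_singleton]
      omega
    obtain ⟨d, hd⟩ := th_Hbar S hT hc
    have he : tor D (1 : ℕ → Fˣ) * nL hC F (M ++ [j]) = tor D d * nL hC F (M.eraseIdx k) := by
      rw [tor_one, one_mul, ← th_nbL S hL, e', map_mul, hd, th_nbL S hM']
    rw [e']
    refine mul_mem hc (ih _ hlen _ rfl hM' fun i hi => ?_)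
    rw [← wL_congr hC hL hM' he (hC.simple_lt hi)]
    exact hpos i hi

theorem Hbar_conj_U {h u : G} (hh : h ∈ Hbar S) (hu : u ∈ Ubar S) : h * u * h⁻¹ ∈ Ubar S := by
  refine Bruhat.conj_closure_le ?_ u hu
  rintro x ⟨s, t, hs, hp, ha, rfl⟩
  obtain ⟨c, -, e⟩ := Hbar_conj_x S hT hh hs t
  rw [e]
  exact X_mem_PS S hs hp ha _

theorem X_mem_U {r : ℕ} (hr : r < D.nroots) (hp : 0 < T.phi r) (t : F) : S.X r t ∈ Ubar S :=
  X_mem_PS0 S hr (by simpa [gW, wL] using hp) t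

theorem th_Ubar {u : G} (hu : u ∈ Ubar S) : S.th u ∈ D.posUnipotent F := by
  induction hu using Subgroup.closure_induction with
  | mem g hg =>
    obtain ⟨s, t, hs, hp, -, rfl⟩ := hg
    rw [S.th_X s hs]
    exact xg_mem_U hC hs (by simpa [gW, wL] using hp) t
  | one => simp
  | mul x y _ _ ihx ihy => rw [map_mul]; exact mul_mem ihx ihy
  | inv x _ ih => rw [map_inv]; exact inv_mem ih

theorem U_inj {u v : G} (hu : u ∈ Ubar S) (hv : v ∈ Ubar S) (h : S.th u = S.th v) : u = v :=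
  inj_on_PS S (by simp) hu hv h

/-- Every `u` is `v x_p(t)` with `n̄_p v n̄_p⁻¹` unipotent. -/
theorem U_split {i : ℕ} (hi : i < D.rank) {u : G} (hu : u ∈ Ubar S) :
    ∃ v : G, n1 S i * v * (n1 S i)⁻¹ ∈ Ubar S ∧ ∃ t : F, u = v * S.X (D.simple i) t := by
  let P : Subgroup G := Subgroup.closure {g | ∃ (r : ℕ) (t : F), r < D.nroots ∧
    (0 < T.phi r ∧ r ≠ D.simple i) ∧ g = S.X r t}
  have hPU : P ≤ Ubar S := by
    refine (Subgroup.closure_le _).2 ?_
    rintro g ⟨r, t, hr, ⟨hp, -⟩, rfl⟩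
    exact X_mem_U S hT hr hp t
  have hmap : Uom hC F (D.simple i) ≤ P.map S.th := by
    refine (Subgroup.closure_le _).2 ?_
    rintro g ⟨r, t, hr, hP, rfl⟩
    exact ⟨S.X r t, Subgroup.subset_closure ⟨r, t, hr, hP, rfl⟩, S.th_X r hr t⟩
  have hp := hC.simple_lt hi
  obtain ⟨v₀, hv₀, t, ht⟩ := Bruhat.U_split hC hp (hC.phi_simple hi) (th_Ubar S hT hu)
  obtain ⟨v, hv, rfl⟩ := hmap hv₀
  refine ⟨v, ?_, t, U_inj S hT hu (mul_mem (hPU hv) (X_mem_U S hT hp (hC.phi_simple hi) t))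
    (by rw [map_mul, S.th_X _ hp, ht])⟩
  clear ht hv₀
  induction hv using Subgroup.closure_induction with
  | mem g hg =>
    obtain ⟨r, t, hr, ⟨hp, hne⟩, rfl⟩ := hg
    rw [n1_conj_x S hT hi hr]
    exact X_mem_U S hT (hC.reflect_lt hi hr) (hC.reflect_pos hi hr hne hp) _
  | one => simp
  | mul x y _ _ ihx ihy =>
    rw [show n1 S i * (x * y) * (n1 S i)⁻¹ =
      n1 S i * x * (n1 S i)⁻¹ * (n1 S i * y * (n1 S i)⁻¹) by group]
    exact mul_mem ihx ihy
  | inv x _ ih =>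
    rw [show n1 S i * x⁻¹ * (n1 S i)⁻¹ = (n1 S i * x * (n1 S i)⁻¹)⁻¹ by group]
    exact inv_mem ih

/-- The elements in Bruhat form. -/
def Form (g : G) : Prop := ∃ u ∈ Ubar S, ∃ h ∈ Hbar S, ∃ L : List ℕ, (∀ i ∈ L, i < D.rank) ∧
  ∃ u' ∈ Ubar S, g = u * h * nbL S L * u'

omit hT in
theorem form_U_mul {u g : G} (hu : u ∈ Ubar S) (hg : Form S g) : Form S (u * g) := by
  obtain ⟨a, ha, h, hh, L, hL, b, hb', rfl⟩ := hg
  exact ⟨u * a, mul_mem hu ha, h, hh, L, hL, b, hb', by group⟩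

theorem form_H_mul {k g : G} (hk : k ∈ Hbar S) (hg : Form S g) : Form S (k * g) := by
  obtain ⟨a, ha, h, hh, L, hL, b, hb', rfl⟩ := hg
  exact ⟨_, Hbar_conj_U S hT hk ha, k * h, mul_mem hk hh, L, hL, b, hb', by group⟩

theorem form_base {i : ℕ} (hi : i < D.rank) (t : F) {L : List ℕ} (hL : ∀ j ∈ L, j < D.rank) :
    Form S (n1 S i * S.X (D.simple i) t * nbL S L) := by
  have hp := hC.simple_lt hi
  have hLr : ∀ j ∈ L.reverse, j < D.rank := fun j hj => hL j (List.mem_reverse.1 hj)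
  obtain ⟨r, hr_def⟩ : ∃ r, r = wL D L.reverse (D.simple i) := ⟨_, rfl⟩
  have hr : r < D.nroots := hr_def ▸ wL_lt hC hLr hp
  have hwr : wL D L r = D.simple i := hr_def ▸ wL_neg_simple hC hL hp
  have hcons : ∀ j ∈ i :: L, j < D.rank := fun j hj =>
    (List.mem_cons.1 hj).elim (fun e => e ▸ hi) (hL j)
  rcases lt_or_gt_of_ne (hC.phi_ne_zero hr) with hneg | hpos
  swap
  · obtain ⟨η, hη, e⟩ := nbL_conj_x S hT hL hr
    refine ⟨1, one_mem _, 1, one_mem _, i :: L, hcons, _, X_mem_U S hT hr hpos (η⁻¹ * t), ?_⟩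
    have := e (η⁻¹ * t)
    rw [hwr, mul_inv_cancel_left₀ hη] at this
    rw [nbL_cons, ← this]
    group
  by_cases ht : t = 0
  · exact ⟨1, one_mem _, 1, one_mem _, i :: L, hcons, 1, one_mem _, by
      rw [ht, X_zero S hp, nbL_cons]; group⟩
  obtain ⟨ε, hε, hεe⟩ := eta_field (F := F) (i := i) (r := D.simple i) hC
  obtain ⟨a, ha⟩ : ∃ a : F, a = ε * t := ⟨_, rfl⟩
  have ha0 : a ≠ 0 := ha ▸ mul_ne_zero hε ht
  have e1 : n1 S i * S.X (D.simple i) t = S.X (D.neg (D.simple i)) a * n1 S i := by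
    have := n1_conj_x S hT hi hp t
    rw [hC.reflect_simple hi, ← hεe, ← ha] at this
    rw [← this]; group
  have e2 : S.X (D.neg (D.simple i)) a =
      S.X (D.simple i) a⁻¹ * nb S (D.simple i) (-a⁻¹) * S.X (D.simple i) a⁻¹ := by
    simp only [nb, inv_neg, inv_inv, neg_neg, ← mul_assoc]
    rw [← S.add _ hp, add_neg_cancel, X_zero S hp, one_mul, mul_assoc, ← S.add _ hp, neg_add_cancel,
      X_zero S hp, mul_one]
  obtain ⟨h₁, hh₁, e3⟩ : ∃ h₁ ∈ Hbar S, nb S (D.simple i) (-a⁻¹) = h₁ * n1 S i :=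
    ⟨_, hb_mem S hi (neg_ne_zero.2 (inv_ne_zero ha0)), nb_eq S hp _⟩
  -- `n̄ x_p(·) n̄ = k x_{-p}(·)`
  obtain ⟨k, hk, s, e4⟩ : ∃ k ∈ Hbar S, ∃ s : F,
      n1 S i * S.X (D.simple i) a⁻¹ * n1 S i = k * S.X (D.neg (D.simple i)) s := by
    have hsq := n1_sq_mem S hi
    have hsq' := inv_mem hsq
    obtain ⟨c, -, e⟩ := Hbar_conj_x S hT hsq' (hC.neg_lt hp) ((T.eta i (D.simple i) : F) * a⁻¹)
    refine ⟨_, hsq, (torChar D c (D.neg (D.simple i)) : F) * ((T.eta i (D.simple i) : F) * a⁻¹), ?_⟩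
    rw [← e, ← hC.reflect_simple hi, ← n1_conj_x S hT hi hp]
    group
  obtain ⟨η, hη, e⟩ := nbL_conj_x S hT hL (hC.neg_lt hr)
  have e5 : S.X (D.neg (D.simple i)) s * nbL S L = nbL S L * S.X (D.neg r) (η⁻¹ * s) := by
    have := e (η⁻¹ * s)
    rw [wL_neg hC hL hr, hwr, mul_inv_cancel_left₀ hη] at this
    rw [← this]; group
  rw [e1, e2, e3]
  rw [show S.X (D.simple i) a⁻¹ * (h₁ * n1 S i) * S.X (D.simple i) a⁻¹ * n1 S i * nbL S L =
    S.X (D.simple i) a⁻¹ * (h₁ * ((n1 S i * S.X (D.simple i) a⁻¹ * n1 S i) * nbL S L)) by group,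
    e4, mul_assoc k, e5]
  refine form_U_mul S (X_mem_U S hT hp (hC.phi_simple hi) _) (form_H_mul S hT hh₁ ?_)
  exact ⟨1, one_mem _, k, hk, L, hL, _,
    X_mem_U S hT (hC.neg_lt hr) (by rw [hC.phi_neg hr]; omega) (η⁻¹ * s), by group⟩

theorem form_n_mul {i : ℕ} (hi : i < D.rank) {g : G} (hg : Form S g) : Form S (n1 S i * g) := by
  obtain ⟨u, hu, h, hh, L, hL, b, hb', rfl⟩ := hg
  obtain ⟨v, hv, t, rfl⟩ := U_split S hT hi hu
  obtain ⟨c, -, e⟩ := Hbar_conj_x S hT (inv_mem hh) (hC.simple_lt hi) t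
  rw [inv_inv] at e
  rw [show n1 S i * (v * S.X (D.simple i) t * h * nbL S L * b) = (n1 S i * v * (n1 S i)⁻¹) *
    ((n1 S i * h * (n1 S i)⁻¹) * (n1 S i * (h⁻¹ * S.X (D.simple i) t * h) * nbL S L * b)) by group,
    e]
  refine form_U_mul S hv (form_H_mul S hT (n1_conj_Hbar S hT hi hh) ?_)
  obtain ⟨a, ha, k, hk, L', hL', b', hb'', e'⟩ :=
    form_base S hT hi ((torChar D c (D.simple i) : F) * t) hL
  exact ⟨a, ha, k, hk, L', hL', b' * b, mul_mem hb'' hb', by rw [e']; group⟩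

theorem form_all (g : G) : Form S g := by
  obtain ⟨L₀, hL₀, hneg⟩ := exists_longest hC
  have hone : Form S 1 := ⟨1, one_mem _, 1, one_mem _, [], by simp, 1, one_mem _, by simp [nbL]⟩
  have hinv : ∀ i < D.rank, ∀ x, Form S x → Form S ((n1 S i)⁻¹ * x) := by
    intro i hi x hx
    rw [show (n1 S i)⁻¹ * x = (n1 S i * n1 S i)⁻¹ * (n1 S i * x) by group]
    exact form_H_mul S hT (inv_mem (n1_sq_mem S hi)) (form_n_mul S hT hi hx)
  have hnL : ∀ L : List ℕ, (∀ i ∈ L, i < D.rank) → ∀ x, Form S x →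
      Form S (nbL S L * x) ∧ Form S ((nbL S L)⁻¹ * x) := by
    intro L
    induction L with
    | nil => intro _ x hx; simp [nbL, hx]
    | cons i L ih =>
      intro hL x hx
      have hi := hL i List.mem_cons_self
      have ih' := ih fun j hj => hL j (List.mem_cons_of_mem i hj)
      rw [nbL_cons, mul_inv_rev, mul_assoc, mul_assoc]
      exact ⟨form_n_mul S hT hi (ih' x hx).1, (ih' _ (hinv i hi x hx)).2⟩
  have hX : ∀ r < D.nroots, ∀ t x, Form S x → Form S (S.X r t * x) := by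
    intro r hr t x hx
    rcases lt_or_gt_of_ne (hC.phi_ne_zero hr) with h | h
    swap
    · exact form_U_mul S (X_mem_U S hT hr h t) hx
    obtain ⟨η, hη, e⟩ := nbL_conj_x S hT hL₀ hr
    have hs := wL_lt hC hL₀ hr
    have hs' : 0 < T.phi (wL D L₀ r) := by
      have h4 := hneg _ (hC.neg_lt hr) (by rw [hC.phi_neg hr]; omega)
      rw [wL_neg hC hL₀ hr, hC.phi_neg hs] at h4
      omega
    rw [show S.X r t * x = (nbL S L₀)⁻¹ * ((nbL S L₀ * S.X r t * (nbL S L₀)⁻¹) * (nbL S L₀ * x))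
      by group, e]
    exact (hnL L₀ hL₀ _ (form_U_mul S (X_mem_U S hT hs hs' _) (hnL L₀ hL₀ x hx).1)).2
  have hall : g ∈ Subgroup.closure {g | ∃ r t, r < D.nroots ∧ g = S.X r t} := by
    rw [S.gen]; exact Subgroup.mem_top g
  suffices key : ∀ x, Form S x → Form S (g * x) by simpa using key 1 hone
  induction hall using Subgroup.closure_induction_left with
  | one => simp
  | mul_left y hy z _ ih =>
    obtain ⟨r, t, hr, rfl⟩ := hy
    intro x hx
    rw [mul_assoc]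
    exact hX r hr t _ (ih x hx)
  | inv_mul_cancel y hy z _ ih =>
    obtain ⟨r, t, hr, rfl⟩ := hy
    intro x hx
    rw [X_inv S hr, mul_assoc]
    exact hX r hr _ _ (ih x hx)

/-- The kernel lies in `H̄`. -/
theorem ker_le_Hbar : S.th.ker ≤ Hbar S := by
  intro g hg
  rw [MonoidHom.mem_ker] at hg
  obtain ⟨u, hu, h, hh, L, hL, u', hu', rfl⟩ := form_all S hT g
  obtain ⟨c, hc⟩ := th_Hbar S hT hh
  have hthu := th_Ubar S hT hu
  have hthu' := th_Ubar S hT hu'
  have hnL : nL hC F L ∈ D.borelSubgroup F := by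
    rw [map_mul, map_mul, map_mul, hc, th_nbL S hL] at hg
    rw [show nL hC F L = (S.th u * tor D c)⁻¹ * (S.th u * tor D c * nL hC F L * S.th u') *
      (S.th u')⁻¹ by group, hg]
    exact mul_mem (mul_mem (inv_mem (mul_mem (Subgroup.mem_sup_left hthu)
      (Subgroup.mem_sup_right (tor_mem_H hC c)))) (one_mem _))
      (inv_mem (Subgroup.mem_sup_left hthu'))
  have hH : nL hC F L ∈ D.diagonalSubgroup F := by
    rw [← B_inf_N hC]; exact Subgroup.mem_inf.2 ⟨hnL, nL_mem_N hC hL⟩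
  obtain ⟨d, hd⟩ := (mem_H_iff hC).1 hH
  have hLH : nbL S L ∈ Hbar S := by
    refine nbL_mem_Hbar S hT hL fun i hi => ?_
    rw [wL_congr (L' := []) hC (c := 1) (c' := d) hL (by simp)
      (by rw [tor_one, one_mul, hd]; simp [nL]) (hC.simple_lt hi)]
    exact hC.phi_simple hi
  have hk := mul_mem hh hLH
  obtain ⟨v, hv, e⟩ : ∃ v ∈ Ubar S, u * h * nbL S L * u' = v * (h * nbL S L) :=
    ⟨_, mul_mem hu (Hbar_conj_U S hT hk hu'), by group⟩
  rw [e] at hg ⊢
  obtain ⟨k, hk'⟩ := th_Hbar S hT hk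
  rw [map_mul, hk'] at hg
  have hv1 : S.th v ∈ (⊥ : Subgroup (GL D.Idx F)) := by
    rw [← U_inf_H (F := F) hC, Subgroup.mem_inf]
    refine ⟨th_Ubar S hT hv, ?_⟩
    rw [eq_inv_of_mul_eq_one_left hg]
    exact inv_mem (tor_mem_H hC k)
  rw [Subgroup.mem_bot, ← map_one S.th] at hv1
  rw [U_inj S hT hv (one_mem _) hv1, one_mul]
  exact hk

theorem ker_le_center : S.th.ker ≤ Subgroup.center G := by
  intro g hg
  have hT' := Hbar_le_Tor S hT (ker_le_Hbar S hT hg)
  rw [MonoidHom.mem_ker] at hg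
  have hle : Subgroup.closure {x | ∃ r t, r < D.nroots ∧ x = S.X r t} ≤
      Subgroup.centralizer {g} := by
    refine (Subgroup.closure_le _).2 ?_
    rintro x ⟨r, t, hr, rfl⟩
    have h := hT'.2 r hr t t (by rw [hg, one_mul, inv_one, mul_one])
    rw [SetLike.mem_coe, Subgroup.mem_centralizer_iff]
    rintro y rfl
    exact mul_inv_eq_iff_eq_mul.1 h
  rw [S.gen] at hle
  rw [Subgroup.mem_center_iff]
  exact fun y => (Subgroup.mem_centralizer_iff.1 (hle (Subgroup.mem_top y)) g rfl).symm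

omit hT in
theorem th_range : S.th.range = D.group F := by
  rw [MonoidHom.range_eq_map, ← S.gen, MonoidHom.map_closure, group_eq_closure hC]
  congr 1
  ext x
  constructor
  · rintro ⟨y, ⟨r, t, hr, rfl⟩, rfl⟩
    exact ⟨r, t, hr, S.th_X r hr t⟩
  · rintro ⟨r, t, hr, rfl⟩
    exact ⟨_, ⟨r, t, hr, rfl⟩, S.th_X r hr t⟩

end Cfsg.Agent.Chevalley.StKernel
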