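import Cfsg.Prelude.Def_Steinberg
import Cfsg.Agent.Lib.Chevalley.StKernel
import Cfsg.Agent.Lib.Chevalley.SL2
import Mathlib.GroupTheory.NoncommPiCoprod

/-!
The group presented by the Steinberg relations, its map to the Chevalley group, its torus and its
centre.
-/

set_option autoImplicit false

open scoped Matrix

namespace Cfsg.Agent.Chevalley.StSteinberg

open Cfsg.Lie Cfsg.Agent.Chevalley.Table Cfsg.Agent.Chevalley.Check Cfsg.Agent.Chevalley.Cert
  Cfsg.Agent.Chevalley.Group Cfsg.Agent.Chevalley.Unip Cfsg.Agent.Chevalley.Borel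
  Cfsg.Agent.Chevalley.Weyl Cfsg.Agent.Chevalley.Bruhat Cfsg.Agent.Chevalley.Coef
  Cfsg.Agent.Chevalley.Parabolic Cfsg.Agent.Chevalley.StUnip Cfsg.Agent.Chevalley.StConj
  Cfsg.Agent.Chevalley.StKernel Cfsg.Agent.Chevalley.TorusCard

variable {D : ChevalleyDatum} {F : Type*} [Field F] {T : Tab}

/-- The centre of the Chevalley group is trivial. -/
theorem center_group (hC : Certified D T) (hT : HasCerts T) :
    Subgroup.center (D.group F) = ⊥ := by
  obtain ⟨N, hN⟩ := hT.coef
  have hU : D.unipotentRadical F ∅ = D.posUnipotent F := by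
    refine le_antisymm (Subgroup.closure_mono ?_) (Subgroup.closure_mono ?_)
    · rintro g ⟨r, t, hr, -, e⟩; exact ⟨r, t, hr, e⟩
    · rintro g ⟨r, t, hr, e⟩
      refine ⟨r, t, hr, fun h => ?_, e⟩
      obtain ⟨i, hi⟩ := Weight.exists_cor_ne (F := F) hC hr.1
      have h' := h.2 i.1 i.2 (Set.notMem_empty _)
      rw [Parabolic.cor_eq hC] at h'
      exact hi (by rw [h', Int.cast_zero])
  have hB : D.parabolicSubgroup F ∅ = D.borelSubgroup F := by
    refine le_antisymm (sup_le le_rfl ((Subgroup.closure_le _).2 ?_)) le_sup_left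
    rintro g ⟨j, hj, -⟩
    exact absurd hj (Set.notMem_empty _)
  rw [eq_bot_iff, ← Perfect.core_eq_bot (F := F) hC]
  refine Subgroup.normal_le_normalCore.2 fun z hz => ?_
  rw [Subgroup.mem_subgroupOf, ← hB, ← normalizer_eq hC hN ∅ (fun j hj => absurd hj (Set.notMem_empty _))]
  refine ⟨?_, z.2⟩
  show (z : GL D.Idx F) ∈ Subgroup.normalizer (D.unipotentRadical F ∅ : Set (GL D.Idx F))
  rw [Subgroup.mem_normalizer_iff, hU]
  intro x
  have hUG : ∀ y ∈ D.posUnipotent F, y ∈ D.group F := fun y hy => B_le_group hC (Subgroup.mem_sup_left hy)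
  have hcomm : ∀ y ∈ D.group F, (z : GL D.Idx F) * y * (z : GL D.Idx F)⁻¹ = y := fun y hy => by
    have h1 : ((⟨y, hy⟩ : D.group F) * z : D.group F) = z * ⟨y, hy⟩ :=
      Subgroup.mem_center_iff.1 hz ⟨y, hy⟩
    rw [show (z : GL D.Idx F) * y = y * z from (congrArg Subtype.val h1).symm, mul_inv_cancel_right]
  refine ⟨fun hx => by rw [hcomm x (hUG x hx)]; exact hx, fun hx => ?_⟩
  have hxG : x ∈ D.group F := by
    have := mul_mem (mul_mem (inv_mem z.2) (hUG _ hx)) z.2
    simpa [mul_assoc] using this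
  rwa [hcomm x hxG] at hx

section Sys

variable {hC : Certified D T} {G : Type*} [Group G] (S : Sys hC F G) (hT : HasCerts T)
include hT

theorem center_le_ker : Subgroup.center G ≤ S.th.ker := by
  intro z hz
  have hzG : S.th z ∈ D.group F := th_range S ▸ ⟨z, rfl⟩
  have h1 : (⟨S.th z, hzG⟩ : D.group F) ∈ Subgroup.center (D.group F) := by
    rw [Subgroup.mem_center_iff]
    rintro ⟨y, hy⟩
    obtain ⟨x, rfl⟩ : y ∈ S.th.range := (th_range S).symm ▸ hy
    refine Subtype.ext ?_
    show S.th x * S.th z = S.th z * S.th x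
    rw [← map_mul, ← map_mul, Subgroup.mem_center_iff.1 hz x]
  rw [center_group hC hT, Subgroup.mem_bot] at h1
  exact congrArg Subtype.val h1

theorem center_eq_ker : S.th.ker = Subgroup.center G :=
  le_antisymm (ker_le_center S hT) (center_le_ker S hT)

variable (hR3 : ∀ r < D.nroots, ∀ a b : F, a ≠ 0 → b ≠ 0 → hb S r a * hb S r b = hb S r (a * b))
include hR3

theorem hb_comm {i j : ℕ} (hi : i < D.rank) (hj : j < D.rank) {a b : F} (ha : a ≠ 0) (hb' : b ≠ 0) :
    Commute (hb S (D.simple j) b) (hb S (D.simple i) a) := by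
  have hp := hC.simple_lt hi
  obtain ⟨⟨c, hc⟩, hx⟩ := Hbar_le_Tor S hT (hb_mem S hj hb')
  obtain ⟨h, hh⟩ : ∃ h, h = hb S (D.simple j) b := ⟨_, rfl⟩
  obtain ⟨k, hk⟩ : ∃ k : F, k = (torChar D c (D.simple i) : F) := ⟨_, rfl⟩
  have hk0 : k ≠ 0 := hk ▸ Units.ne_zero _
  rw [← hh] at hx hc ⊢
  have e1 : ∀ t : F, h * S.X (D.simple i) t * h⁻¹ = S.X (D.simple i) (k * t) := fun t => by
    rw [hk]; exact hx _ hp _ _ (by rw [hc]; exact tor_conj_x hC c _ t hp)
  have e2 : ∀ t : F, h * S.X (D.neg (D.simple i)) t * h⁻¹ =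
      S.X (D.neg (D.simple i)) (k⁻¹ * t) := fun t => by
    rw [hx _ (hC.neg_lt hp) _ _ (by rw [hc]; exact tor_conj_x hC c _ t (hC.neg_lt hp))]
    congr 2
    rw [hk, ← Units.val_inv_eq_inv_val, Units.val_inj]
    refine eq_inv_of_mul_eq_one_right (Units.ext ?_)
    rw [Units.val_mul, Units.val_one, mul_comm]
    exact (torChar_isMulChar hC c).1 _ hp
  have e3 : ∀ d : F, h * nb S (D.simple i) d * h⁻¹ = nb S (D.simple i) (k * d) := fun d => by
    rw [nb, nb, show ∀ x y z : G, h * (x * y * z) * h⁻¹ = h * x * h⁻¹ * (h * y * h⁻¹) * (h * z * h⁻¹)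
      from fun x y z => by group, e1, e2, mul_inv, mul_neg]
  have e4 : h * hb S (D.simple i) a * h⁻¹ = hb S (D.simple i) a := by
    rw [hb, show h * (nb S (D.simple i) a * nb S (D.simple i) (-1)) * h⁻¹ =
      h * nb S (D.simple i) a * h⁻¹ * (h * nb S (D.simple i) (-1) * h⁻¹) by group, e3, e3,
      mul_neg, mul_one, ← nb_inv S hp, nb_eq S hp (k * a), nb_eq S hp k,
      ← hR3 _ hp k a hk0 ha]
    have e5 : hb S (D.simple i) k * hb S (D.simple i) a =
        hb S (D.simple i) a * hb S (D.simple i) k := by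
      rw [hR3 _ hp k a hk0 ha, hR3 _ hp a k ha hk0, mul_comm]
    rw [e5]
    show _ = hb S (D.simple i) a
    group
  exact mul_inv_eq_iff_eq_mul.1 e4

omit hT in
/-- One toral parameter. -/
def torPart {i : ℕ} (hi : i < D.rank) : Fˣ →* G :=
  MonoidHom.mk' (fun c => hb S (D.simple i) (c : F)) fun a b => by
    rw [Units.val_mul]; exact (hR3 _ (hC.simple_lt hi) _ _ a.ne_zero b.ne_zero).symm

theorem torPart_comm : Pairwise fun i j : Fin D.rank => ∀ x y : Fˣ,
    Commute (torPart S hR3 i.2 x) (torPart S hR3 j.2 y) := fun i j _ x y =>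
  hb_comm S hT hR3 j.2 i.2 y.ne_zero x.ne_zero

/-- The parametrisation of `H̄`. -/
def sigma : (Fin D.rank → Fˣ) →* G :=
  MonoidHom.noncommPiCoprod (fun i : Fin D.rank => torPart S hR3 i.2) (torPart_comm S hT hR3)

theorem th_sigma : S.th.comp (sigma S hT hR3) = torHom D F := by
  refine MonoidHom.pi_ext fun i c => ?_
  show S.th (sigma S hT hR3 (Pi.mulSingle i c)) = tor D (TorusCard.ext (Pi.mulSingle i c))
  rw [sigma, MonoidHom.noncommPiCoprod_mulSingle]
  show S.th (hb S (D.simple i) (c : F)) = _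
  rw [th_hb S (hC.simple_lt i.2), hg_simple hC i.2]
  congr 1
  funext j
  by_cases h : j = i
  · subst h; rw [if_pos rfl, TorusCard.ext, dif_pos i.2, Pi.mulSingle_eq_same]
  · rw [if_neg h, TorusCard.ext]
    split_ifs with hj
    · rw [Pi.mulSingle_eq_of_ne (fun e => h (congrArg Fin.val e))]
    · rfl

theorem Hbar_le_range : Hbar S ≤ (sigma S hT hR3).range := by
  refine (Subgroup.closure_le _).2 ?_
  rintro g ⟨i, c, hi, hc, rfl⟩
  exact ⟨Pi.mulSingle ⟨i, hi⟩ (Units.mk0 c hc), by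
    rw [sigma, MonoidHom.noncommPiCoprod_mulSingle]; rfl⟩

theorem center_le_image :
    Subgroup.center G ≤ ((matHom (G := Fˣ) (cartanMat D)).ker).map (sigma S hT hR3) := by
  rw [← ker_torHom hC, ← center_eq_ker S hT]
  intro g hg
  obtain ⟨c, rfl⟩ := Hbar_le_range S hT hR3 (ker_le_Hbar S hT hg)
  refine ⟨c, ?_, rfl⟩
  rw [SetLike.mem_coe, MonoidHom.mem_ker, ← th_sigma S hT hR3]
  exact hg

end Sys

section Presented

variable (hC : Certified D T)
include hC

/-- The images of the generators. -/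
def genImg (p : Fin D.nroots × F) : GL D.Idx F := xg hC p.1 p.2

theorem lift_stX (r : ℕ) (hr : r < D.nroots) (t : F) :
    FreeGroup.lift (genImg hC) (D.stX r t) = xg hC r t := by
  simp [ChevalleyDatum.stX, hr, genImg]

theorem lift_rels : ∀ w ∈ D.steinbergRels F, FreeGroup.lift (genImg hC) w = 1 := by
  rintro w ((⟨r, a, b, hr, rfl⟩ | ⟨r, s, t, u, hr, hs, hne, hnn, rfl⟩) | ⟨r, a, b, hr, ha, hb', rfl⟩)
  · simp only [map_mul, map_inv, lift_stX hC r hr, xg_add hC, mul_inv_cancel]
  · have hw : FreeGroup.lift (genImg hC) (D.stWord (D.commWord F r s t u)) =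
        ((D.commWord F r s t u).map fun p => xg hC p.1 p.2).prod := by
      rw [ChevalleyDatum.stWord, map_list_prod, List.map_map]
      congr 1
      refine List.map_congr_left fun p hp => ?_
      simp only [ChevalleyDatum.commWord, List.mem_map] at hp
      obtain ⟨c, hc, rfl⟩ := hp
      exact lift_stX hC _ (Relations.commTerms_lt hC hr hs c hc) _
    simp only [map_mul, map_inv, lift_stX hC r hr, lift_stX hC s hs, hw]
    rw [mul_assoc _ (xg hC s u), xg_comm hC hr hs hne hnn]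
    group
  · have hh : ∀ c : F, FreeGroup.lift (genImg hC) (D.stH r c) = hg hC r c := fun c => by
      simp [ChevalleyDatum.stH, ChevalleyDatum.stWord, ChevalleyDatum.hWord, ChevalleyDatum.nWord,
        lift_stX hC r hr, lift_stX hC _ (hC.neg_lt hr), hg, ng, mul_assoc]
    simp only [map_mul, map_inv, hh]
    rw [(SL2.rank1 hC hr).H_mul a b ha hb', mul_inv_cancel]

omit hC in
theorem stGen_prod (w : List (ℕ × F)) :
    PresentedGroup.mk (D.steinbergRels F) (D.stWord w) =
      (w.map fun p => D.stGen F p.1 p.2).prod := by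
  rw [ChevalleyDatum.stWord, map_list_prod, List.map_map]; rfl

omit hC in
theorem stGen_add {r : ℕ} (hr : r < D.nroots) (t u : F) :
    D.stGen F r (t + u) = D.stGen F r t * D.stGen F r u := by
  have h := PresentedGroup.one_of_mem (rels := D.steinbergRels F)
    (x := D.stX r t * D.stX r u * (D.stX r (t + u))⁻¹)
    (Or.inl (Or.inl ⟨r, t, u, hr, rfl⟩))
  rw [map_mul, map_mul, map_inv, mul_inv_eq_one] at h
  exact h.symm

omit hC in
theorem stGen_comm {r s : ℕ} (hr : r < D.nroots) (hs : s < D.nroots) (hne : s ≠ r)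
    (hnn : s ≠ D.neg r) (t u : F) : D.stGen F s u * D.stGen F r t =
      D.stGen F r t * D.stGen F s u * ((D.commWord F r s t u).map fun p => D.stGen F p.1 p.2).prod := by
  have h := PresentedGroup.one_of_mem (rels := D.steinbergRels F)
    (x := (D.stX s u)⁻¹ * (D.stX r t)⁻¹ * D.stX s u * D.stX r t * (D.stWord (D.commWord F r s t u))⁻¹)
    (Or.inl (Or.inr ⟨r, s, t, u, hr, hs, hne, hnn, rfl⟩))
  rw [map_mul, map_inv, mul_inv_eq_one, stGen_prod] at h
  rw [← h]
  simp only [ChevalleyDatum.stGen, map_mul, map_inv]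
  group

omit hC in
theorem stGen_closure :
    Subgroup.closure {g | ∃ r t, r < D.nroots ∧ g = D.stGen F r t} = ⊤ := by
  rw [eq_top_iff, ← PresentedGroup.closure_range_of]
  refine Subgroup.closure_mono ?_
  rintro g ⟨⟨⟨r, hr⟩, t⟩, rfl⟩
  exact ⟨r, t, hr, by simp [ChevalleyDatum.stGen, ChevalleyDatum.stX, hr]; rfl⟩

/-- The presented group with a map to the Chevalley group, as a cover. -/
def stSys (θ : D.SteinbergGroup F →* GL D.Idx F)
    (hθ : ∀ r < D.nroots, ∀ t, θ (D.stGen F r t) = xg hC r t) : Sys hC F (D.SteinbergGroup F) where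
  X := D.stGen F
  th := θ
  th_X := hθ
  add _ hr := stGen_add hr
  comm _ hr _ hs := stGen_comm hr hs
  gen := stGen_closure

/-- The natural map. -/
def stHom : D.SteinbergGroup F →* GL D.Idx F := PresentedGroup.toGroup (lift_rels hC)

theorem stHom_gen (r : ℕ) (hr : r < D.nroots) (t : F) : stHom hC (D.stGen F r t) = xg hC r t := by
  have : D.stGen F r t = PresentedGroup.of ((⟨r, hr⟩, t) : Fin D.nroots × F) := by
    simp [ChevalleyDatum.stGen, ChevalleyDatum.stX, hr]; rfl
  rw [this, stHom, PresentedGroup.toGroup.of]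
  rfl

theorem mk_stH (θ : D.SteinbergGroup F →* GL D.Idx F)
    (hθ : ∀ r < D.nroots, ∀ t, θ (D.stGen F r t) = xg hC r t) (r : ℕ) (c : F) :
    hb (stSys hC θ hθ) r c = PresentedGroup.mk (D.steinbergRels F) (D.stH r c) := by
  simp [hb, nb, stSys, ChevalleyDatum.stH, stGen_prod, ChevalleyDatum.hWord, ChevalleyDatum.nWord,
    mul_assoc]

theorem stH_mul (θ : D.SteinbergGroup F →* GL D.Idx F)
    (hθ : ∀ r < D.nroots, ∀ t, θ (D.stGen F r t) = xg hC r t) :
    ∀ r < D.nroots, ∀ a b : F, a ≠ 0 → b ≠ 0 →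
      hb (stSys hC θ hθ) r a * hb (stSys hC θ hθ) r b = hb (stSys hC θ hθ) r (a * b) := by
  intro r hr a b ha hb'
  simp only [mk_stH hC θ hθ]
  rw [← map_mul, ← mul_inv_eq_one, ← map_inv, ← map_mul]
  exact PresentedGroup.one_of_mem (Or.inr ⟨r, a, b, hr, ha, hb', rfl⟩)

/-- For an invertible Cartan matrix the centre is trivial. -/
theorem center_eq_bot (hT : HasCerts T) {M' : Matrix (Fin D.rank) (Fin D.rank) ℤ}
    (hM : M' * cartanMat D = 1) : Subgroup.center (D.SteinbergGroup F) = ⊥ := by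
  have hh := stH_mul hC (stHom hC) (stHom_gen (F := F) hC)
  rw [eq_bot_iff]
  refine (center_le_image _ hT hh).trans ?_
  rintro g ⟨c, hc, rfl⟩
  have : c = 1 := by
    have h := congrArg (matHom M') (MonoidHom.mem_ker.1 hc)
    rwa [← matHom_mul, hM, matHom_one, map_one] at h
  rw [this, map_one]
  exact one_mem _

end Presented

end Cfsg.Agent.Chevalley.StSteinberg
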