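import Cfsg.Agent.Lib.Chevalley.Check

/-!
`Certified D T`: the checks hold for the datum `D` with packed tables `T`; bookkeeping consequences
stated for the datum's own functions.
-/

set_option autoImplicit false

namespace Cfsg.Agent.Chevalley.Cert

open Cfsg.Lie Cfsg.Agent.Chevalley.Eval Cfsg.Agent.Chevalley.Table Cfsg.Agent.Chevalley.Check

/-- The checks hold. -/
structure Certified (D : ChevalleyDatum) (T : Tab) : Prop where
  link : linkChk D T = true
  sys : sysChk T = true
  chains : chainsChk T D = true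
  add : addChk T = true
  desc : descChk T = true
  comm : commAll T = true ∨ (commChk T = true ∧ shortChk D = true)
  refls : ∀ i < T.l, reflsChk T i = true
  equiv : ∀ i < T.l, equivChk T D i = true

/-- The coefficient `c_i(r)` of a coroot. -/
abbrev cor (D : ChevalleyDatum) (r i : ℕ) : ℤ := (D.coroot.getD r #[]).getD i 0

theorem imul_eq (a b : ℤ) : Int.mul a b = a * b := rfl
theorem iadd_eq (a b : ℤ) : Int.add a b = a + b := rfl
theorem ineg_eq (a : ℤ) : Int.neg a = -a := rfl

variable {D : ChevalleyDatum} {T : Tab}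

namespace Certified

variable (hC : Certified D T)
include hC

theorem linked : Linked D T := linked_of_chk hC.link

theorem n_eq : T.n = D.nroots := hC.linked.n_eq

theorem l_eq : T.l = D.rank := hC.linked.l_eq

theorem rootChk_of {r : ℕ} (hr : r < D.nroots) : rootChk T r = true := by
  have h := hC.sys
  simp only [sysChk, Bool.and_eq_true] at h
  exact of_allR h.1 r (by rw [hC.n_eq]; exact hr)

theorem simpleChk_of {i : ℕ} (hi : i < D.rank) : simpleChk T i = true := by
  have h := hC.sys
  simp only [sysChk, Bool.and_eq_true] at h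
  exact of_allR h.2 i (by rw [hC.l_eq]; exact hi)

theorem neg_eq {r : ℕ} (hr : r < D.nroots) : T.neg r = D.neg r := hC.linked.neg_eq r hr

theorem simple_eq {i : ℕ} (hi : i < D.rank) : T.simple i = D.simple i := hC.linked.simple_eq i hi

theorem neg_lt {r : ℕ} (hr : r < D.nroots) : D.neg r < D.nroots := by
  have h := hC.rootChk_of hr
  simp only [rootChk, Bool.and_eq_true, Nat.blt_eq] at h
  rw [← hC.neg_eq hr, ← hC.n_eq]
  exact h.1.1

theorem neg_neg {r : ℕ} (hr : r < D.nroots) : D.neg (D.neg r) = r := by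
  have h := hC.rootChk_of hr
  simp only [rootChk, Bool.and_eq_true, Nat.beq_eq, hC.neg_eq hr] at h
  have h2 := h.1.2.1
  rwa [hC.neg_eq (hC.neg_lt hr)] at h2

theorem neg_ne {r : ℕ} (hr : r < D.nroots) : D.neg r ≠ r := by
  have h := hC.rootChk_of hr
  simp only [rootChk, Bool.and_eq_true, Bool.not_eq_true', hC.neg_eq hr] at h
  intro he
  have h2 := h.1.2.2
  rw [he, Nat.beq_refl] at h2
  exact Bool.noConfusion h2

theorem simple_lt {i : ℕ} (hi : i < D.rank) : D.simple i < D.nroots := by
  have h := hC.simpleChk_of hi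
  simp only [simpleChk, Bool.and_eq_true, Nat.blt_eq] at h
  rw [← hC.simple_eq hi, ← hC.n_eq]
  exact h.1.1

theorem cor_neg {r i : ℕ} (hr : r < D.nroots) (hi : i < D.rank) : cor D (D.neg r) i = -cor D r i := by
  have h := hC.rootChk_of hr
  simp only [rootChk, Bool.and_eq_true] at h
  have h2 := of_allR h.2.1 i (by rw [hC.l_eq]; exact hi)
  simp only [Bool.and_eq_true, ieq_iff, hC.neg_eq hr, ineg_eq] at h2
  rw [hC.linked.C_eq _ (hC.neg_lt hr) i hi, hC.linked.C_eq r hr i hi] at h2
  exact h2.1

theorem cartan_neg {r i : ℕ} (hr : r < D.nroots) (hi : i < D.rank) :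
    D.cartan i (D.neg r) = -D.cartan i r := by
  have h := hC.rootChk_of hr
  simp only [rootChk, Bool.and_eq_true] at h
  have h2 := of_allR h.2.1 i (by rw [hC.l_eq]; exact hi)
  simp only [Bool.and_eq_true, ieq_iff, hC.neg_eq hr, ineg_eq] at h2
  rw [hC.linked.A_eq i hi _ (hC.neg_lt hr), hC.linked.A_eq i hi r hr] at h2
  exact h2.2

theorem phi_neg {r : ℕ} (hr : r < D.nroots) : T.phi (D.neg r) = -T.phi r := by
  have h := hC.rootChk_of hr
  simp only [rootChk, Bool.and_eq_true, ieq_iff, hC.neg_eq hr, ineg_eq] at h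
  exact h.2.2.1

theorem phi_ne_zero {r : ℕ} (hr : r < D.nroots) : T.phi r ≠ 0 := by
  have h := hC.rootChk_of hr
  simp only [rootChk, Bool.and_eq_true, Bool.not_eq_true'] at h
  intro h0
  have h2 := h.2.2.2.2.2.1
  rw [(isZ_iff _).2 h0] at h2
  exact Bool.noConfusion h2

theorem phi_lt {r s : ℕ} (hrs : r < s) (hs : s < D.nroots) : T.phi r < T.phi s := by
  induction s with
  | zero => omega
  | succ s ih =>
    have h := hC.rootChk_of hs
    simp only [rootChk, Bool.and_eq_true, Bool.or_eq_true, Nat.beq_eq, iblt_iff] at h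
    rcases h.2.2.2.1 with h0 | h0
    · omega
    · simp only [Nat.sub_eq, Nat.add_sub_cancel] at h0
      rcases Nat.lt_succ_iff_lt_or_eq.1 hrs with hlt | rfl
      · exact (ih hlt (by omega)).trans h0
      · exact h0

theorem phi_lt_iff {r s : ℕ} (hr : r < D.nroots) (hs : s < D.nroots) :
    T.phi r < T.phi s ↔ r < s := by
  refine ⟨fun h => ?_, fun h => hC.phi_lt h hs⟩
  by_contra hc
  rcases Nat.eq_or_lt_of_le (Nat.le_of_not_lt hc) with rfl | hlt
  · exact lt_irrefl _ h
  · exact lt_irrefl _ (h.trans (hC.phi_lt hlt hr))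

theorem phi_inj {r s : ℕ} (hr : r < D.nroots) (hs : s < D.nroots) (h : T.phi r = T.phi s) : r = s := by
  rcases lt_trichotomy r s with h1 | h1 | h1
  · exact absurd h (hC.phi_lt h1 hs).ne
  · exact h1
  · exact absurd h.symm (hC.phi_lt h1 hr).ne

theorem cor_gcd {r : ℕ} (hr : r < D.nroots) {d : ℕ}
    (hd : ∀ i < D.rank, (d : ℤ) ∣ cor D r i) : d = 1 := by
  have h := hC.rootChk_of hr
  simp only [rootChk, Bool.and_eq_true, Nat.beq_eq] at h
  have key : ∀ m ≤ D.rank,
      d ∣ (Nat.rec 0 (fun i ih => Nat.gcd (T.C r i).natAbs ih) m : ℕ) := by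
    intro m
    induction m with
    | zero => exact fun _ => dvd_zero d
    | succ m ih =>
      intro hm
      refine Nat.dvd_gcd ?_ (ih (by omega))
      rw [hC.linked.C_eq r hr m (by omega)]
      exact Int.natCast_dvd.1 (hd m (by omega))
  have h2 := key T.l (le_of_eq hC.l_eq)
  rw [show (Nat.rec 0 (fun i ih => Nat.gcd (T.C r i).natAbs ih) T.l : ℕ) = 1 from h.2.2.2.2.2.2] at h2
  exact Nat.dvd_one.1 h2

theorem posRoot_iff {r : ℕ} (hr : r < D.nroots) : D.IsPosRoot r ↔ 0 < T.phi r := by
  have h := hC.rootChk_of hr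
  simp only [rootChk, Bool.and_eq_true] at h
  have hsign := h.2.2.2.2.1
  have hl : ∀ c ∈ (D.coroot.getD r #[]).toList, ∃ i < D.rank, c = cor D r i := by
    intro c hc
    obtain ⟨i, hi, rfl⟩ := List.getElem_of_mem hc
    have hlen : (D.coroot.getD r #[]).toList.length = D.rank := by
      have hk := hC.link
      simp only [linkChk, Bool.and_eq_true] at hk
      have h1 := of_chkList _ #[] _ _ _ hk.2.2.2.2.2.1 r (by rw [hC.n_eq]; exact hr)
      rw [Nat.zero_add, toList_getD] at h1
      have key : ∀ (k j : ℕ) (L : List ℤ) (eq : ℕ → ℤ → Bool),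
          chkList eq k j L = true → L.length = k := by
        intro k
        induction k with
        | zero => intro j L eq h; simpa [chkList] using h
        | succ k ih =>
          intro j L eq h
          cases L with
          | nil => simp [chkList] at h
          | cons a L =>
            simp only [chkList, Bool.and_eq_true] at h
            simp [ih _ _ _ h.2]
      rw [key _ _ _ _ h1, hC.l_eq]
    refine ⟨i, by omega, ?_⟩
    show _ = (D.coroot.getD r #[]).getD i 0
    exact ((toList_getD _ i 0).symm.trans (List.getD_eq_getElem _ _ hi)).symm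
  constructor
  · intro hp
    by_contra hc
    rw [Bool.eq_false_iff.2 (fun hb => hc ((iblt_iff _ _).1 hb)), cond_false] at hsign
    apply absurd (hC.cor_gcd hr (d := 0) fun i hi => ?_) (by omega)
    have h2 := of_allR hsign i (by rw [hC.l_eq]; exact hi)
    rw [isNN_iff, ineg_eq, hC.linked.C_eq r hr i hi] at h2
    have h3 : 0 ≤ cor D r i := by
      by_cases hm : cor D r i ∈ (D.coroot.getD r #[]).toList
      · exact hp.2 _ hm
      · show 0 ≤ (D.coroot.getD r #[]).getD i 0
        rw [← toList_getD]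
        by_cases hi' : i < (D.coroot.getD r #[]).toList.length
        · rw [List.getD_eq_getElem _ _ hi']; exact hp.2 _ (List.getElem_mem hi')
        · rw [List.getD_eq_default _ _ (by omega)]
    show (0 : ℤ) ∣ cor D r i
    have : cor D r i = 0 := le_antisymm (by simp only [cor]; omega) h3
    rw [this]
  · intro hp
    refine ⟨hr, fun c hc => ?_⟩
    rw [(iblt_iff _ _).2 hp, cond_true] at hsign
    obtain ⟨i, hi, rfl⟩ := hl c hc
    have h2 := of_allR hsign i (by rw [hC.l_eq]; exact hi)
    rwa [isNN_iff, hC.linked.C_eq r hr i hi] at h2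

theorem phi_simple {i : ℕ} (hi : i < D.rank) : 0 < T.phi (D.simple i) := by
  have h := hC.simpleChk_of hi
  simp only [simpleChk, Bool.and_eq_true, iblt_iff, hC.simple_eq hi] at h
  exact h.1.2

theorem cartan_simple {i : ℕ} (hi : i < D.rank) : D.cartan i (D.simple i) = 2 := by
  have h := hC.simpleChk_of hi
  simp only [simpleChk, Bool.and_eq_true, ieq_iff, hC.simple_eq hi] at h
  rw [← hC.linked.A_eq i hi _ (hC.simple_lt hi)]
  exact h.2.1

theorem cor_simple {i j : ℕ} (hi : i < D.rank) (hj : j < D.rank) :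
    cor D (D.simple i) j = if i = j then 1 else 0 := by
  have h := hC.simpleChk_of hi
  simp only [simpleChk, Bool.and_eq_true] at h
  have h2 := of_allR h.2.2 j (by rw [hC.l_eq]; exact hj)
  rw [ieq_iff, hC.simple_eq hi, hC.linked.C_eq _ (hC.simple_lt hi) j hj] at h2
  show (D.coroot.getD (D.simple i) #[]).getD j 0 = _
  rw [h2]
  by_cases hij : i = j
  · rw [if_pos hij, hij, Nat.beq_refl, cond_true]
  · rw [if_neg hij, Bool.eq_false_iff.2 (fun hb => hij (Nat.eq_of_beq_eq_true hb)), cond_false]

theorem descent {r : ℕ} (hr : r < D.nroots) (hpos : 0 < T.phi r) :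
    ∃ i < D.rank, r = D.simple i ∨ 0 < D.cartan i r := by
  have h := of_allR hC.desc r (by rw [hC.n_eq]; exact hr)
  rw [(iblt_iff _ _).2 hpos, Bool.not_true, Bool.false_or] at h
  obtain ⟨i, hi, h'⟩ := of_anyR h
  rw [hC.l_eq] at hi
  simp only [Bool.or_eq_true, Nat.beq_eq, iblt_iff, hC.simple_eq hi, hC.linked.A_eq i hi r hr] at h'
  exact ⟨i, hi, h'⟩

theorem simple_inj {i j : ℕ} (hi : i < D.rank) (hj : j < D.rank) (h : D.simple i = D.simple j) :
    i = j := by
  have h1 := hC.cor_simple hi hi
  rw [h, hC.cor_simple hj hi, if_pos rfl] at h1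
  by_contra hne
  rw [if_neg fun e => hne e.symm] at h1
  exact zero_ne_one h1

/-! ### Chains -/

theorem keys_nodup {r : ℕ} (hr : r < D.nroots) :
    ((D.chain.getD r #[]).toList.map Prod.fst).Nodup :=
  hC.linked.keys_nodup r hr

theorem chain_spec {r s : ℕ} (hr : r < D.nroots) (hne : D.chainEntry r s ≠ []) :
    s < D.nroots ∧ s ≠ r ∧ s ≠ D.neg r ∧ (D.chainEntry r s).length ≤ 3 ∧
      stepsChk T r s (D.chainEntry r s) = true := by
  have h := of_chkList _ #[] _ _ _ hC.chains r (by rw [hC.n_eq]; exact hr)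
  rw [Nat.zero_add, toList_getD] at h
  unfold ChevalleyDatum.chainEntry at hne ⊢
  cases hf : (D.chain.getD r #[]).toList.find? (fun e => e.1 = s) with
  | none => rw [hf] at hne; exact absurd rfl hne
  | some e =>
    have hmem := List.mem_of_find?_eq_some hf
    have hes : e.1 = s := by simpa using List.find?_some hf
    have h2 := of_allL h e hmem
    simp only [Bool.and_eq_true, Bool.not_eq_true', Nat.ble_eq, hC.neg_eq hr, hes] at h2
    obtain ⟨⟨h3, h4, h5⟩, h6⟩ := h2
    refine ⟨hes ▸ hC.linked.keys_lt r hr e hmem, fun h => ?_, fun h => ?_, h5, h6⟩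
    · rw [h, Nat.beq_refl] at h3; exact Bool.noConfusion h3
    · rw [h, Nat.beq_refl] at h4; exact Bool.noConfusion h4

theorem chain_step {r s : ℕ} (hr : r < D.nroots) {k : ℕ} {q : ℕ × ℤ}
    (hq : (D.chainEntry r s)[k]? = some q) :
    q.1 < D.nroots ∧ q.2 ≠ 0 ∧ T.phi q.1 = ((k : ℤ) + 1) * T.phi r + T.phi s := by
  have hne : D.chainEntry r s ≠ [] := by
    intro h; rw [h] at hq; simp at hq
  obtain ⟨-, -, -, -, h⟩ := hC.chain_spec hr hne
  have key : ∀ (L : List (ℕ × ℤ)) (m k : ℕ) (q : ℕ × ℤ),
      (List.rec (fun _ => true)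
        (fun q _ ih k => (Nat.blt q.1 T.n && (!isZ q.2 &&
          ieq (T.phi q.1) (Int.add (Int.mul (Int.ofNat k) (T.phi r)) (T.phi s)))) && ih (Nat.add k 1))
        L m : Bool) = true → L[k]? = some q →
      q.1 < T.n ∧ q.2 ≠ 0 ∧ T.phi q.1 = ((m + k : ℕ) : ℤ) * T.phi r + T.phi s := by
    intro L
    induction L with
    | nil => intro m k q _ hq; simp at hq
    | cons a L ih =>
      intro m k q h hq
      simp only [Bool.and_eq_true, Nat.blt_eq, Bool.not_eq_true', ieq_iff] at h
      cases k with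
      | zero =>
        simp only [List.getElem?_cons_zero, Option.some.injEq] at hq
        subst hq
        refine ⟨h.1.1, fun h0 => ?_, h.1.2.2⟩
        rw [(isZ_iff _).2 h0] at h
        exact Bool.noConfusion h.1.2.1
      | succ k =>
        simp only [List.getElem?_cons_succ] at hq
        obtain ⟨h1, h2, h3⟩ := ih (m + 1) k q h.2 hq
        exact ⟨h1, h2, by rw [h3]; congr 2; push_cast; ring⟩
  obtain ⟨h1, h2, h3⟩ := key _ 1 k q h hq
  exact ⟨hC.n_eq ▸ h1, h2, by rw [h3]; push_cast; ring⟩

theorem chainEntry_self {r : ℕ} (hr : r < D.nroots) :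
    D.chainEntry r r = [] ∧ D.chainEntry r (D.neg r) = [] := by
  constructor
  · by_contra h
    exact (hC.chain_spec hr h).2.1 rfl
  · by_contra h
    exact (hC.chain_spec hr h).2.2.1 rfl

theorem chain_short (hs : shortChk D = true) {r s : ℕ} (hr : r < D.nroots) :
    (D.chainEntry r s).length ≤ 2 := by
  unfold ChevalleyDatum.chainEntry
  cases hf : (D.chain.getD r #[]).toList.find? (fun e => e.1 = s) with
  | none => simp
  | some e =>
    have hmem := List.mem_of_find?_eq_some hf
    rw [← toList_getD] at hmem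
    by_cases hlen : r < D.chain.toList.length
    · rw [List.getD_eq_getElem _ _ hlen] at hmem
      have h2 := of_allL (of_allL hs _ (List.getElem_mem hlen)) e hmem
      simpa [Nat.ble_eq] using h2
    · rw [List.getD_eq_default _ _ (by omega)] at hmem
      simp at hmem

/-! ### Reflections -/

theorem refls_of {i : ℕ} (hi : i < D.rank) {s : ℕ} (hs : s < D.nroots) :
    reflChk T i s = true ∧ T.refl i s = reflOf T i s := by
  have h := hC.refls i (by rw [hC.l_eq]; exact hi)
  simp only [reflsChk, Bool.and_eq_true] at h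
  have h2 := of_allR h.1 s (by rw [hC.n_eq]; exact hs)
  simp only [Bool.and_eq_true, Nat.beq_eq] at h2
  exact h2

theorem reflect_eq {i : ℕ} (hi : i < D.rank) {s : ℕ} (hs : s < D.nroots) :
    D.reflectRoot i s = T.refl i s := by
  rw [(hC.refls_of hi hs).2, reflOf, ChevalleyDatum.reflectRoot, hC.simple_eq hi,
    hC.neg_eq (hC.simple_lt hi), hC.linked.A_eq i hi s hs]
  by_cases h1 : s = D.simple i
  · rw [if_pos h1, h1, Nat.beq_refl, cond_true]
  rw [if_neg h1, Bool.eq_false_iff.2 (fun hb => h1 (Nat.eq_of_beq_eq_true hb)), cond_false]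
  by_cases h2 : s = D.neg (D.simple i)
  · rw [if_pos h2, h2, Nat.beq_refl, cond_true]
  rw [if_neg h2, Bool.eq_false_iff.2 (fun hb => h2 (Nat.eq_of_beq_eq_true hb)), cond_false]
  by_cases h3 : 0 < D.cartan i s
  · rw [if_pos h3, (iblt_iff _ _).2 h3, cond_true, chRoot, ChevalleyDatum.chainRoot,
      hC.linked.E_eq _ (hC.neg_lt (hC.simple_lt hi)) s hs]
  rw [if_neg h3, Bool.eq_false_iff.2 (fun hb => h3 ((iblt_iff _ _).1 hb)), cond_false]
  by_cases h4 : D.cartan i s < 0
  · rw [if_pos h4, (iblt_iff _ _).2 h4, cond_true, chRoot, ChevalleyDatum.chainRoot,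
      hC.linked.E_eq _ (hC.simple_lt hi) s hs, ineg_eq]
  rw [if_neg h4, Bool.eq_false_iff.2 (fun hb => h4 ((iblt_iff _ _).1 hb)), cond_false]

theorem reflect_lt {i : ℕ} (hi : i < D.rank) {s : ℕ} (hs : s < D.nroots) :
    D.reflectRoot i s < D.nroots := by
  have h := (hC.refls_of hi hs).1
  simp only [reflChk, Bool.and_eq_true, Nat.blt_eq] at h
  rw [hC.reflect_eq hi hs, ← hC.n_eq]
  exact h.1.1

theorem reflect_reflect {i : ℕ} (hi : i < D.rank) {s : ℕ} (hs : s < D.nroots) :
    D.reflectRoot i (D.reflectRoot i s) = s := by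
  have h := (hC.refls_of hi hs).1
  simp only [reflChk, Bool.and_eq_true, Nat.beq_eq] at h
  rw [hC.reflect_eq hi (hC.reflect_lt hi hs), hC.reflect_eq hi hs]
  exact h.1.2.1

theorem reflect_neg {i : ℕ} (hi : i < D.rank) {s : ℕ} (hs : s < D.nroots) :
    D.reflectRoot i (D.neg s) = D.neg (D.reflectRoot i s) := by
  have hlt := hC.reflect_lt hi hs
  have h := (hC.refls_of hi hs).1
  rw [hC.reflect_eq hi hs] at hlt
  simp only [reflChk, Bool.and_eq_true, Nat.beq_eq, hC.neg_eq hs, hC.neg_eq hlt] at h
  rw [hC.reflect_eq hi (hC.neg_lt hs), hC.reflect_eq hi hs]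
  exact h.1.2.2.1

theorem eta_neg {i : ℕ} (hi : i < D.rank) {s : ℕ} (hs : s < D.nroots) :
    T.eta i (D.neg s) = T.eta i s := by
  have h := (hC.refls_of hi hs).1
  simp only [reflChk, Bool.and_eq_true, ieq_iff, hC.neg_eq hs] at h
  exact h.1.2.2.2

omit hC in
theorem eta_cases (i s : ℕ) : T.eta i s = 1 ∨ T.eta i s = -1 := by
  unfold Tab.eta
  cases Nat.beq (slot 1 (T.row s).eta i) 1
  · exact Or.inl rfl
  · exact Or.inr rfl

omit hC in
theorem eta_sq (i s : ℕ) : T.eta i s * T.eta i s = 1 := by
  rcases eta_cases (T := T) i s with h | h <;> rw [h] <;> norm_num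

theorem eta_mul_eta {i : ℕ} (hi : i < D.rank) {s : ℕ} (hs : s < D.nroots) :
    T.eta i s * T.eta i (D.reflectRoot i s) = (-1) ^ (D.cartan i s).natAbs := by
  have h := (hC.refls_of hi hs).1
  simp only [reflChk, Bool.and_eq_true, ieq_iff, imul_eq, zpw_eq, hC.linked.A_eq i hi s hs] at h
  rw [hC.reflect_eq hi hs]
  exact h.2.1

theorem reflect_simple {i : ℕ} (hi : i < D.rank) :
    D.reflectRoot i (D.simple i) = D.neg (D.simple i) := by
  rw [ChevalleyDatum.reflectRoot, if_pos rfl]

theorem eta_simple {i : ℕ} (hi : i < D.rank) : T.eta i (D.simple i) = -1 := by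
  have h := (hC.refls_of hi (hC.simple_lt hi)).1
  simp only [reflChk, Bool.and_eq_true, hC.simple_eq hi, Nat.beq_refl, cond_true, ieq_iff] at h
  exact h.2.2.1.2

theorem phi_reflect {i : ℕ} (hi : i < D.rank) {s : ℕ} (hs : s < D.nroots) :
    T.phi (D.reflectRoot i s) = T.phi s - D.cartan i s * T.phi (D.simple i) := by
  have h := (hC.refls_of hi hs).1
  simp only [reflChk, Bool.and_eq_true, ieq_iff, iadd_eq, imul_eq, ineg_eq, hC.simple_eq hi,
    hC.linked.A_eq i hi s hs] at h
  rw [hC.reflect_eq hi hs, sub_eq_add_neg]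
  exact h.2.2.2.1

theorem reflect_pos {i : ℕ} (hi : i < D.rank) {s : ℕ} (hs : s < D.nroots) (hne : s ≠ D.simple i)
    (hpos : 0 < T.phi s) : 0 < T.phi (D.reflectRoot i s) := by
  have h := (hC.refls_of hi hs).1
  simp only [reflChk, Bool.and_eq_true, hC.simple_eq hi, hC.neg_eq (hC.simple_lt hi)] at h
  have h2 := h.2.2.1
  rw [Bool.eq_false_iff.2 (fun hb => hne (Nat.eq_of_beq_eq_true hb)), cond_false] at h2
  have hne2 : s ≠ D.neg (D.simple i) := by
    rintro rfl
    rw [hC.phi_neg (hC.simple_lt hi)] at hpos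
    have := hC.phi_simple hi
    omega
  rw [Bool.eq_false_iff.2 (fun hb => hne2 (Nat.eq_of_beq_eq_true hb)), cond_false,
    (iblt_iff _ _).2 hpos, cond_true, iblt_iff] at h2
  rwa [hC.reflect_eq hi hs]

theorem cartan_reflect {i j : ℕ} (hi : i < D.rank) (hj : j < D.rank) {s : ℕ} (hs : s < D.nroots) :
    D.cartan j (D.reflectRoot i s) = D.cartan j s - D.cartan i s * D.cartan j (D.simple i) := by
  have h := (hC.refls_of hi hs).1
  simp only [reflChk, Bool.and_eq_true] at h
  have h2 := of_allR h.2.2.2.2 j (by rw [hC.l_eq]; exact hj)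
  have hlt := hC.reflect_lt hi hs
  rw [hC.reflect_eq hi hs] at hlt ⊢
  simp only [Bool.and_eq_true, ieq_iff, iadd_eq, imul_eq, ineg_eq, hC.simple_eq hi,
    hC.linked.A_eq i hi s hs, hC.linked.A_eq j hj s hs,
    hC.linked.A_eq j hj _ (hC.simple_lt hi), hC.linked.A_eq j hj _ hlt] at h2
  rw [sub_eq_add_neg]
  exact h2.1

theorem cor_reflect {i j : ℕ} (hi : i < D.rank) (hj : j < D.rank) {s : ℕ} (hs : s < D.nroots) :
    cor D (D.reflectRoot i s) j =
      if j = i then cor D s j - ∑ k ∈ Finset.range D.rank, cor D s k * D.cartan k (D.simple i)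
      else cor D s j := by
  have h := (hC.refls_of hi hs).1
  simp only [reflChk, Bool.and_eq_true] at h
  have h2 := of_allR h.2.2.2.2 j (by rw [hC.l_eq]; exact hj)
  have hlt := hC.reflect_lt hi hs
  rw [hC.reflect_eq hi hs] at hlt ⊢
  simp only [Bool.and_eq_true, ieq_iff] at h2
  show (D.coroot.getD (T.refl i s) #[]).getD j 0 = _
  rw [← hC.linked.C_eq _ hlt j hj, h2.2]
  have hsum : ∀ m ≤ D.rank,
      (Nat.rec 0 (fun k ih => Int.add (Int.mul (T.C s k) (T.A k (T.simple i))) ih) m : ℤ) =
        ∑ k ∈ Finset.range m, cor D s k * D.cartan k (D.simple i) := by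
    intro m
    induction m with
    | zero => intro _; simp
    | succ m ih =>
      intro hm
      rw [Finset.sum_range_succ, ← ih (by omega)]
      show T.C s m * T.A m (T.simple i) + _ = _
      rw [hC.linked.C_eq s hs m (by omega), hC.simple_eq hi,
        hC.linked.A_eq m (by omega) _ (hC.simple_lt hi)]
      exact add_comm _ _
  by_cases hji : j = i
  · rw [if_pos hji, hji, Nat.beq_refl, cond_true, hC.linked.C_eq s hs i hi]
    rw [show T.l = D.rank from hC.l_eq, hsum _ le_rfl]
    show _ + -_ = _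
    rw [← sub_eq_add_neg]
  · rw [if_neg hji, Bool.eq_false_iff.2 (fun hb => hji (Nat.eq_of_beq_eq_true hb)), cond_false,
      hC.linked.C_eq s hs j hj]

/-- The image of a chain under a reflection. -/
theorem chain_reflect {i : ℕ} (hi : i < D.rank) {s b : ℕ} (hs : s < D.nroots) (hb : b < D.nroots) :
    D.chainEntry (D.reflectRoot i s) (D.reflectRoot i b) = mapChain T i s b (D.chainEntry s b) := by
  have key : ∀ {s b : ℕ}, s < D.nroots → D.chainEntry s b ≠ [] →
      D.chainEntry (D.reflectRoot i s) (D.reflectRoot i b) = mapChain T i s b (D.chainEntry s b) := by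
    intro s b hs hne
    obtain ⟨hb, -⟩ := hC.chain_spec hs hne
    have h := of_chkList _ #[] _ _ _ (hC.equiv i (by rw [hC.l_eq]; exact hi)) s
      (by rw [hC.n_eq]; exact hs)
    rw [Nat.zero_add, toList_getD] at h
    unfold ChevalleyDatum.chainEntry at hne
    cases hf : (D.chain.getD s #[]).toList.find? (fun e => e.1 = b) with
    | none => rw [hf] at hne; exact absurd rfl hne
    | some e =>
      have heb : e.1 = b := by simpa using List.find?_some hf
      have h2 := eq_of_eqChain (of_allL h e (List.mem_of_find?_eq_some hf))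
      rw [heb, hC.linked.E_eq _ (hC.reflect_eq hi hs ▸ hC.reflect_lt hi hs) _
        (hC.reflect_eq hi hb ▸ hC.reflect_lt hi hb)] at h2
      rw [hC.reflect_eq hi hs, hC.reflect_eq hi hb, h2]
      congr 1
      unfold ChevalleyDatum.chainEntry
      rw [hf]
  by_cases hne : D.chainEntry s b = []
  · rw [hne]
    show _ = []
    by_contra hne2
    have h := key (hC.reflect_lt hi hs) hne2
    rw [hC.reflect_reflect hi hs, hC.reflect_reflect hi hb, hne] at h
    cases hl : D.chainEntry (D.reflectRoot i s) (D.reflectRoot i b) with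
    | nil => exact hne2 hl
    | cons a l =>
      rw [hl] at h
      exact List.cons_ne_nil _ _ h.symm
  · exact key hs hne

end Certified

end Cfsg.Agent.Chevalley.Cert
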