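import Cfsg.Agent.Lib.Chevalley.Table

/-!
The finite checks that certify a Chevalley datum: root system bookkeeping, equivariance of the structure
constants under the fundamental reflections, and the defining identities at one representative in each
orbit (additivity, commutator formula).
-/

set_option autoImplicit false

namespace Cfsg.Agent.Chevalley.Check

open Cfsg.Lie Cfsg.Agent.Chevalley.Eval Cfsg.Agent.Chevalley.Table

/-- `∀ x ∈ L`. -/
noncomputable def allL {α : Type} (p : α → Bool) (L : List α) : Bool :=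
  List.rec true (fun a _ ih => bif p a then ih else false) L

theorem of_allL {α : Type} {p : α → Bool} {L : List α} (h : allL p L = true) :
    ∀ x ∈ L, p x = true := by
  induction L with
  | nil => simp
  | cons a L ih =>
    intro x hx
    have h' : (bif p a then allL p L else false) = true := h
    cases hp : p a with
    | false => rw [hp] at h'; exact absurd h' (by simp)
    | true =>
      rw [hp, cond_true] at h'
      rcases List.mem_cons.1 hx with rfl | hx
      exacts [hp, ih h' x hx]

/-- `0 ≤ z`. -/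
def isNN : ℤ → Bool
  | Int.ofNat _ => true
  | Int.negSucc _ => false

theorem isNN_iff (z : ℤ) : isNN z = true ↔ 0 ≤ z := by
  cases z <;> simp [isNN]

/-- `a < b`. -/
def iblt (a b : ℤ) : Bool := !isNN (Int.add a (Int.neg b))

theorem iblt_iff (a b : ℤ) : iblt a b = true ↔ a < b := by
  rw [iblt, Bool.not_eq_true', Bool.eq_false_iff, ne_eq, isNN_iff]
  show ¬ 0 ≤ a + -b ↔ _
  omega

/-- Chain root. -/
def chRoot (E : ℕ → ℕ → List (ℕ × ℤ)) (r s i : ℕ) : Option ℕ := ((E r s)[i - 1]?).map Prod.fst

/-- Chain coefficient. -/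
def chM (E : ℕ → ℕ → List (ℕ × ℤ)) (r s i : ℕ) : ℤ := (((E r s)[i - 1]?).map Prod.snd).getD 0

/-- The terms of the commutator formula from a chain function. -/
def commOf (E : ℕ → ℕ → List (ℕ × ℤ)) (r s : ℕ) : List (ℕ × ℤ × ℕ × ℕ) :=
  let rs := chRoot E r s 1
  let cands : List (Option ℕ × ℤ × ℕ × ℕ) :=
    [ (chRoot E r s 1, chM E r s 1, 1, 1),
      (chRoot E r s 2, chM E r s 2, 2, 1),
      (chRoot E s r 2, chM E s r 2, 1, 2),
      (chRoot E r s 3, chM E r s 3, 3, 1),
      (chRoot E s r 3, - chM E s r 3, 1, 3),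
      ((chRoot E r s 3).bind fun k => chRoot E k s 1, (rs.map fun k => chM E k r 2 / 3).getD 0, 3, 2),
      ((chRoot E s r 3).bind fun k => chRoot E k r 1, (rs.map fun k => -2 * chM E k s 2 / 3).getD 0, 2, 3) ]
  cands.filterMap fun c => c.1.map fun k => (k, c.2)

theorem commTerms_eq (D : ChevalleyDatum) (r s : ℕ) : D.commTerms r s = commOf D.chainEntry r s := rfl

/-- The letters of the right-hand side of the commutator formula. -/
noncomputable def commLetters (E : ℕ → ℕ → List (ℕ × ℤ)) (r s : ℕ) : List Letter :=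
  (commOf E r s).map fun c => ⟨c.1, c.2.2.1, c.2.2.2, Int.mul c.2.1 (zpw (Int.negSucc 0) c.2.2.1)⟩

variable (T : Tab)

/-- The gcd of a coroot's coefficients. -/
noncomputable def corGcd (r : ℕ) : ℕ := Nat.rec 0 (fun i ih => Nat.gcd (T.C r i).natAbs ih) T.l

/-- Bookkeeping of one root. -/
noncomputable def rootChk (r : ℕ) : Bool :=
  (Nat.blt (T.neg r) T.n && (Nat.beq (T.neg (T.neg r)) r && !Nat.beq (T.neg r) r)) &&
  ((allR T.l fun i => ieq (T.C (T.neg r) i) (Int.neg (T.C r i)) &&
      ieq (T.A i (T.neg r)) (Int.neg (T.A i r))) &&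
  (ieq (T.phi (T.neg r)) (Int.neg (T.phi r)) &&
  ((Nat.beq r 0 || iblt (T.phi (Nat.sub r 1)) (T.phi r)) &&
  ((bif iblt 0 (T.phi r) then allR T.l fun i => isNN (T.C r i)
    else allR T.l fun i => isNN (Int.neg (T.C r i))) &&
  (!isZ (T.phi r) && Nat.beq (corGcd T r) 1)))))

/-- Bookkeeping of one fundamental root. -/
noncomputable def simpleChk (i : ℕ) : Bool :=
  (Nat.blt (T.simple i) T.n && iblt 0 (T.phi (T.simple i))) &&
  (ieq (T.A i (T.simple i)) 2 &&
  allR T.l fun j => ieq (T.C (T.simple i) j) (bif Nat.beq i j then 1 else 0))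

/-- The steps of one chain: indices, weights, non-zero coefficients. -/
noncomputable def stepsChk (r s : ℕ) (L : List (ℕ × ℤ)) : Bool :=
  List.rec (fun _ => true)
    (fun q _ ih k => (Nat.blt q.1 T.n && (!isZ q.2 &&
      ieq (T.phi q.1) (Int.add (Int.mul (Int.ofNat k) (T.phi r)) (T.phi s)))) && ih (Nat.add k 1)) L 1

/-- All chains in one direction. -/
noncomputable def chainChk (r : ℕ) (row : Array (ℕ × Array (ℕ × ℤ))) : Bool :=
  allL (fun e => (!Nat.beq e.1 r && (!Nat.beq e.1 (T.neg r) && Nat.ble e.2.toList.length 3)) &&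
    stepsChk T r e.1 e.2.toList) row.toList

/-- Bookkeeping of one reflection at one root. -/
noncomputable def reflChk (i s : ℕ) : Bool :=
  let w := T.refl i s
  (Nat.blt w T.n && (Nat.beq (T.refl i w) s && (Nat.beq (T.refl i (T.neg s)) (T.neg w) &&
    ieq (T.eta i (T.neg s)) (T.eta i s)))) &&
  (ieq (Int.mul (T.eta i s) (T.eta i w)) (zpw (Int.negSucc 0) (T.A i s).natAbs) &&
  ((bif Nat.beq s (T.simple i) then
      Nat.beq w (T.neg s) && ieq (T.eta i s) (Int.negSucc 0)
    else bif Nat.beq s (T.neg (T.simple i)) then true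
    else bif iblt 0 (T.phi s) then iblt 0 (T.phi w) else true) &&
  (ieq (T.phi w) (Int.add (T.phi s) (Int.neg (Int.mul (T.A i s) (T.phi (T.simple i))))) &&
  allR T.l fun j =>
    ieq (T.A j w) (Int.add (T.A j s) (Int.neg (Int.mul (T.A i s) (T.A j (T.simple i))))) &&
    ieq (T.C w j) (bif Nat.beq j i then
      Int.add (T.C s j) (Int.neg (Nat.rec 0 (fun k ih =>
        Int.add (Int.mul (T.C s k) (T.A k (T.simple i))) ih) T.l))
      else T.C s j))))

/-- `reflectRoot` computed with the fast tables. -/
noncomputable def reflOf (i s : ℕ) : ℕ :=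
  bif Nat.beq s (T.simple i) then T.neg (T.simple i)
  else bif Nat.beq s (T.neg (T.simple i)) then T.simple i
  else bif iblt 0 (T.A i s) then (chRoot T.E (T.neg (T.simple i)) s (T.A i s).toNat).getD s
  else bif iblt (T.A i s) 0 then (chRoot T.E (T.simple i) s (Int.neg (T.A i s)).toNat).getD s
  else s

/-- The image of a chain under the reflection `i`. -/
noncomputable def mapChain (i s b : ℕ) (L : List (ℕ × ℤ)) : List (ℕ × ℤ) :=
  List.rec (fun _ => [])
    (fun q _ ih k => (T.refl i q.1,
      Int.mul q.2 (Int.mul (T.eta i q.1) (Int.mul (T.eta i b) (zpw (T.eta i s) k)))) :: ih (Nat.add k 1))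
    L 1

/-- The structure constants commute with the reflection `i`, at one direction. -/
noncomputable def equivRow (i s : ℕ) (row : Array (ℕ × Array (ℕ × ℤ))) : Bool :=
  allL (fun e => eqChain (T.E (T.refl i s) (T.refl i e.1)) (mapChain T i s e.1 e.2.toList)) row.toList

/-- The word `n_p(t)`, with `u` the inverse of `t`. -/
noncomputable def nLetters (i : ℕ) : List Letter :=
  [⟨T.simple i, 1, 0, 1⟩, ⟨T.neg (T.simple i), 0, 1, -1⟩, ⟨T.simple i, 1, 0, 1⟩]

/-- The expected image of a basis vector under `n_p(t)`. -/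
noncomputable def nExpect (i j : ℕ) : List Term :=
  bif Nat.blt j T.l then ⟨j, 0, 0, 1⟩ :: (bif isZ (T.A j (T.simple i)) then []
    else [⟨i, 0, 0, Int.neg (T.A j (T.simple i))⟩])
  else [⟨Nat.add T.l (T.refl i (Nat.sub j T.l)), (Int.neg (T.A i (Nat.sub j T.l))).toNat,
    (T.A i (Nat.sub j T.l)).toNat, T.eta i (Nat.sub j T.l)⟩]

/-- `n_p(t)` is monomial, as expected. -/
noncomputable def nChk (i : ℕ) : Bool :=
  allR (Nat.add T.l T.n) fun j => sameInv (actWord T.col (nLetters T i) (unit j)) (nExpect T i j)

/-- Small binomial coefficients. -/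
def binom : ℕ → ℕ → ℕ
  | _, 0 => 1
  | 0, _ + 1 => 0
  | k + 1, m + 1 => binom k m + binom k (m + 1)

/-- The expansion of `x_r(t + u)` on a basis vector. -/
noncomputable def addExpect (r j : ℕ) : List Term :=
  ⟨j, 0, 0, 1⟩ :: (T.col r j).flatMap fun e =>
    (List.range (e.2.1 + 1)).map fun m => ⟨e.1, m, e.2.1 - m, e.2.2 * (binom e.2.1 m : ℕ)⟩

/-- Additivity of one root subgroup. -/
noncomputable def addPair (r : ℕ) : Bool :=
  allR (Nat.add T.l T.n) fun j =>
    same (actWord T.col [⟨r, 1, 0, 1⟩, ⟨r, 0, 1, 1⟩] (unit j)) (addExpect T r j)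

/-- The commutator formula for one pair of roots. -/
noncomputable def commPair (r s : ℕ) : Bool :=
  Nat.beq s r || (Nat.beq s (T.neg r) ||
  sameWords T.col (Nat.add T.l T.n) [⟨s, 0, 1, 1⟩, ⟨r, 1, 0, 1⟩]
    (⟨r, 1, 0, 1⟩ :: ⟨s, 0, 1, 1⟩ :: commLetters T.E r s))

/-- `r` is dominant. -/
noncomputable def dom (r : ℕ) : Bool := allR T.l fun i => isNN (T.A i r)

/-- `s` is dominant for the reflections fixing `r`. -/
noncomputable def domStab (r s : ℕ) : Bool :=
  allR T.l fun i => !isZ (T.A i r) || isNN (T.A i s)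

/-- Additivity at the dominant roots. -/
noncomputable def addChk : Bool := allR T.n fun r => !dom T r || addPair T r

/-- The commutator formula at orbit representatives of pairs. -/
noncomputable def commChk : Bool :=
  allR T.n fun r => !dom T r || allR T.n fun s => !domStab T r s || commPair T r s

/-- The commutator formula at every pair (for the small types). -/
noncomputable def commAll : Bool := allR T.n fun r => allR T.n fun s => commPair T r s

/-- Chains have length at most two. -/
noncomputable def shortChk (D : ChevalleyDatum) : Bool :=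
  allL (fun row => allL (fun e => Nat.ble e.2.toList.length 2) row.toList) D.chain.toList

/-- The checks on a root system. -/
noncomputable def sysChk : Bool :=
  allR T.n (rootChk T) && allR T.l (simpleChk T)

/-- `∃ i < n`. -/
noncomputable def anyR (n : ℕ) (p : ℕ → Bool) : Bool :=
  Nat.rec false (fun i ih => bif p i then true else ih) n

theorem of_anyR {n : ℕ} {p : ℕ → Bool} (h : anyR n p = true) : ∃ i < n, p i = true := by
  induction n with
  | zero => exact Bool.noConfusion h
  | succ n ih =>
    have h' : (bif p n then true else anyR n p) = true := h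
    cases hp : p n with
    | true => exact ⟨n, Nat.lt_succ_self n, hp⟩
    | false =>
      rw [hp, cond_false] at h'
      obtain ⟨i, hi, hi'⟩ := ih h'
      exact ⟨i, Nat.lt_succ_of_lt hi, hi'⟩

/-- A positive root that is not fundamental can be lowered by a fundamental reflection. -/
noncomputable def descChk : Bool :=
  allR T.n fun r => !iblt 0 (T.phi r) ||
    (anyR T.l fun i => Nat.beq r (T.simple i) || iblt 0 (T.A i r))

/-- All chains. -/
noncomputable def chainsChk (D : ChevalleyDatum) : Bool :=
  chkList (chainChk T) T.n 0 D.chain.toList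

/-- Everything about one reflection. -/
noncomputable def reflsChk (i : ℕ) : Bool :=
  (allR T.n fun s => reflChk T i s && Nat.beq (T.refl i s) (reflOf T i s)) && nChk T i

/-- Equivariance for one reflection. -/
noncomputable def equivChk (D : ChevalleyDatum) (i : ℕ) : Bool :=
  chkList (equivRow T i) T.n 0 D.chain.toList

end Cfsg.Agent.Chevalley.Check
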