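import Cfsg.Agent.Lib.Chevalley.Cert

/-!
The action of root elements on the basis vectors, from a certificate.
-/

set_option autoImplicit false

open scoped Matrix

namespace Cfsg.Agent.Chevalley.Columns

open Cfsg.Lie Cfsg.Agent.Chevalley.Eval Cfsg.Agent.Chevalley.Table Cfsg.Agent.Chevalley.Check
  Cfsg.Agent.Chevalley.Cert

variable (D : ChevalleyDatum) (F : Type*) [Field F]

/-- The basis vector `h_{p_j}`. -/
abbrev eh (j : ℕ) : D.Idx → F := basis D F j

/-- The basis vector `e_s`. -/
abbrev ev (s : ℕ) : D.Idx → F := basis D F (D.rank + s)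

/-- `Σ M_k t^k e_{u_k}` over a chain, numbering from `k`. -/
def chainVec (t : F) : ℕ → List (ℕ × ℤ) → D.Idx → F
  | _, [] => 0
  | k, q :: L => ((q.2 : F) * t ^ k) • ev D F q.1 + chainVec t (k + 1) L

variable {D F}

theorem basis_inl (j : Fin D.rank) : basis D F (j : ℕ) = Pi.single (Sum.inl j) 1 :=
  basis_code D (Sum.inl j)

theorem basis_inr (s : Fin D.nroots) : basis D F (D.rank + s) = Pi.single (Sum.inr s) 1 :=
  basis_code D (Sum.inr s)

theorem eh_eq {j : ℕ} (hj : j < D.rank) : eh D F j = Pi.single (Sum.inl ⟨j, hj⟩) 1 :=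
  basis_inl ⟨j, hj⟩

theorem ev_eq {s : ℕ} (hs : s < D.nroots) : ev D F s = Pi.single (Sum.inr ⟨s, hs⟩) 1 :=
  basis_inr ⟨s, hs⟩

theorem x_eq_one {r : ℕ} (hr : D.nroots ≤ r) (t : F) : D.x F r t = 1 := by
  rw [ChevalleyDatum.x, dif_neg (by omega)]

theorem x_eq {r : ℕ} (hr : r < D.nroots) (t : F) : D.x F r t = D.xMat F ⟨r, hr⟩ t := by
  rw [ChevalleyDatum.x, dif_pos hr]

theorem steps_eq_chainVec (t : F) (L : List (ℕ × ℤ)) (k : ℕ) :
    ((steps D.rank k L).map fun e => ((e.2.2 : F) * t ^ e.2.1) • basis D F e.1).sum =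
      chainVec D F t k L := by
  induction L generalizing k with
  | nil => rfl
  | cons q L ih =>
    show (((Nat.add D.rank q.1, k, q.2) :: steps D.rank (Nat.add k 1) L).map _).sum = _
    rw [List.map_cons, List.sum_cons, ih]
    rfl

theorem ev_inl (s : ℕ) (i : Fin D.rank) : ev D F s (Sum.inl i) = 0 := by
  show (if (i : ℕ) = D.rank + s then (1 : F) else 0) = 0
  have := i.2
  exact if_neg (by omega)

theorem ev_inr (s : ℕ) (u : Fin D.nroots) :
    ev D F s (Sum.inr u) = if (u : ℕ) = s then 1 else 0 := by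
  show (if D.rank + (u : ℕ) = D.rank + s then (1 : F) else 0) = _
  simp only [Nat.add_left_cancel_iff]

theorem chainVec_inl (t : F) (L : List (ℕ × ℤ)) (k : ℕ) (i : Fin D.rank) :
    chainVec D F t k L (Sum.inl i) = 0 := by
  induction L generalizing k with
  | nil => rfl
  | cons q L ih =>
    simp only [chainVec, Pi.add_apply, Pi.smul_apply, ih, add_zero, ev_inl, smul_zero]

theorem chainVec_inr (t : F) (L : List (ℕ × ℤ)) (k : ℕ) (u : Fin D.nroots) :
    chainVec D F t (k + 1) L (Sum.inr u) =
      ((((L.zipIdx k).filter fun q => q.1.1 = (u : ℕ)).map fun q => (q.2 + 1, q.1.2)).map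
        fun km => ((km.2 : ℤ) : F) * t ^ km.1).sum := by
  induction L generalizing k with
  | nil => rfl
  | cons q L ih =>
    simp only [chainVec, Pi.add_apply, Pi.smul_apply, List.zipIdx_cons, List.filter_cons, ih, ev_inr]
    by_cases h : q.1 = u
    · rw [if_pos h.symm]; simp [h]
    · rw [if_neg (Ne.symm h)]; simp [h]

theorem filter_eq_of_nodup {α : Type} (s : ℕ) :
    ∀ L : List (ℕ × α), (L.map Prod.fst).Nodup →
      L.filter (fun e => e.1 = s) = (L.find? fun e => e.1 = s).toList := by
  intro L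
  induction L with
  | nil => simp
  | cons a L ih =>
    intro hn
    rw [List.map_cons, List.nodup_cons] at hn
    rw [List.filter_cons, List.find?_cons]
    by_cases h : a.1 = s
    · simp only [h, decide_true, if_true, Option.toList_some]
      congr 1
      rw [List.filter_eq_nil_iff]
      intro e he
      simp only [decide_eq_true_eq]
      intro hes
      exact hn.1 (List.mem_map.2 ⟨e, he, hes.trans h.symm⟩)
    · simp [h, ih hn.2]

variable {T : Tab} (hC : Certified D T)
include hC

theorem chainCoeff_eq {r : ℕ} (hr : r < D.nroots) (s u : ℕ) :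
    D.chainCoeff r s u =
      (((D.chainEntry r s).zipIdx).filter fun q => q.1.1 = u).map fun q => (q.2 + 1, q.1.2) := by
  rw [ChevalleyDatum.chainCoeff, filter_eq_of_nodup s _ (hC.keys_nodup hr),
    ChevalleyDatum.chainEntry]
  cases (D.chain.getD r #[]).toList.find? (fun e => e.1 = s) <;> simp

theorem x_h {r j : ℕ} (hr : r < D.nroots) (hj : j < D.rank) (t : F) :
    D.x F r t *ᵥ eh D F j = eh D F j - ((D.cartan j r : F) * t) • ev D F r := by
  rw [x_eq hr, eh_eq hj, ev_eq hr, Matrix.mulVec_single_one]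
  funext row
  rcases row with i | u
  · simp [ChevalleyDatum.xMat, Pi.single_apply]
  · simp [ChevalleyDatum.xMat, Pi.single_apply, ChevalleyDatum.cartan]
    split_ifs <;> simp

theorem x_self {r : ℕ} (hr : r < D.nroots) (t : F) : D.x F r t *ᵥ ev D F r = ev D F r := by
  rw [x_eq hr, ev_eq hr, Matrix.mulVec_single_one]
  funext row
  rcases row with i | u <;> simp [ChevalleyDatum.xMat, Pi.single_apply]

theorem x_neg {r : ℕ} (hr : r < D.nroots) (t : F) :
    D.x F r t *ᵥ ev D F (D.neg r) = ev D F (D.neg r) +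
      t • ∑ i ∈ Finset.range D.rank, (cor D r i : F) • eh D F i - t ^ 2 • ev D F r := by
  have hn := hC.neg_lt hr
  have hne := hC.neg_ne hr
  rw [x_eq hr, ev_eq hn, ev_eq hr, Matrix.mulVec_single_one,
    Finset.sum_range (fun i => (cor D r i : F) • eh D F i)]
  have hsum : (∑ i : Fin D.rank, (cor D r (i : ℕ) : F) • eh D F (i : ℕ)) =
      fun row => Sum.elim (fun i : Fin D.rank => (cor D r (i : ℕ) : F)) (fun _ => 0) row := by
    funext row
    simp only [Finset.sum_apply, Pi.smul_apply, eh_eq (Fin.isLt _), Fin.eta]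
    rcases row with i | u <;> simp [Pi.single_apply]
  rw [hsum]
  funext row
  have hne' : (⟨D.neg r, hn⟩ : Fin D.nroots) ≠ ⟨r, hr⟩ := fun h => hne (congrArg Fin.val h)
  rcases row with i | u
  · simp only [Matrix.col_apply, ChevalleyDatum.xMat, Matrix.of_apply, if_neg hne',
      Pi.sub_apply, Pi.add_apply, Pi.smul_apply, Pi.single_apply, Sum.elim_inl, smul_eq_mul]
    rw [if_pos (show (⟨D.neg r, hn⟩ : Fin D.nroots).val = D.negIdx.getD r 0 from rfl)]
    simp [cor, mul_comm]
  · simp only [Matrix.col_apply, ChevalleyDatum.xMat, Matrix.of_apply, if_neg hne',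
      Pi.sub_apply, Pi.add_apply, Pi.smul_apply, Pi.single_apply, Sum.elim_inr, smul_eq_mul]
    rw [if_pos (show (⟨D.neg r, hn⟩ : Fin D.nroots).val = D.negIdx.getD r 0 from rfl)]
    by_cases h1 : u = (⟨D.neg r, hn⟩ : Fin D.nroots)
    · subst h1
      simp [hne']
    · by_cases h2 : u = (⟨r, hr⟩ : Fin D.nroots)
      · subst h2
        simp [h1]
      · simp [h1, h2]

theorem x_chain {r s : ℕ} (hr : r < D.nroots) (hs : s < D.nroots) (h1 : s ≠ r) (h2 : s ≠ D.neg r)
    (t : F) :
    D.x F r t *ᵥ ev D F s = ev D F s + chainVec D F t 1 (D.chainEntry r s) := by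
  rw [x_eq hr]
  rw [ev_eq hs, Matrix.mulVec_single_one]
  funext row
  have h1' : (⟨s, hs⟩ : Fin D.nroots) ≠ ⟨r, hr⟩ := fun h => h1 (congrArg Fin.val h)
  have h2' : ¬ s = D.negIdx.getD r 0 := h2
  rcases row with i | u
  · simp only [Matrix.col_apply, ChevalleyDatum.xMat, Matrix.of_apply, if_neg h1', if_neg h2',
      Pi.add_apply, chainVec_inl, add_zero]
    simp
  · simp only [Matrix.col_apply, ChevalleyDatum.xMat, Matrix.of_apply, if_neg h1', if_neg h2',
      Pi.add_apply, chainVec_inr, chainCoeff_eq hC hr]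
    rw [Pi.single_apply]
    congr 1
    simp

/-- The fast column data is correct. -/
theorem colValid : ColValid D F T.col := by
  intro r j t
  rw [col_eq hC.linked, colD, colOf]
  by_cases hrj : r < D.nroots ∧ j < D.rank + D.nroots
  swap
  · rw [show (Nat.blt r D.nroots && Nat.blt j (Nat.add D.rank D.nroots)) = false by
      rw [Bool.eq_false_iff]; simp [Nat.blt_eq]; omega, cond_false, List.map_nil, List.sum_nil,
      add_zero]
    rcases not_and_or.1 hrj with h | h
    · rw [x_eq_one (by omega), Matrix.one_mulVec]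
    · rw [basis_eq_zero D (by omega), Matrix.mulVec_zero]
  obtain ⟨hr, hj⟩ := hrj
  rw [show (Nat.blt r D.nroots && Nat.blt j (Nat.add D.rank D.nroots)) = true by
      simp [Nat.blt_eq]; omega, cond_true]
  by_cases hjl : j < D.rank
  · rw [show Nat.blt j D.rank = true by simp [Nat.blt_eq, hjl], cond_true, x_h hC hr hjl, nz,
      sub_eq_add_neg]
    congr 1
    by_cases h0 : D.cartan j r = 0
    · rw [h0, (isZ_iff _).2 neg_zero, cond_true]; simp
    · have hz : isZ (-D.cartan j r) = false :=
        Bool.eq_false_iff.2 (fun hb => h0 (neg_eq_zero.1 ((isZ_iff _).1 hb)))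
      rw [hz, cond_false]
      simp [ev]
  rw [show Nat.blt j D.rank = false by rw [Bool.eq_false_iff]; simp [Nat.blt_eq]; omega, cond_false]
  obtain ⟨s, rfl⟩ := Nat.exists_eq_add_of_le (Nat.le_of_not_lt hjl)
  simp only [Nat.sub_eq, Nat.add_sub_cancel_left]
  have hs : s < D.nroots := by omega
  by_cases h1 : s = r
  · subst h1
    rw [Nat.beq_refl, cond_true, List.map_nil, List.sum_nil, add_zero]
    exact x_self hC hr t
  rw [Bool.eq_false_iff.2 (fun hb => h1 (Nat.eq_of_beq_eq_true hb)), cond_false]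
  by_cases h2 : s = D.neg r
  · subst h2
    rw [Nat.beq_refl, cond_true]
    show D.x F r t *ᵥ ev D F (D.neg r) = _
    rw [x_neg hC hr]
    show _ = ev D F (D.neg r) + _
    rw [add_sub_assoc]
    congr 1
    have key : ∀ m, ((corTerms m (fun i => (D.coroot.getD r #[]).getD i 0)
        [(Nat.add D.rank r, 2, (-1 : ℤ))]).map
        fun e => ((e.2.2 : F) * t ^ e.2.1) • basis D F e.1).sum =
        t • (∑ i ∈ Finset.range m, (cor D r i : F) • eh D F i) - t ^ 2 • ev D F r := by
      intro m
      induction m with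
      | zero => simp [corTerms, ev]
      | succ m ih =>
        rw [Finset.sum_range_succ, smul_add]
        show ((bif isZ _ then corTerms m _ _ else _ :: corTerms m _ _).map _).sum = _
        by_cases h0 : cor D r m = 0
        · rw [(isZ_iff _).2 h0, cond_true, ih, h0]; simp
        · rw [Bool.eq_false_iff.2 (fun hb => h0 ((isZ_iff _).1 hb)), cond_false, List.map_cons,
            List.sum_cons, ih, pow_one, mul_comm, mul_smul]
          abel
    exact (key D.rank).symm
  rw [Bool.eq_false_iff.2 (fun hb => h2 (Nat.eq_of_beq_eq_true hb)), cond_false, steps_eq_chainVec]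
  exact x_chain hC hr hs h1 h2 t

end Cfsg.Agent.Chevalley.Columns
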