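import Cfsg.Agent.Lib.Chevalley.Relations

/-!
Conjugation between monomial and diagonal elements, and root elements under diagonal matrices.
-/

set_option autoImplicit false

open scoped Matrix

namespace Cfsg.Agent.Chevalley.Diag

open Cfsg.Lie Cfsg.Agent.Chevalley.Eval Cfsg.Agent.Chevalley.Table Cfsg.Agent.Chevalley.Check
  Cfsg.Agent.Chevalley.Cert Cfsg.Agent.Chevalley.Columns Cfsg.Agent.Chevalley.Root
  Cfsg.Agent.Chevalley.Relations

variable {D : ChevalleyDatum} {F : Type*} [Field F] {T : Tab} (hC : Certified D T)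
include hC

theorem n_conj_dMat {i : ℕ} (hi : i < D.rank) (χ : ℕ → F) :
    D.nMat F (D.simple i) 1 * dMat D F χ =
      dMat D F (fun s => χ (D.reflectRoot i s)) * D.nMat F (D.simple i) 1 := by
  refine ext_cols (fun j hj => ?_) (fun s hs => ?_)
  · rw [← Matrix.mulVec_mulVec, ← Matrix.mulVec_mulVec, dMat_h _ hj, n_h hC hi hj one_ne_zero,
      Matrix.mulVec_sub, Matrix.mulVec_smul, dMat_h _ hj, dMat_h _ hi]
  · rw [← Matrix.mulVec_mulVec, ← Matrix.mulVec_mulVec, dMat_v _ hs, Matrix.mulVec_smul,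
      n_one_v hC hi hs, Matrix.mulVec_smul, dMat_v _ (hC.reflect_lt hi hs), smul_smul, smul_smul,
      hC.reflect_reflect hi hs, mul_comm]

/-- The Cartan integers are linear along chains. -/
theorem cartan_chain {i r s : ℕ} (hi : i < D.rank) (hr : r < D.nroots) {k : ℕ} {q : ℕ × ℤ}
    (hq : (D.chainEntry r s)[k]? = some q) :
    D.cartan i q.1 = ((k : ℤ) + 1) * D.cartan i r + D.cartan i s := by
  have hs : s < D.nroots := (hC.chain_spec hr (by intro h; rw [h] at hq; simp at hq)).1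
  obtain ⟨hu, -, hphi⟩ := hC.chain_step hr hq
  obtain ⟨h1, -⟩ := chain_transport hC (m := k + 1) (by omega) hi hr hs
  have h2 : D.chainRoot r s (k + 1) = some q.1 := by
    rw [ChevalleyDatum.chainRoot, Nat.add_sub_cancel, hq]; rfl
  rw [h2, Option.map_some] at h1
  obtain ⟨q', hq', hq'e⟩ := Option.map_eq_some_iff.1 h1
  rw [Nat.add_sub_cancel] at hq'
  obtain ⟨-, -, hphi'⟩ := hC.chain_step (hC.reflect_lt hi hr) hq'
  rw [hq'e, hC.phi_reflect hi hu, hC.phi_reflect hi hr, hC.phi_reflect hi hs, hphi] at hphi'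
  have hp := hC.phi_simple hi
  have key : (D.cartan i q.1 - (((k : ℤ) + 1) * D.cartan i r + D.cartan i s)) *
      T.phi (D.simple i) = 0 := by linear_combination -hphi'
  rcases mul_eq_zero.1 key with h | h
  · omega
  · omega

/-- A multiplicative function on roots. -/
def IsMulChar (D : ChevalleyDatum) (F : Type*) [Field F] (χ : ℕ → F) : Prop :=
  (∀ r < D.nroots, χ (D.neg r) * χ r = 1) ∧
    ∀ r < D.nroots, ∀ s : ℕ, ∀ (k : ℕ) (q : ℕ × ℤ), (D.chainEntry r s)[k]? = some q →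
      χ q.1 = χ r ^ (k + 1) * χ s

theorem dMat_chainVec {χ : ℕ → F} {r s : ℕ} (hr : r < D.nroots)
    (hχ : IsMulChar D F χ) (t : F) :
    ∀ (L : List (ℕ × ℤ)) (k : ℕ),
      (∀ (m : ℕ) (q : ℕ × ℤ), L[m]? = some q → q.1 < D.nroots ∧ χ q.1 = χ r ^ (k + m) * χ s) →
      dMat D F χ *ᵥ chainVec D F t k L = χ s • chainVec D F (χ r * t) k L := by
  intro L
  induction L with
  | nil => intro k _; simp [chainVec]
  | cons q L ih =>
    intro k h
    obtain ⟨hq, hχq⟩ := h 0 q rfl
    rw [add_zero] at hχq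
    simp only [chainVec, Matrix.mulVec_add, Matrix.mulVec_smul, dMat_v _ hq, smul_add, smul_smul]
    rw [ih (k + 1) fun m x hx => by
      obtain ⟨h1, h2⟩ := h (m + 1) x (by simpa using hx)
      exact ⟨h1, by rw [h2]; congr 2; omega⟩]
    congr 2
    rw [hχq, mul_pow]
    ring

/-- Conjugation of root elements by diagonal matrices. -/
theorem dMat_conj_x {χ : ℕ → F} (hχ : IsMulChar D F χ) {r : ℕ} (hr : r < D.nroots) (t : F) :
    dMat D F χ * D.x F r t = D.x F r (χ r * t) * dMat D F χ := by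
  refine ext_cols (fun j hj => ?_) (fun s hs => ?_)
  · rw [← Matrix.mulVec_mulVec, ← Matrix.mulVec_mulVec, dMat_h _ hj, x_h hC hr hj, x_h hC hr hj,
      Matrix.mulVec_sub, Matrix.mulVec_smul, dMat_h _ hj, dMat_v _ hr, smul_smul]
    congr 2
    ring
  rw [← Matrix.mulVec_mulVec, ← Matrix.mulVec_mulVec, dMat_v _ hs, Matrix.mulVec_smul]
  by_cases h1 : s = r
  · subst h1
    rw [x_self hC hr, x_self hC hr, dMat_v _ hr]
  by_cases h2 : s = D.neg r
  · subst h2
    rw [x_neg hC hr, x_neg hC hr, Matrix.mulVec_sub, Matrix.mulVec_add, Matrix.mulVec_smul,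
      Matrix.mulVec_smul, Matrix.mulVec_sum, dMat_v _ (hC.neg_lt hr), dMat_v _ hr, smul_sub,
      smul_add, smul_smul, smul_smul, smul_smul]
    have hsum : ∑ j ∈ Finset.range D.rank, dMat D F χ *ᵥ ((cor D r j : F) • eh D F j) =
        ∑ j ∈ Finset.range D.rank, (cor D r j : F) • eh D F j :=
      Finset.sum_congr rfl fun j hj => by
        rw [Matrix.mulVec_smul, dMat_h _ (Finset.mem_range.1 hj)]
    rw [hsum]
    congr 2
    · congr 1
      rw [← mul_assoc, hχ.1 r hr, one_mul]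
    · linear_combination (-(χ r * t ^ 2)) * hχ.1 r hr
  rw [x_chain hC hr hs h1 h2, x_chain hC hr hs h1 h2, Matrix.mulVec_add, dMat_v _ hs, smul_add]
  congr 1
  refine dMat_chainVec hC (r := r) (s := s) hr hχ t _ 1 fun m q hq => ?_
  exact ⟨(hC.chain_step hr hq).1, by rw [hχ.2 r hr s m q hq, add_comm 1 m]⟩

/-- The characters `s ↦ c ^ A_{p_i,s}`. -/
theorem cartanChar_isMulChar {i : ℕ} (hi : i < D.rank) {c : F} (hc : c ≠ 0) :
    IsMulChar D F (fun s => c ^ D.cartan i s) := by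
  refine ⟨fun r hr => ?_, fun r hr s k q hq => ?_⟩ <;> dsimp only
  · rw [hC.cartan_neg hr hi, ← zpow_add₀ hc, neg_add_cancel, zpow_zero]
  · rw [cartan_chain hC hi hr hq, zpow_add₀ hc, mul_comm ((k : ℤ) + 1) _, zpow_mul,
      show ((k : ℤ) + 1) = ((k + 1 : ℕ) : ℤ) by push_cast; ring, zpow_natCast]

theorem pair_chain {r a s : ℕ} (ha : a < D.nroots) {k : ℕ} {q : ℕ × ℤ}
    (hq : (D.chainEntry a s)[k]? = some q) :
    pair D r q.1 = ((k : ℤ) + 1) * pair D r a + pair D r s := by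
  rw [pair, pair, pair, Finset.mul_sum, ← Finset.sum_add_distrib]
  refine Finset.sum_congr rfl fun j hj => ?_
  rw [cartan_chain hC (Finset.mem_range.1 hj) ha hq]
  ring

/-- The characters `s ↦ c ^ ⟨h_r, s⟩`. -/
theorem pairChar_isMulChar (r : ℕ) {c : F} (hc : c ≠ 0) :
    IsMulChar D F (fun s => c ^ pair D r s) := by
  refine ⟨fun a ha => ?_, fun a ha s k q hq => ?_⟩ <;> dsimp only
  · have h : pair D r (D.neg a) = -pair D r a := by
      rw [pair, pair, ← Finset.sum_neg_distrib]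
      refine Finset.sum_congr rfl fun j hj => ?_
      rw [hC.cartan_neg ha (Finset.mem_range.1 hj)]
      ring
    rw [h, ← zpow_add₀ hc, neg_add_cancel, zpow_zero]
  · rw [pair_chain hC ha hq, zpow_add₀ hc, mul_comm ((k : ℤ) + 1) _, zpow_mul,
      show ((k : ℤ) + 1) = ((k + 1 : ℕ) : ℤ) by push_cast; ring, zpow_natCast]

end Cfsg.Agent.Chevalley.Diag
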