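import Mathlib
import Cfsg.Prelude.Def_ChevStructure

/-!
A symbolic evaluator for words in root elements of a Chevalley datum, with its soundness proof.
Vectors are formal sums of terms `c t^a u^b e_idx` with integer coefficients.
-/

set_option autoImplicit false

open scoped Matrix

namespace Cfsg.Agent.Chevalley.Eval

open Cfsg.Lie

/-- A term `c * t ^ a * u ^ b` in the coordinate with number `idx`. -/
structure Term where
  idx : ℕ
  a : ℕ
  b : ℕ
  c : ℤ

/-- A letter `x_r(c * t ^ a * u ^ b)`. -/
structure Letter where
  r : ℕ
  a : ℕ
  b : ℕ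
  c : ℤ

/-- Off-diagonal column data: `col r j` lists `(i, k, z)`: `x_r(s)` sends `e_j` to `e_j + Σ z s^k e_i`. -/
abbrev Col := ℕ → ℕ → List (ℕ × ℕ × ℤ)

/-- Integer powers by structural recursion. -/
noncomputable def zpw (c : ℤ) (k : ℕ) : ℤ :=
  Nat.rec (Int.ofNat 1) (fun _ ih => Int.mul c ih) k

theorem zpw_eq (c : ℤ) (k : ℕ) : zpw c k = c ^ k := by
  induction k with
  | zero => rw [pow_zero]; rfl
  | succ k ih =>
    show c * zpw c k = _
    rw [ih, pow_succ']

/-- Insert a term, merging with an equal monomial in the same coordinate. -/
noncomputable def insertTerm (T : Term) (L : List Term) : List Term :=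
  List.rec [T] (fun S L ih =>
    bif Nat.beq S.idx T.idx && (Nat.beq S.a T.a && Nat.beq S.b T.b) then
      ⟨S.idx, S.a, S.b, Int.add S.c T.c⟩ :: L
    else S :: ih) L

/-- Is the coefficient zero? -/
def isZ : ℤ → Bool
  | Int.ofNat 0 => true
  | _ => false

theorem isZ_iff (z : ℤ) : isZ z = true ↔ z = 0 := by
  cases z with
  | ofNat n =>
    cases n with
    | zero => exact iff_of_true rfl rfl
    | succ m => simp only [isZ, Bool.false_eq_true, false_iff, Int.ofNat_eq_natCast]; omega
  | negSucc n => simp [isZ]

/-- Merge equal monomials and drop zero terms. -/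
noncomputable def norm (L : List Term) : List Term :=
  List.rec [] (fun S _ ih => bif isZ S.c then ih else S :: ih)
    (List.rec [] (fun S _ ih => insertTerm S ih) L : List Term)

/-- The image of one term under one letter. -/
noncomputable def actTerm (col : Col) (l : Letter) (T : Term) (rest : List Term) : List Term :=
  T :: List.rec rest (fun e _ ih =>
    ⟨e.1, Nat.add T.a (Nat.mul e.2.1 l.a), Nat.add T.b (Nat.mul e.2.1 l.b),
      Int.mul T.c (Int.mul e.2.2 (zpw l.c e.2.1))⟩ :: ih) (col l.r T.idx)

/-- The image of a formal vector under one letter. -/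
noncomputable def act (col : Col) (l : Letter) (L : List Term) : List Term :=
  List.rec [] (fun T _ ih => actTerm col l T ih) L

/-- The image of a formal vector under a word, rightmost letter first. -/
noncomputable def actWord (col : Col) (w : List Letter) (L : List Term) : List Term :=
  List.rec L (fun l _ ih => act col l ih) w

/-- Negate a formal vector and prepend it. -/
noncomputable def negTerms (L : List Term) (rest : List Term) : List Term :=
  List.rec rest (fun T _ ih => ⟨T.idx, T.a, T.b, Int.neg T.c⟩ :: ih) L

/-- `∀ i < n`. -/
noncomputable def allR (n : ℕ) (p : ℕ → Bool) : Bool :=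
  Nat.rec true (fun i ih => bif p i then ih else false) n

theorem of_allR {n : ℕ} {p : ℕ → Bool} (h : allR n p = true) : ∀ i < n, p i = true := by
  induction n with
  | zero => omega
  | succ n ih =>
    intro i hi
    have h' : (bif p n then allR n p else false) = true := h
    cases hp : p n with
    | false => rw [hp] at h'; exact absurd h' (by simp)
    | true =>
      rw [hp, cond_true] at h'
      rcases Nat.lt_succ_iff_lt_or_eq.1 hi with hi | rfl
      exacts [ih h' i hi, hp]

/-- Cancel `t * u = 1`. -/
def cancel (T : Term) : Term :=
  bif Nat.ble T.a T.b then ⟨T.idx, 0, T.b - T.a, T.c⟩ else ⟨T.idx, T.a - T.b, 0, T.c⟩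

/-- Two formal vectors agree identically. -/
noncomputable def same (L L' : List Term) : Bool := (norm (negTerms L' L)).isEmpty

/-- Two formal vectors agree modulo `t * u = 1`. -/
noncomputable def sameInv (L L' : List Term) : Bool :=
  (norm (List.rec [] (fun T _ ih => cancel T :: ih) (negTerms L' L))).isEmpty

section Sound

variable (D : ChevalleyDatum) {F : Type*} [Field F] (t u : F)

/-- The number of a coordinate. -/
def code : D.Idx → ℕ := Sum.elim (fun i => (i : ℕ)) (fun s => D.rank + s)

theorem code_injective : Function.Injective (code D) := by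
  rintro (i | i) (j | j) h <;> simp only [code, Sum.elim_inl, Sum.elim_inr] at h
  · exact congrArg Sum.inl (Fin.ext h)
  · exfalso; have := i.2; omega
  · exfalso; have := j.2; omega
  · exact congrArg Sum.inr (Fin.ext (by omega))

theorem code_lt (i : D.Idx) : code D i < D.rank + D.nroots := by
  rcases i with i | i <;> simp only [code, Sum.elim_inl, Sum.elim_inr] <;> omega

/-- The basis vector with a given number (zero if out of range). -/
def basis (F : Type*) [Field F] (j : ℕ) : D.Idx → F := fun i => if code D i = j then 1 else 0

theorem basis_code (j : D.Idx) : basis D F (code D j) = Pi.single j 1 := by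
  funext i
  simp [basis, Pi.single_apply, (code_injective D).eq_iff]

theorem basis_eq_zero {j : ℕ} (h : D.rank + D.nroots ≤ j) : basis D F j = 0 := by
  funext i
  have := code_lt D i
  simp only [basis, Pi.zero_apply, ite_eq_right_iff]
  omega

theorem exists_code {j : ℕ} (h : j < D.rank + D.nroots) : ∃ i : D.Idx, code D i = j := by
  by_cases hj : j < D.rank
  · exact ⟨Sum.inl ⟨j, hj⟩, rfl⟩
  · exact ⟨Sum.inr ⟨j - D.rank, by omega⟩, by simp [code]; omega⟩

/-- The value of a monomial. -/
def mval (T : Term) : F := (T.c : F) * t ^ T.a * u ^ T.b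

/-- The value of a formal vector. -/
def vec (L : List Term) : D.Idx → F := (L.map fun T => mval t u T • basis D F T.idx).sum

/-- The value of a letter's parameter. -/
def lval (l : Letter) : F := (l.c : F) * t ^ l.a * u ^ l.b

theorem vec_nil : vec D t u [] = 0 := rfl

theorem vec_cons (T : Term) (L : List Term) :
    vec D t u (T :: L) = mval t u T • basis D F T.idx + vec D t u L := by simp [vec]

theorem vec_append (L L' : List Term) : vec D t u (L ++ L') = vec D t u L + vec D t u L' := by
  simp [vec]

theorem vec_flatMap (f : Term → List Term) (L : List Term) :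
    vec D t u (L.flatMap f) = (L.map fun T => vec D t u (f T)).sum := by
  induction L with
  | nil => rfl
  | cons T L ih => rw [List.flatMap_cons, vec_append, ih, List.map_cons, List.sum_cons]

theorem vec_negTerms (L rest : List Term) :
    vec D t u (negTerms L rest) = vec D t u rest - vec D t u L := by
  induction L with
  | nil =>
    show vec D t u rest = _
    simp [vec_nil]
  | cons T L ih =>
    show vec D t u (⟨T.idx, T.a, T.b, Int.neg T.c⟩ :: negTerms L rest) = _
    rw [vec_cons, ih, vec_cons]
    simp only [mval, show Int.neg T.c = -T.c from rfl, Int.cast_neg, neg_mul, neg_smul]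
    abel

theorem vec_insertTerm (T : Term) (L : List Term) :
    vec D t u (insertTerm T L) = mval t u T • basis D F T.idx + vec D t u L := by
  induction L with
  | nil => exact vec_cons D t u T []
  | cons S L ih =>
    show vec D t u (bif Nat.beq S.idx T.idx && (Nat.beq S.a T.a && Nat.beq S.b T.b) then
      ⟨S.idx, S.a, S.b, Int.add S.c T.c⟩ :: L else S :: insertTerm T L) = _
    by_cases hc : (Nat.beq S.idx T.idx && (Nat.beq S.a T.a && Nat.beq S.b T.b)) = true
    · rw [hc, cond_true]
      simp only [Bool.and_eq_true, Nat.beq_eq] at hc
      obtain ⟨h1, h2, h3⟩ := hc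
      rw [vec_cons, vec_cons, ← add_assoc]
      congr 1
      simp only [mval, show Int.add S.c T.c = S.c + T.c from rfl]
      rw [h1, h2, h3, ← add_smul]
      push_cast
      ring_nf
    · rw [Bool.eq_false_iff.2 hc, cond_false, vec_cons, vec_cons, ih]
      abel

theorem vec_norm (L : List Term) : vec D t u (norm L) = vec D t u L := by
  have h1 : ∀ L : List Term,
      vec D t u (List.rec [] (fun S _ ih => bif isZ S.c then ih else S :: ih) L : List Term)
        = vec D t u L := by
    intro L
    induction L with
    | nil => rfl
    | cons T L ih =>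
      show vec D t u (bif isZ T.c then _ else T :: _) = _
      by_cases h : T.c = 0
      · rw [(isZ_iff _).2 h, cond_true, ih, vec_cons]
        simp [mval, h]
      · rw [Bool.eq_false_iff.2 (fun hh => h ((isZ_iff _).1 hh)), cond_false, vec_cons, vec_cons, ih]
  rw [norm, h1]
  induction L with
  | nil => rfl
  | cons T L ih =>
    show vec D t u (insertTerm T _) = _
    rw [vec_insertTerm, ih, vec_cons]

/-- `col` describes the matrices of `D`. -/
def ColValid (D : ChevalleyDatum) (F : Type*) [Field F] (col : Col) : Prop :=
  ∀ (r j : ℕ) (s : F), D.x F r s *ᵥ basis D F j =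
    basis D F j + ((col r j).map fun e => ((e.2.2 : F) * s ^ e.2.1) • basis D F e.1).sum

variable {D} {col : Col}

theorem vec_actTerm (h : ColValid D F col) (l : Letter) (T : Term) (rest : List Term) :
    vec D t u (actTerm col l T rest) =
      D.x F l.r (lval t u l) *ᵥ (mval t u T • basis D F T.idx) + vec D t u rest := by
  rw [Matrix.mulVec_smul, h, smul_add, actTerm, vec_cons, add_assoc]
  congr 1
  generalize col l.r T.idx = es
  induction es with
  | nil =>
    show vec D t u rest = _
    simp
  | cons e es ih =>
    show vec D t u (⟨e.1, _, _, _⟩ :: _) = _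
    rw [vec_cons, ih, List.map_cons, List.sum_cons, smul_add, smul_smul, add_assoc]
    congr 2
    simp only [mval, lval, show ∀ a b : ℤ, Int.mul a b = a * b from fun _ _ => rfl, zpw_eq,
      Nat.mul_eq, Nat.add_eq]
    push_cast
    ring

theorem vec_act (h : ColValid D F col) (l : Letter) (L : List Term) :
    vec D t u (act col l L) = D.x F l.r (lval t u l) *ᵥ vec D t u L := by
  induction L with
  | nil => simp [act, vec]
  | cons T L ih =>
    show vec D t u (actTerm col l T (act col l L)) = _
    rw [vec_actTerm t u h, ih, vec_cons, Matrix.mulVec_add]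

/-- The word in root elements denoted by a list of letters. -/
def wordVal (w : List Letter) : List (ℕ × F) := w.map fun l => (l.r, lval t u l)

theorem vec_actWord (h : ColValid D F col) (w : List Letter) (L : List Term) :
    vec D t u (actWord col w L) = D.wordMat F (wordVal t u w) *ᵥ vec D t u L := by
  induction w with
  | nil => simp [actWord, wordVal, ChevalleyDatum.wordMat]
  | cons l w ih =>
    show vec D t u (act col l (actWord col w L)) = _
    rw [vec_act t u h, ih, Matrix.mulVec_mulVec]
    simp [wordVal, ChevalleyDatum.wordMat]

variable (D)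

theorem vec_eq_of_same {L L' : List Term} (h : same L L' = true) :
    vec D t u L = vec D t u L' := by
  have h1 := vec_norm D t u (negTerms L' L)
  rw [same, List.isEmpty_iff] at h
  rw [h, vec_nil, vec_negTerms, eq_comm, sub_eq_zero] at h1
  exact h1

theorem mval_cancel (htu : t * u = 1) (T : Term) : mval t u (cancel T) = mval t u T := by
  simp only [cancel]
  by_cases h : T.a ≤ T.b
  · rw [Nat.ble_eq_true_of_le h, cond_true, mval, mval]
    simp only [pow_zero, mul_one]
    obtain ⟨k, hk⟩ := Nat.exists_eq_add_of_le h
    rw [hk, Nat.add_sub_cancel_left, pow_add, mul_assoc (T.c : F) (t ^ T.a), ← mul_assoc (t ^ T.a),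
      ← mul_pow, htu, one_pow, one_mul]
  · rw [Bool.eq_false_iff.2 (fun hb => h (Nat.le_of_ble_eq_true hb)), cond_false, mval, mval]
    simp only [pow_zero, mul_one]
    obtain ⟨k, hk⟩ := Nat.exists_eq_add_of_le (Nat.le_of_not_le h)
    rw [hk, Nat.add_sub_cancel_left, pow_add, mul_assoc (T.c : F), mul_comm (t ^ T.b) (t ^ k),
      mul_assoc (t ^ k), ← mul_pow, htu, one_pow, mul_one]

theorem cancel_idx (T : Term) : (cancel T).idx = T.idx := by
  simp only [cancel]
  by_cases h : Nat.ble T.a T.b = true
  · rw [h]; rfl
  · rw [Bool.eq_false_iff.2 h]; rfl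

theorem vec_eq_of_sameInv (htu : t * u = 1) {L L' : List Term} (h : sameInv L L' = true) :
    vec D t u L = vec D t u L' := by
  have hmap : ∀ M : List Term,
      vec D t u (List.rec [] (fun T _ ih => cancel T :: ih) M : List Term) = vec D t u M := by
    intro M
    induction M with
    | nil => rfl
    | cons T M ih =>
      show vec D t u (cancel T :: _) = _
      rw [vec_cons, ih, mval_cancel t u htu, cancel_idx, vec_cons]
  rw [sameInv, List.isEmpty_iff] at h
  have h1 := vec_norm D t u (List.rec [] (fun T _ ih => cancel T :: ih) (negTerms L' L) : List Term)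
  rw [h, vec_nil, hmap, vec_negTerms, eq_comm, sub_eq_zero] at h1
  exact h1

/-- The formal basis vector. -/
def unit (j : ℕ) : List Term := [⟨j, 0, 0, 1⟩]

theorem vec_unit (j : ℕ) : vec D t u (unit j) = basis D F j := by
  simp [unit, vec, mval]

/-- A matrix identity may be checked column by column. -/
theorem matrix_ext {A B : Matrix D.Idx D.Idx F}
    (h : ∀ j < D.rank + D.nroots, A *ᵥ basis D F j = B *ᵥ basis D F j) : A = B := by
  ext i j
  have := congrFun (h (code D j) (code_lt D j)) i
  rwa [basis_code, Matrix.mulVec_single_one, Matrix.mulVec_single_one, Matrix.col_apply,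
    Matrix.col_apply] at this

/-- Check that two words agree as matrices. -/
noncomputable def sameWords (col : Col) (dim : ℕ) (w w' : List Letter) : Bool :=
  allR dim fun j => same (actWord col w (unit j)) (actWord col w' (unit j))

theorem wordMat_eq_of_sameWords (h : ColValid D F col) {w w' : List Letter}
    (hs : sameWords col (D.rank + D.nroots) w w' = true) :
    D.wordMat F (wordVal t u w) = D.wordMat F (wordVal t u w') := by
  refine matrix_ext D fun j hj => ?_
  have := vec_eq_of_same D t u (of_allR hs j hj)
  rwa [vec_actWord t u h, vec_actWord t u h, vec_unit] at this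

end Sound

end Cfsg.Agent.Chevalley.Eval
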