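import Cfsg.Agent.Lib.Chevalley.Borel

/-!
Gradings of the adjoint module by linear forms on the roots.
-/

set_option autoImplicit false

open scoped Matrix

namespace Cfsg.Agent.Chevalley.Graded

open Cfsg.Lie Cfsg.Agent.Chevalley.Eval Cfsg.Agent.Chevalley.Table Cfsg.Agent.Chevalley.Check
  Cfsg.Agent.Chevalley.Cert Cfsg.Agent.Chevalley.Columns Cfsg.Agent.Chevalley.Root
  Cfsg.Agent.Chevalley.Relations Cfsg.Agent.Chevalley.Diag Cfsg.Agent.Chevalley.Group
  Cfsg.Agent.Chevalley.Weight Cfsg.Agent.Chevalley.Unip Cfsg.Agent.Chevalley.Borel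

variable {D : ChevalleyDatum} {F : Type*} [Field F] {T : Tab}

/-- A linear form on the roots. -/
def lin (D : ChevalleyDatum) (a : ℕ → ℤ) (r : ℕ) : ℤ := ∑ j ∈ Finset.range D.rank, a j * D.cartan j r

/-- The degree of a coordinate. -/
def deg (D : ChevalleyDatum) (a : ℕ → ℤ) : D.Idx → ℤ :=
  Sum.elim (fun _ => 0) (fun s => lin D a s)

/-- Matrices of degree zero. -/
def Homog (D : ChevalleyDatum) (a : ℕ → ℤ) (A : Matrix D.Idx D.Idx F) : Prop :=
  ∀ i j, A i j ≠ 0 → deg D a i = deg D a j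

variable (hC : Certified D T)
include hC

theorem lin_neg (a : ℕ → ℤ) {r : ℕ} (hr : r < D.nroots) : lin D a (D.neg r) = -lin D a r := by
  rw [lin, lin, ← Finset.sum_neg_distrib]
  exact Finset.sum_congr rfl fun j hj => by rw [hC.cartan_neg hr (Finset.mem_range.1 hj)]; ring

theorem lin_chain (a : ℕ → ℤ) {r s : ℕ} (hr : r < D.nroots) {k : ℕ} {q : ℕ × ℤ}
    (hq : (D.chainEntry r s)[k]? = some q) :
    lin D a q.1 = ((k : ℤ) + 1) * lin D a r + lin D a s := by
  rw [lin, lin, lin, Finset.mul_sum, ← Finset.sum_add_distrib]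
  exact Finset.sum_congr rfl fun j hj => by
    rw [cartan_chain hC (Finset.mem_range.1 hj) hr hq]; ring

theorem lin_reflect (a : ℕ → ℤ) {i r : ℕ} (hi : i < D.rank) (hr : r < D.nroots) :
    lin D a (D.reflectRoot i r) = lin D a r - D.cartan i r * lin D a (D.simple i) := by
  rw [lin, lin, lin, Finset.mul_sum, ← Finset.sum_sub_distrib]
  exact Finset.sum_congr rfl fun j hj => by
    rw [hC.cartan_reflect hi (Finset.mem_range.1 hj) hr]; ring

theorem lin_commTerms (a : ℕ → ℤ) {r s : ℕ} (hr : r < D.nroots) (hs : s < D.nroots) :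
    ∀ c ∈ D.commTerms r s, ∃ i j : ℕ, 1 ≤ i ∧ 1 ≤ j ∧
      lin D a c.1 = i * lin D a r + j * lin D a s := by
  intro c hc
  have hroot : ∀ {x y m k : ℕ}, x < D.nroots → D.chainRoot x y m = some k →
      lin D a k = ((m - 1 : ℕ) + 1 : ℤ) * lin D a x + lin D a y := by
    intro x y m k hx h
    obtain ⟨q, hq, rfl⟩ := Option.map_eq_some_iff.1 h
    exact lin_chain hC a hx hq
  simp only [ChevalleyDatum.commTerms, List.mem_filterMap] at hc
  obtain ⟨x, hx, hxc⟩ := hc
  obtain ⟨k, hk, rfl⟩ := Option.map_eq_some_iff.1 hxc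
  simp only [List.mem_cons, List.not_mem_nil, or_false] at hx
  rcases hx with rfl | rfl | rfl | rfl | rfl | rfl | rfl
  · exact ⟨1, 1, le_rfl, le_rfl, by rw [hroot hr hk]; norm_num⟩
  · exact ⟨2, 1, by omega, le_rfl, by rw [hroot hr hk]; norm_num⟩
  · exact ⟨1, 2, le_rfl, by omega, by rw [hroot hs hk]; norm_num; ring⟩
  · exact ⟨3, 1, by omega, le_rfl, by rw [hroot hr hk]; norm_num⟩
  · exact ⟨1, 3, le_rfl, by omega, by rw [hroot hs hk]; norm_num; ring⟩
  · obtain ⟨m, hm, hmk⟩ := Option.bind_eq_some_iff.1 hk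
    exact ⟨3, 2, by omega, by omega, by
      rw [hroot (chainRoot_lt hC hr hm) hmk, hroot hr hm]; norm_num; ring⟩
  · obtain ⟨m, hm, hmk⟩ := Option.bind_eq_some_iff.1 hk
    exact ⟨2, 3, by omega, by omega, by
      rw [hroot (chainRoot_lt hC hs hm) hmk, hroot hs hm]; norm_num; ring⟩

omit hC in
theorem chainVec_support (t : F) : ∀ (L : List (ℕ × ℤ)) (k : ℕ) (u : Fin D.nroots),
    chainVec D F t k L (Sum.inr u) ≠ 0 → ∃ (m : ℕ) (q : ℕ × ℤ), L[m]? = some q ∧ q.1 = u := by
  intro L
  induction L with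
  | nil => intro k u h; exact absurd rfl h
  | cons q L ih =>
    intro k u h
    by_cases hq : q.1 = u
    · exact ⟨0, q, rfl, hq⟩
    · simp only [chainVec, Pi.add_apply, Pi.smul_apply, ev_inr, if_neg (Ne.symm hq), smul_zero,
        zero_add] at h
      obtain ⟨m, q', h1, h2⟩ := ih (k + 1) u h
      exact ⟨m + 1, q', by simpa using h1, h2⟩

/-- An off-diagonal entry of a root element shifts the degree by a multiple of the root's. -/
theorem x_deg (a : ℕ → ℤ) {r : ℕ} (hr : r < D.nroots) {t : F} {i j : D.Idx}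
    (h : (D.x F r t - 1) i j ≠ 0) :
    ∃ k : ℕ, 1 ≤ k ∧ deg D a i - deg D a j = k * lin D a r := by
  have hcol : ∀ (v : D.Idx), D.x F r t v j = (D.x F r t *ᵥ Pi.single j (1 : F)) v := fun v => by
    rw [Matrix.mulVec_single_one]; rfl
  rw [Matrix.sub_apply, hcol] at h
  rcases j with j | s
  · rw [← eh_eq j.2, x_h hC hr j.2, Pi.sub_apply, Pi.smul_apply, eh_eq j.2] at h
    rcases i with i | u
    · rw [ev_inl, smul_zero, sub_zero, Pi.single_apply, Matrix.one_apply] at h
      simp at h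
    · rw [ev_inr] at h
      by_cases hu : (u : ℕ) = r
      · refine ⟨1, le_rfl, ?_⟩
        simp [deg, hu]
      · simp [hu] at h
  · by_cases hsr : (s : ℕ) = r
    · exfalso
      rw [show (Pi.single (Sum.inr s) 1 : D.Idx → F) = ev D F r by
        rw [ev_eq hr]; congr 2; exact Fin.ext hsr, x_self hC hr, ev_eq hr,
        show (⟨r, hr⟩ : Fin D.nroots) = s from Fin.ext hsr.symm, Pi.single_apply,
        Matrix.one_apply] at h
      simp at h
    by_cases hsn : (s : ℕ) = D.neg r
    · rw [show (Pi.single (Sum.inr s) 1 : D.Idx → F) = ev D F (D.neg r) by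
        rw [ev_eq (hC.neg_lt hr)]; congr 2; exact Fin.ext hsn, x_neg hC hr] at h
      have hd : deg D a (Sum.inr s) = -lin D a r := by
        show lin D a s = _
        rw [hsn, lin_neg hC a hr]
      rcases i with i | u
      · refine ⟨1, le_rfl, ?_⟩
        rw [hd]; simp [deg]
      · simp only [Pi.sub_apply, Pi.add_apply, Pi.smul_apply, Finset.sum_apply, ev_inr] at h
        rw [Finset.sum_eq_zero fun m hm => by rw [eh_eq (Finset.mem_range.1 hm)]; simp] at h
        by_cases hu : (u : ℕ) = r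
        · refine ⟨2, by omega, ?_⟩
          rw [hd]; simp [deg, hu]; ring
        · exfalso
          by_cases hus : u = s
          · subst hus; simp [hsn, hC.neg_ne hr] at h
          · have hu' : (u : ℕ) ≠ D.neg r := fun e => hus (Fin.ext (e.trans hsn.symm))
            simp [hu, hus, hu'] at h
    · rw [← ev_eq s.2, x_chain hC hr s.2 hsr hsn, Pi.add_apply, ev_eq s.2, Pi.single_apply,
        Matrix.one_apply, add_sub_cancel_left] at h
      rcases i with i | u
      · rw [chainVec_inl] at h; exact absurd rfl h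
      · obtain ⟨m, q, hq, hqu⟩ := chainVec_support t _ _ _ h
        refine ⟨m + 1, by omega, ?_⟩
        show lin D a u - lin D a s = _
        rw [← hqu, lin_chain hC a hr hq]
        push_cast
        ring

theorem x_homog (a : ℕ → ℤ) {r : ℕ} (hr : r < D.nroots) (h0 : lin D a r = 0) (t : F) :
    Homog D a (D.x F r t) := by
  intro i j h
  by_cases hij : i = j
  · rw [hij]
  · obtain ⟨k, -, hk⟩ := x_deg hC a hr (t := t) (i := i) (j := j) (by
      rwa [Matrix.sub_apply, Matrix.one_apply_ne hij, sub_zero])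
    rw [h0, mul_zero] at hk
    omega

/-- The subgroup of elements of degree zero. -/
def homogSubgroup (a : ℕ → ℤ) : Subgroup (GL D.Idx F) where
  carrier := {g | Homog D a (g : Matrix D.Idx D.Idx F) ∧ Homog D a (↑g⁻¹ : Matrix D.Idx D.Idx F)}
  one_mem' := by
    refine ⟨?_, ?_⟩ <;>
    · intro i j h
      by_contra hij
      exact h (by simp [Matrix.one_apply_ne (fun e : i = j => hij (by rw [e]))])
  inv_mem' h := ⟨h.2, by simpa using h.1⟩
  mul_mem' := by
    have key : ∀ {A B : Matrix D.Idx D.Idx F}, Homog D a A → Homog D a B → Homog D a (A * B) := by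
      intro A B hA hB i j h
      rw [Matrix.mul_apply] at h
      obtain ⟨k, -, hk⟩ := Finset.exists_ne_zero_of_sum_ne_zero h
      rw [hA i k (left_ne_zero_of_mul hk), hB k j (right_ne_zero_of_mul hk)]
    intro g g' hg hg'
    exact ⟨by rw [Units.val_mul]; exact key hg.1 hg'.1,
      by rw [mul_inv_rev, Units.val_mul]; exact key hg'.2 hg.2⟩

theorem xg_mem_homog (a : ℕ → ℤ) {r : ℕ} (hr : r < D.nroots) (h0 : lin D a r = 0) (t : F) :
    xg hC r t ∈ homogSubgroup (D := D) (F := F) a :=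
  ⟨x_homog hC a hr h0 t, by rw [xg_inv hC]; exact x_homog hC a hr h0 (-t)⟩

theorem H_le_homog (a : ℕ → ℤ) : D.diagonalSubgroup F ≤ homogSubgroup (D := D) (F := F) a := by
  intro h hh
  refine ⟨fun i j hij => ?_, fun i j hij => ?_⟩
  · by_cases e : i = j
    · rw [e]
    · exact absurd (H_apply_ne hC hh e) hij
  · by_cases e : i = j
    · rw [e]
    · exact absurd (H_apply_ne hC (inv_mem hh) e) hij

theorem xg_mem_UT_deg (a : ℕ → ℤ) {r : ℕ} (hr : r < D.nroots) (h0 : 1 ≤ lin D a r) (t : F) :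
    xg hC r t ∈ UT (deg D a) 1 zero_le_one := by
  have key : ∀ u : F, Fil (deg D a) 1 (D.x F r u - 1) := by
    intro u i j hij
    obtain ⟨k, hk, hkd⟩ := x_deg hC a hr hij
    rw [hkd]
    have h1 : (1 : ℤ) ≤ k := by exact_mod_cast hk
    nlinarith
  exact ⟨key t, by rw [xg_inv hC]; exact key (-t)⟩

theorem homog_inf_UT (a : ℕ → ℤ) {g : GL D.Idx F} (h1 : g ∈ homogSubgroup (D := D) (F := F) a)
    (h2 : g ∈ UT (deg D a) 1 zero_le_one) : g = 1 := by
  apply Units.ext
  ext i j
  rw [Units.val_one]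
  by_contra hne
  have h3 := h2.1 i j (by rw [Matrix.sub_apply]; exact sub_ne_zero.2 hne)
  by_cases hij : i = j
  · subst hij; omega
  · rw [Matrix.one_apply_ne hij] at hne
    have := h1.1 i j hne
    omega

end Cfsg.Agent.Chevalley.Graded
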