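import Cfsg.Agent.Lib.Chevalley.Diag

/-!
Root elements, torus elements and monomial elements as members of the general linear group; the
structure of `H` and `N`.
-/

set_option autoImplicit false

open scoped Matrix

namespace Cfsg.Agent.Chevalley.Group

open Cfsg.Lie Cfsg.Agent.Chevalley.Eval Cfsg.Agent.Chevalley.Table Cfsg.Agent.Chevalley.Check
  Cfsg.Agent.Chevalley.Cert Cfsg.Agent.Chevalley.Columns Cfsg.Agent.Chevalley.Root
  Cfsg.Agent.Chevalley.Relations Cfsg.Agent.Chevalley.Diag

variable {D : ChevalleyDatum} {F : Type*} [Field F] {T : Tab}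

/-- `x_r(t)` in the general linear group. -/
def xg (hC : Certified D T) (r : ℕ) (t : F) : GL D.Idx F :=
  ⟨D.x F r t, D.x F r (-t), x_mul_neg hC r t, x_neg_mul hC r t⟩

/-- `n_r(t)` in the general linear group. -/
def ng (hC : Certified D T) (r : ℕ) (t : F) : GL D.Idx F :=
  xg hC r t * xg hC (D.neg r) (-t⁻¹) * xg hC r t

/-- `h_r(t)` in the general linear group. -/
def hg (hC : Certified D T) (r : ℕ) (t : F) : GL D.Idx F := ng hC r t * ng hC r (-1)

/-- A diagonal element. -/
def dg (D : ChevalleyDatum) (F : Type*) [Field F] (χ : ℕ → Fˣ) : GL D.Idx F :=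
  ⟨dMat D F (fun s => (χ s : F)), dMat D F (fun s => ((χ s)⁻¹ : Fˣ)),
    by rw [dMat_mul, ← dMat_one (D := D)]; exact dMat_congr fun s _ => by simp,
    by rw [dMat_mul, ← dMat_one (D := D)]; exact dMat_congr fun s _ => by simp⟩

/-- The character of the torus element with parameters `c`. -/
def torChar (D : ChevalleyDatum) {F : Type*} [Field F] (c : ℕ → Fˣ) (s : ℕ) : Fˣ :=
  ∏ i ∈ Finset.range D.rank, c i ^ D.cartan i s

/-- The torus element with parameters `c`. -/
def tor (D : ChevalleyDatum) {F : Type*} [Field F] (c : ℕ → Fˣ) : GL D.Idx F :=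
  dg D F (torChar D c)

@[simp] theorem coe_dg (χ : ℕ → Fˣ) :
    ((dg D F χ : GL D.Idx F) : Matrix D.Idx D.Idx F) = dMat D F (fun s => (χ s : F)) := rfl

theorem dg_mul (χ χ' : ℕ → Fˣ) : dg D F χ * dg D F χ' = dg D F (χ * χ') := by
  apply Units.ext
  rw [Units.val_mul, coe_dg, coe_dg, coe_dg, dMat_mul]
  exact dMat_congr fun s _ => by simp

theorem dg_inv (χ : ℕ → Fˣ) : (dg D F χ)⁻¹ = dg D F χ⁻¹ := by
  apply Units.ext
  rfl

theorem dg_congr {χ χ' : ℕ → Fˣ} (h : ∀ s < D.nroots, χ s = χ' s) : dg D F χ = dg D F χ' :=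
  Units.ext (by rw [coe_dg, coe_dg]; exact dMat_congr fun s hs => by rw [h s hs])

theorem dg_one : dg D F 1 = 1 := Units.ext (by rw [coe_dg]; simpa using dMat_one (D := D) (F := F))

theorem tor_mul (c c' : ℕ → Fˣ) : tor D c * tor D c' = tor D (c * c') := by
  rw [tor, tor, tor, dg_mul]
  congr 1
  funext s
  simp only [torChar, Pi.mul_apply, ← Finset.prod_mul_distrib, mul_zpow]

theorem tor_one : tor D (1 : ℕ → Fˣ) = 1 := by
  rw [tor, ← dg_one]
  congr 1
  funext s
  simp [torChar]

theorem tor_inv (c : ℕ → Fˣ) : (tor D c)⁻¹ = tor D c⁻¹ := by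
  rw [inv_eq_iff_mul_eq_one, tor_mul, mul_inv_cancel, tor_one]

/-- The product of the `n_p`, `p` running over a word of fundamental roots. -/
def nL (hC : Certified D T) (F : Type*) [Field F] (L : List ℕ) : GL D.Idx F :=
  (L.map fun i => ng hC (D.simple i) (1 : F)).prod

/-- The permutation of roots given by a word of fundamental reflections. -/
def wL (D : ChevalleyDatum) (L : List ℕ) (r : ℕ) : ℕ := L.foldr D.reflectRoot r

theorem wL_append (L L' : List ℕ) (r : ℕ) : wL D (L ++ L') r = wL D L (wL D L' r) :=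
  List.foldr_append

variable (hC : Certified D T)
include hC

@[simp] theorem coe_xg (r : ℕ) (t : F) :
    ((xg hC r t : GL D.Idx F) : Matrix D.Idx D.Idx F) = D.x F r t := rfl

theorem eq_xg {g : GL D.Idx F} {r : ℕ} {t : F} (h : (g : Matrix D.Idx D.Idx F) = D.x F r t) :
    g = xg hC r t := Units.ext h

theorem xg_add (r : ℕ) (t u : F) : xg hC r (t + u) = xg hC r t * xg hC r u :=
  Units.ext (by rw [Units.val_mul, coe_xg, coe_xg, coe_xg, x_add' hC])

theorem xg_zero (r : ℕ) : xg hC r (0 : F) = 1 := Units.ext (x_zero hC r)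

theorem xg_inv (r : ℕ) (t : F) : (xg hC r t)⁻¹ = xg hC r (-t) :=
  inv_eq_of_mul_eq_one_right (by rw [← xg_add hC, add_neg_cancel, xg_zero hC])

@[simp] theorem coe_ng (r : ℕ) (t : F) :
    ((ng hC r t : GL D.Idx F) : Matrix D.Idx D.Idx F) = D.nMat F r t := by
  simp [ng, ChevalleyDatum.nMat, ChevalleyDatum.nWord, ChevalleyDatum.wordMat, mul_assoc]

@[simp] theorem coe_hg (r : ℕ) (t : F) :
    ((hg hC r t : GL D.Idx F) : Matrix D.Idx D.Idx F) = D.hMat F r t := by
  rw [hg, Units.val_mul, coe_ng, coe_ng, hMat_eq hC]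

theorem coe_tor (c : ℕ → Fˣ) :
    ((tor D c : GL D.Idx F) : Matrix D.Idx D.Idx F) =
      dMat D F (fun s => ((torChar D c s : Fˣ) : F)) := rfl

/-- Every `h_r(t)` lies in the torus. -/
theorem hg_eq_tor {r : ℕ} (hr : r < D.nroots) (t : Fˣ) :
    hg hC r (t : F) = tor D (fun i => t ^ cor D r i) := by
  apply Units.ext
  rw [coe_hg, hMat_diag hC r hr t.ne_zero, coe_tor hC]
  refine dMat_congr fun s _ => ?_
  rw [pair, torChar, ← Units.val_zpow_eq_zpow_val]
  congr 1
  induction D.rank with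
  | zero => simp
  | succ m ih => rw [Finset.sum_range_succ, Finset.prod_range_succ, zpow_add, ih, zpow_mul]

theorem hg_simple {i : ℕ} (hi : i < D.rank) (c : Fˣ) :
    hg hC (D.simple i) (c : F) = tor D (fun j => if j = i then c else 1) := by
  rw [hg_eq_tor hC (hC.simple_lt hi), tor, tor]
  refine dg_congr fun s _ => Finset.prod_congr rfl fun j hj => ?_
  dsimp only
  rw [hC.cor_simple hi (Finset.mem_range.1 hj)]
  by_cases h : j = i
  · rw [if_pos h, if_pos h.symm, zpow_one]
  · rw [if_neg h, if_neg (Ne.symm h), zpow_zero]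

theorem tor_eq_prod (c : ℕ → Fˣ) :
    tor D c = ((List.range D.rank).map fun i => hg hC (D.simple i) (c i : F)).prod := by
  have key : ∀ m ≤ D.rank, ((List.range m).map fun i => hg hC (D.simple i) (c i : F)).prod =
      tor D (fun j => if j < m then c j else 1) := by
    intro m
    induction m with
    | zero =>
      intro _
      simp only [List.range_zero, List.map_nil, List.prod_nil, Nat.not_lt_zero, if_false]
      exact (tor_one (D := D)).symm
    | succ m ih =>
      intro hm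
      rw [List.range_succ, List.map_append, List.prod_append, ih (by omega), List.map_singleton,
        List.prod_singleton, hg_simple hC (by omega), tor_mul]
      congr 1
      funext j
      simp only [Pi.mul_apply]
      by_cases h1 : j = m
      · subst h1; simp
      · by_cases h2 : j < m
        · rw [if_pos h2, if_neg h1, mul_one, if_pos (Nat.lt_succ_of_lt h2)]
        · rw [if_neg h2, if_neg h1, mul_one, if_neg (by omega)]
  rw [key D.rank le_rfl]
  exact dg_congr fun s _ => Finset.prod_congr rfl fun j hj => by dsimp only; rw [if_pos (Finset.mem_range.1 hj)]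

theorem tor_mem_H (c : ℕ → Fˣ) : tor D c ∈ D.diagonalSubgroup F := by
  rw [tor_eq_prod hC]
  refine list_prod_mem ?_
  intro g hg
  obtain ⟨i, hi, rfl⟩ := List.mem_map.1 hg
  exact Subgroup.subset_closure
    ⟨D.simple i, _, hC.simple_lt (List.mem_range.1 hi), (c i).ne_zero, coe_hg hC _ _⟩

theorem mem_H_iff {g : GL D.Idx F} :
    g ∈ D.diagonalSubgroup F ↔ ∃ c : ℕ → Fˣ, g = tor D c := by
  refine ⟨fun h => ?_, fun ⟨c, hc⟩ => hc ▸ tor_mem_H hC c⟩
  induction h using Subgroup.closure_induction with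
  | mem g hg =>
    obtain ⟨r, t, hr, ht, hgr⟩ := hg
    refine ⟨fun i => Units.mk0 t ht ^ cor D r i, ?_⟩
    rw [← hg_eq_tor hC hr]
    exact Units.ext (hgr.trans (coe_hg hC r _).symm)
  | one => exact ⟨1, tor_one.symm⟩
  | mul g g' _ _ ih ih' =>
    obtain ⟨c, rfl⟩ := ih
    obtain ⟨c', rfl⟩ := ih'
    exact ⟨c * c', tor_mul c c'⟩
  | inv g _ ih =>
    obtain ⟨c, rfl⟩ := ih
    exact ⟨c⁻¹, tor_inv c⟩

/-! ### Conjugation -/

theorem torChar_isMulChar (c : ℕ → Fˣ) : IsMulChar D F (fun s => ((torChar D c s : Fˣ) : F)) := by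
  refine ⟨fun r hr => ?_, fun r hr s k q hq => ?_⟩ <;>
    simp only [torChar, ← Units.val_mul, ← Units.val_pow_eq_pow_val, Units.val_inj]
  · rw [Units.val_eq_one, ← Finset.prod_mul_distrib]
    refine Finset.prod_eq_one fun i hi => ?_
    rw [hC.cartan_neg hr (Finset.mem_range.1 hi), zpow_neg, inv_mul_cancel]
  · rw [← Finset.prod_pow, ← Finset.prod_mul_distrib]
    refine Finset.prod_congr rfl fun i hi => ?_
    rw [cartan_chain hC (Finset.mem_range.1 hi) hr hq, zpow_add, mul_comm ((k : ℤ) + 1) _, zpow_mul,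
      show ((k : ℤ) + 1) = ((k + 1 : ℕ) : ℤ) by push_cast; ring, zpow_natCast]

theorem tor_conj_x (c : ℕ → Fˣ) (r : ℕ) (t : F) (hr : r < D.nroots) :
    tor D c * xg hC r t * (tor D c)⁻¹ = xg hC r ((torChar D c r : F) * t) := by
  rw [mul_inv_eq_iff_eq_mul]
  apply Units.ext
  rw [Units.val_mul, Units.val_mul, coe_tor hC, coe_xg, coe_xg]
  exact dMat_conj_x hC (torChar_isMulChar hC c) hr t

theorem ng_conj_x {i r : ℕ} (hi : i < D.rank) (hr : r < D.nroots) (t : F) :
    ng hC (D.simple i) 1 * xg hC r t * (ng hC (D.simple i) (1 : F))⁻¹ =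
      xg hC (D.reflectRoot i r) ((T.eta i r : F) * t) := by
  rw [mul_inv_eq_iff_eq_mul]
  apply Units.ext
  rw [Units.val_mul, Units.val_mul, coe_ng, coe_xg, coe_xg]
  exact n_conj hC hi hr t

theorem ng_conj_ng {i r : ℕ} (hi : i < D.rank) (hr : r < D.nroots) (t : F) :
    ng hC (D.simple i) 1 * ng hC r t * (ng hC (D.simple i) (1 : F))⁻¹ =
      ng hC (D.reflectRoot i r) ((T.eta i r : F) * t) := by
  rw [mul_inv_eq_iff_eq_mul]
  apply Units.ext
  rw [Units.val_mul, Units.val_mul, coe_ng, coe_ng, coe_ng]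
  exact n_conj_nMat hC hi hr

theorem ng_inv (r : ℕ) (t : F) : (ng hC r t)⁻¹ = ng hC r (-t) := by
  refine inv_eq_of_mul_eq_one_right (Units.ext ?_)
  rw [Units.val_mul, coe_ng, coe_ng, Units.val_one, nMat_mul_neg hC]

theorem ng_eq_hg_mul (r : ℕ) (t : F) : ng hC r t = hg hC r t * ng hC r 1 := by
  rw [hg, mul_assoc, ← ng_inv hC r (1 : F), inv_mul_cancel, mul_one]

theorem ng_conj_tor {i : ℕ} (hi : i < D.rank) (c : ℕ → Fˣ) :
    ∃ c' : ℕ → Fˣ, ng hC (D.simple i) 1 * tor D c * (ng hC (D.simple i) (1 : F))⁻¹ = tor D c' ∧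
      ∀ s < D.nroots, torChar D c' s = torChar D c (D.reflectRoot i s) := by
  refine ⟨fun j => if j = i then
    c i * ∏ k ∈ Finset.range D.rank, c k ^ (-D.cartan k (D.simple i)) else c j, ?_⟩
  have key : ∀ s < D.nroots, torChar D (fun j => if j = i then
      c i * ∏ k ∈ Finset.range D.rank, c k ^ (-D.cartan k (D.simple i)) else c j) s =
      torChar D c (D.reflectRoot i s) := by
    intro s hs
    have e1 : ∀ j ∈ Finset.range D.rank, (if j = i then
        c i * ∏ k ∈ Finset.range D.rank, c k ^ (-D.cartan k (D.simple i)) else c j) ^ D.cartan j s =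
      c j ^ D.cartan j s * if j = i then
        (∏ k ∈ Finset.range D.rank, c k ^ (-D.cartan k (D.simple i))) ^ D.cartan i s else 1 := by
      intro j _
      by_cases h : j = i
      · subst h; rw [if_pos rfl, if_pos rfl, mul_zpow]
      · rw [if_neg h, if_neg h, mul_one]
    rw [torChar, torChar, Finset.prod_congr rfl e1, Finset.prod_mul_distrib,
      Finset.prod_ite_eq' _ i, if_pos (Finset.mem_range.2 hi), ← Finset.prod_zpow,
      ← Finset.prod_mul_distrib]
    refine Finset.prod_congr rfl fun j hj => ?_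
    rw [hC.cartan_reflect hi (Finset.mem_range.1 hj) hs, ← zpow_mul, ← zpow_add]
    congr 1
    ring
  refine ⟨?_, key⟩
  rw [mul_inv_eq_iff_eq_mul]
  apply Units.ext
  rw [Units.val_mul, Units.val_mul, coe_tor hC, coe_tor hC, coe_ng, n_conj_dMat hC hi]
  congr 1
  exact dMat_congr fun s hs => by rw [key s hs]

theorem ng_sq {i : ℕ} (hi : i < D.rank) :
    ∃ c : ℕ → Fˣ, ng hC (D.simple i) 1 * ng hC (D.simple i) (1 : F) = tor D c := by
  refine ⟨(fun j => if j = i then -1 else 1)⁻¹, ?_⟩
  rw [← tor_inv, ← hg_simple hC hi, hg, Units.val_neg, Units.val_one, ← ng_inv hC _ (1 : F),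
    mul_inv_rev, inv_inv]

/-! ### Words of fundamental reflections -/

theorem wL_lt {L : List ℕ} (hL : ∀ i ∈ L, i < D.rank) {r : ℕ} (hr : r < D.nroots) :
    wL D L r < D.nroots := by
  induction L with
  | nil => exact hr
  | cons i L ih =>
    exact hC.reflect_lt (hL i List.mem_cons_self) (ih fun j hj => hL j (List.mem_cons_of_mem i hj))

theorem wL_neg {L : List ℕ} (hL : ∀ i ∈ L, i < D.rank) {r : ℕ} (hr : r < D.nroots) :
    wL D L (D.neg r) = D.neg (wL D L r) := by
  induction L with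
  | nil => rfl
  | cons i L ih =>
    have hL' : ∀ j ∈ L, j < D.rank := fun j hj => hL j (List.mem_cons_of_mem i hj)
    show D.reflectRoot i (wL D L (D.neg r)) = D.neg (D.reflectRoot i (wL D L r))
    rw [ih hL', hC.reflect_neg (hL i List.mem_cons_self) (wL_lt hC hL' hr)]

theorem wL_reverse {L : List ℕ} (hL : ∀ i ∈ L, i < D.rank) {r : ℕ} (hr : r < D.nroots) :
    wL D L.reverse (wL D L r) = r := by
  induction L with
  | nil => rfl
  | cons i L ih =>
    have hL' : ∀ j ∈ L, j < D.rank := fun j hj => hL j (List.mem_cons_of_mem i hj)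
    rw [List.reverse_cons, wL_append]
    show wL D L.reverse (D.reflectRoot i (D.reflectRoot i (wL D L r))) = r
    rw [hC.reflect_reflect (hL i List.mem_cons_self) (wL_lt hC hL' hr), ih hL']

theorem wL_injective {L : List ℕ} (hL : ∀ i ∈ L, i < D.rank) {r s : ℕ} (hr : r < D.nroots)
    (hs : s < D.nroots) (h : wL D L r = wL D L s) : r = s := by
  rw [← wL_reverse hC hL hr, h, wL_reverse hC hL hs]

theorem nL_conj_x {L : List ℕ} (hL : ∀ i ∈ L, i < D.rank) {r : ℕ} (hr : r < D.nroots) :
    ∃ η : F, η ≠ 0 ∧ ∀ t : F,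
      nL hC F L * xg hC r t * (nL hC F L)⁻¹ = xg hC (wL D L r) (η * t) := by
  induction L with
  | nil => exact ⟨1, one_ne_zero, fun t => by simp [nL, wL]⟩
  | cons i L ih =>
    have hL' : ∀ j ∈ L, j < D.rank := fun j hj => hL j (List.mem_cons_of_mem i hj)
    obtain ⟨η, hη, h⟩ := ih hL'
    have hi := hL i List.mem_cons_self
    refine ⟨(T.eta i (wL D L r) : F) * η, mul_ne_zero ?_ hη, fun t => ?_⟩
    · rcases Certified.eta_cases (T := T) i (wL D L r) with e | e <;> simp [e]
    have e1 : nL hC F (i :: L) = ng hC (D.simple i) 1 * nL hC F L := by simp [nL]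
    rw [e1, mul_inv_rev]
    calc _ = ng hC (D.simple i) 1 * (nL hC F L * xg hC r t * (nL hC F L)⁻¹) *
          (ng hC (D.simple i) (1 : F))⁻¹ := by simp only [mul_assoc]
      _ = _ := by rw [h, ng_conj_x hC hi (wL_lt hC hL' hr), mul_assoc]; rfl

/-- The subgroup generated by the torus and the `n_p`. -/
theorem mem_N_iff {g : GL D.Idx F} :
    g ∈ D.monomialSubgroup F ↔
      ∃ (c : ℕ → Fˣ) (L : List ℕ), (∀ i ∈ L, i < D.rank) ∧ g = tor D c * nL hC F L := by
  have hn : ∀ i, i < D.rank → ng hC (D.simple i) (1 : F) ∈ D.monomialSubgroup F := fun i hi =>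
    Subgroup.mem_sup_right (Subgroup.subset_closure ⟨D.simple i, hC.simple_lt hi, coe_ng hC _ _⟩)
  constructor
  swap
  · rintro ⟨c, L, hL, rfl⟩
    refine mul_mem (Subgroup.mem_sup_left (tor_mem_H hC c)) (list_prod_mem fun x hx => ?_)
    obtain ⟨i, hi, rfl⟩ := List.mem_map.1 hx
    exact hn i (hL i hi)
  -- the set of such elements is a subgroup containing the generators
  let S : Submonoid (GL D.Idx F) :=
    { carrier := {g | ∃ (c : ℕ → Fˣ) (L : List ℕ), (∀ i ∈ L, i < D.rank) ∧ g = tor D c * nL hC F L}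
      one_mem' := ⟨1, [], by simp, by simp [nL, tor_one]⟩
      mul_mem' := by
        rintro _ _ ⟨c, L, hL, rfl⟩ ⟨c', L', hL', rfl⟩
        have key : ∀ L : List ℕ, (∀ i ∈ L, i < D.rank) → ∀ c' : ℕ → Fˣ,
            ∃ c'' : ℕ → Fˣ, nL hC F L * tor D c' = tor D c'' * nL hC F L := by
          intro L
          induction L with
          | nil => exact fun _ c' => ⟨c', by simp [nL]⟩
          | cons i L ih =>
            intro hL c'
            obtain ⟨c₁, h₁⟩ := ih (fun j hj => hL j (List.mem_cons_of_mem i hj)) c'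
            obtain ⟨c₂, h₂, -⟩ := ng_conj_tor hC (hL i List.mem_cons_self) c₁
            refine ⟨c₂, ?_⟩
            have e1 : nL hC F (i :: L) = ng hC (D.simple i) 1 * nL hC F L := by simp [nL]
            rw [e1, mul_assoc, h₁, ← mul_assoc, ← mul_assoc, ← h₂, inv_mul_cancel_right]
        obtain ⟨c'', hc''⟩ := key L hL c'
        refine ⟨c * c'', L ++ L', fun i hi => (List.mem_append.1 hi).elim (hL i) (hL' i), ?_⟩
        rw [← tor_mul, show nL hC F (L ++ L') = nL hC F L * nL hC F L' by simp [nL]]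
        simp only [mul_assoc]
        rw [← mul_assoc (nL hC F L), hc'', mul_assoc] }
  have hS : ∀ g ∈ D.monomialSubgroup F, g ∈ S ∧ g⁻¹ ∈ S := by
    have htor : ∀ c : ℕ → Fˣ, tor D c ∈ S := fun c => ⟨c, [], by simp, by simp [nL]⟩
    have hnS : ∀ i, i < D.rank → ng hC (D.simple i) (1 : F) ∈ S ∧
        (ng hC (D.simple i) (1 : F))⁻¹ ∈ S := by
      intro i hi
      have h1 : ng hC (D.simple i) (1 : F) ∈ S :=
        ⟨1, [i], by simpa using hi, by simp [nL, tor_one]⟩
      obtain ⟨c, hc⟩ := ng_sq (F := F) hC hi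
      refine ⟨h1, ?_⟩
      have e : (ng hC (D.simple i) (1 : F))⁻¹ = (tor D c)⁻¹ * ng hC (D.simple i) 1 := by
        rw [← hc, mul_inv_rev, inv_mul_cancel_right]
      rw [e, tor_inv]
      exact S.mul_mem (htor _) h1
    have hnall : ∀ r < D.nroots, ∀ t : Fˣ, ng hC r (t : F) ∈ S := by
      refine Root.simple_induction hC (fun i hi t => ?_) fun r hr i hi ih t => ?_
      · rw [ng_eq_hg_mul hC, hg_eq_tor hC (hC.simple_lt hi)]
        exact S.mul_mem (htor _) (hnS i hi).1
      · obtain ⟨η, hη⟩ : ∃ η : Fˣ, (η : F) = (T.eta i r : F) := by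
          rcases Certified.eta_cases (T := T) i r with e | e
          exacts [⟨1, by simp [e]⟩, ⟨-1, by simp [e]⟩]
        have h := S.mul_mem (S.mul_mem (hnS i hi).1 (ih (η⁻¹ * t))) (hnS i hi).2
        rwa [ng_conj_ng hC hi hr, ← hη, ← Units.val_mul, mul_inv_cancel_left] at h
    intro g hg
    rw [ChevalleyDatum.monomialSubgroup, ← Subgroup.closure_eq (D.diagonalSubgroup F),
      ← Subgroup.closure_union] at hg
    induction hg using Subgroup.closure_induction with
    | mem g hg =>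
      rcases hg with hg | ⟨r, hr, hgr⟩
      · obtain ⟨c, rfl⟩ := (mem_H_iff hC).1 hg
        exact ⟨htor c, by rw [tor_inv]; exact htor _⟩
      · have : g = ng hC r (1 : F) := Units.ext (hgr.trans (coe_ng hC r _).symm)
        subst this
        refine ⟨by simpa using hnall r hr 1, ?_⟩
        rw [ng_inv]
        simpa using hnall r hr (-1)
    | one => exact ⟨S.one_mem, by simp⟩
    | mul x y _ _ ihx ihy => exact ⟨S.mul_mem ihx.1 ihy.1, by rw [mul_inv_rev]; exact S.mul_mem ihy.2 ihx.2⟩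
    | inv x _ ih => exact ⟨ih.2, by rw [inv_inv]; exact ih.1⟩
  exact fun hg => (hS g hg).1

end Cfsg.Agent.Chevalley.Group
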