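import Cfsg.Agent.Lib.Chevalley.Perfect
import Cfsg.Agent.Lib.Chevalley.StKernel

/-!
Subgroups containing the monomial subgroup and some fundamental root subgroups: the root subgroups
along orbits of fundamental roots and, through the commutator formula, those of the long roots.
-/

set_option autoImplicit false

namespace Cfsg.Agent.Chevalley.Orbit

open Cfsg.Lie Cfsg.Agent.Chevalley.Eval Cfsg.Agent.Chevalley.Table Cfsg.Agent.Chevalley.Check
  Cfsg.Agent.Chevalley.Cert Cfsg.Agent.Chevalley.Group Cfsg.Agent.Chevalley.Borel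

/-- Two reflections carry the fundamental root `i` to the fundamental root `j`. -/
noncomputable def nbr (T : Tab) (i j : ℕ) : Bool :=
  Nat.beq (T.refl i (T.refl j (T.simple i))) (T.simple j)

/-- A chain of such pairs of reflections. -/
noncomputable def reach (T : Tab) : ℕ → ℕ → ℕ → Bool :=
  fun fuel => Nat.rec (fun i j => Nat.beq i j)
    (fun _ ih i j => Nat.beq i j || anyR T.l fun k => nbr T i k && ih k j) fuel

/-- The single commutator term of two roots. -/
noncomputable def oneTerm (T : Tab) (p r s u : ℕ) : Bool :=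
  match commOf T.E r s with
  | [(v, c, 1, 1)] =>
    (Nat.beq v u && Nat.beq c.natAbs p) && (!Nat.beq s r && !Nat.beq s (T.neg r))
  | _ => false

/-- The root subgroup of `j` is reached from that of `i`, possibly by a commutator of two roots of
the same length whose coefficient is `±p`. -/
noncomputable def genOk (T : Tab) (p i j : ℕ) : Bool :=
  reach T T.l i j || anyR T.l fun b => reach T T.l b j && anyR T.l fun a => reach T T.l i a &&
    (oneTerm T p (T.simple a) (T.refl b (T.simple a)) (T.simple b) ||
      oneTerm T p (T.simple a) (T.refl a (T.refl b (T.simple a))) (T.refl a (T.simple b)))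

variable {D : ChevalleyDatum} {F : Type*} [Field F] {T : Tab}

/-- The root subgroup lies in `M`. -/
def Has (hC : Certified D T) (M : Subgroup (GL D.Idx F)) (r : ℕ) : Prop := ∀ t : F, xg hC r t ∈ M

variable (hC : Certified D T)
include hC

variable {M : Subgroup (GL D.Idx F)} (hN : D.monomialSubgroup F ≤ M)
include hN

theorem has_reflect {i r : ℕ} (hi : i < D.rank) (hr : r < D.nroots) (h : Has hC M r) :
    Has hC M (D.reflectRoot i r) := by
  intro t
  obtain ⟨η, hη, hηe⟩ := Weyl.eta_field (F := F) (i := i) (r := r) hC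
  have hn : ng hC (D.simple i) (1 : F) ∈ M :=
    hN (Subgroup.mem_sup_right (Subgroup.subset_closure ⟨D.simple i, hC.simple_lt hi, coe_ng hC _ _⟩))
  have e := ng_conj_x (F := F) hC hi hr (η⁻¹ * t)
  rw [← hηe, mul_inv_cancel_left₀ hη] at e
  rw [← e]
  exact mul_mem (mul_mem hn (h _)) (inv_mem hn)

theorem has_reach : ∀ fuel i j, i < D.rank → reach T fuel i j = true → Has hC M (D.simple i) →
    Has hC M (D.simple j) := by
  intro fuel
  induction fuel with
  | zero =>
    intro i j _ h hi
    exact (Nat.eq_of_beq_eq_true h : i = j) ▸ hi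
  | succ fuel ih =>
    intro i j hi h hM
    have h' : (Nat.beq i j || anyR T.l fun k => nbr T i k && reach T fuel k j) = true := h
    rw [Bool.or_eq_true] at h'
    rcases h' with h' | h'
    · exact (Nat.eq_of_beq_eq_true h' : i = j) ▸ hM
    obtain ⟨k, hk, hk'⟩ := of_anyR h'
    rw [hC.l_eq] at hk
    rw [Bool.and_eq_true] at hk'
    refine ih k j hk hk'.2 ?_
    have e := Nat.eq_of_beq_eq_true hk'.1
    have hsi := hC.simple_lt hi
    rw [hC.simple_eq hi, hC.simple_eq hk, ← hC.reflect_eq hk hsi,
      ← hC.reflect_eq hi (hC.reflect_lt hk hsi)] at e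
    rw [← e]
    exact has_reflect hC hN hi (hC.reflect_lt hk hsi) (has_reflect hC hN hk hsi hM)

omit hN in
theorem has_term {p r s u : ℕ} (hr : r < D.nroots) (hs : s < D.nroots) (hp : (p : F) ≠ 0)
    (h : oneTerm T p r s u = true) (hMr : Has hC M r) (hMs : Has hC M s)
    (hterms : commOf T.E r s = D.commTerms r s) :
    Has hC M u := by
  unfold oneTerm at h
  split at h
  next v c heq =>
    simp only [Bool.and_eq_true, Bool.not_eq_true', hC.neg_eq hr] at h
    obtain ⟨⟨h1, h2⟩, h3, h4⟩ := h
    have hne : s ≠ r := fun e => by rw [e, Nat.beq_refl] at h3; exact Bool.noConfusion h3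
    have hnn : s ≠ D.neg r := fun e => by rw [e, Nat.beq_refl] at h4; exact Bool.noConfusion h4
    obtain rfl : v = u := Nat.eq_of_beq_eq_true h1
    have hc : (c : F) ≠ 0 := fun h0 => hp (by
      have e : ((c.natAbs : ℕ) : F) = 0 := by
        rcases Int.natAbs_eq c with e | e
        · rw [e] at h0; simpa using h0
        · rw [e] at h0; simpa using h0
      rwa [Nat.eq_of_beq_eq_true h2] at e)
    intro t
    have key := Unip.xg_comm hC hr hs hne hnn (-(t / (c : F))) (1 : F)
    have hw : D.commWord F r s (-(t / (c : F))) (1 : F) = [(v, t)] := by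
      rw [ChevalleyDatum.commWord, ← hterms, heq]
      simp [mul_div_cancel₀ _ hc]
    rw [hw] at key
    simp only [List.map_cons, List.map_nil, List.prod_cons, List.prod_nil, mul_one] at key
    have e : xg hC v t = (xg hC r (-(t / (c : F))) * xg hC s 1)⁻¹ *
        (xg hC s 1 * xg hC r (-(t / (c : F)))) := by rw [key]; group
    rw [e]
    exact mul_mem (inv_mem (mul_mem (hMr _) (hMs _))) (mul_mem (hMs _) (hMr _))
  next => simp at h

theorem has_genOk {p i j : ℕ} (hi : i < D.rank) (hp : (p : F) ≠ 0) (h : genOk T p i j = true)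
    (hM : Has hC M (D.simple i)) : Has hC M (D.simple j) := by
  rw [genOk, Bool.or_eq_true] at h
  rcases h with h | h
  · exact has_reach hC hN _ i j hi h hM
  obtain ⟨b, hb, h⟩ := of_anyR h
  rw [hC.l_eq] at hb
  rw [Bool.and_eq_true] at h
  obtain ⟨a, ha, h'⟩ := of_anyR h.2
  rw [hC.l_eq] at ha
  rw [Bool.and_eq_true, Bool.or_eq_true] at h'
  refine has_reach hC hN _ b j hb h.1 ?_
  have hMa := has_reach hC hN _ i a hi h'.1 hM
  have hsa := hC.simple_lt ha
  have hsb := hC.simple_lt hb
  have hterms : ∀ s < D.nroots, commOf T.E (D.simple a) s = D.commTerms (D.simple a) s :=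
    fun s hs => Perfect.commOf_eq hC hsa hs
  rcases h'.2 with h2 | h2
  · rw [hC.simple_eq ha, hC.simple_eq hb, ← hC.reflect_eq hb hsa] at h2
    exact has_term hC hsa (hC.reflect_lt hb hsa) hp h2 hMa (has_reflect hC hN hb hsa hMa)
      (hterms _ (hC.reflect_lt hb hsa))
  · have hlt := hC.reflect_lt hb hsa
    rw [hC.simple_eq ha, hC.simple_eq hb, ← hC.reflect_eq hb hsa, ← hC.reflect_eq ha hlt,
      ← hC.reflect_eq ha hsb] at h2
    have h3 := has_term hC hsa (hC.reflect_lt ha hlt) hp h2 hMa
      (has_reflect hC hN ha hlt (has_reflect hC hN hb hsa hMa))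
      (hterms _ (hC.reflect_lt ha hlt))
    have h4 := has_reflect hC hN ha (hC.reflect_lt ha hsb) h3
    rwa [hC.reflect_reflect ha hsb] at h4

theorem group_le (h : ∀ j < D.rank, Has hC M (D.simple j)) : D.group F ≤ M := by
  rw [group_eq_closure hC, Subgroup.closure_le]
  rintro _ ⟨r, t, hr, rfl⟩
  exact Root.simple_induction hC (P := Has hC M) h
    (fun r hr i hi hr' => has_reflect hC hN hi hr hr') r hr t

end Cfsg.Agent.Chevalley.Orbit
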