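import Cfsg.Agent.Lib.Chevalley.Root

/-!
Additivity and the commutator formula for all roots, root elements as units, and the diagonal elements
`h_r(t)` for every root.
-/

set_option autoImplicit false

open scoped Matrix

namespace Cfsg.Agent.Chevalley.Relations

open Cfsg.Lie Cfsg.Agent.Chevalley.Eval Cfsg.Agent.Chevalley.Table Cfsg.Agent.Chevalley.Check
  Cfsg.Agent.Chevalley.Cert Cfsg.Agent.Chevalley.Columns Cfsg.Agent.Chevalley.Root

variable {D : ChevalleyDatum} {F : Type*} [Field F]

theorem wordMat_nil : D.wordMat F [] = 1 := rfl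

theorem wordMat_cons (p : ℕ × F) (w : List (ℕ × F)) :
    D.wordMat F (p :: w) = D.x F p.1 p.2 * D.wordMat F w := by
  simp [ChevalleyDatum.wordMat]

theorem wordMat_append (w w' : List (ℕ × F)) :
    D.wordMat F (w ++ w') = D.wordMat F w * D.wordMat F w' := by
  simp [ChevalleyDatum.wordMat]

variable {T : Tab} (hC : Certified D T)
include hC

theorem x_add : ∀ r < D.nroots, ∀ t u : F, D.x F r t * D.x F r u = D.x F r (t + u) := by
  refine dom_induction hC (fun r hr hd => x_add_dom hC hr hd) fun r hr i hi ih t u => ?_
  refine mul_left_cancel_n hC hi ?_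
  rw [← mul_assoc, n_conj hC hi hr, mul_assoc, n_conj hC hi hr, ← mul_assoc, ih, ← mul_add,
    ← n_conj hC hi hr]

theorem x_add' (r : ℕ) (t u : F) : D.x F r t * D.x F r u = D.x F r (t + u) := by
  by_cases hr : r < D.nroots
  · exact x_add hC r hr t u
  · rw [x_eq_one (by omega), x_eq_one (by omega), x_eq_one (by omega), mul_one]

theorem x_zero (r : ℕ) : D.x F r (0 : F) = 1 := by
  refine matrix_ext D fun j _ => ?_
  rw [(colValid hC) r j (0 : F), Matrix.one_mulVec, col_eq hC.linked]
  suffices h : ∀ e ∈ colD D r j, 1 ≤ e.2.1 by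
    have hz : ((colD D r j).map fun e => ((e.2.2 : F) * (0 : F) ^ e.2.1) • basis D F e.1).sum = 0 := by
      apply List.sum_eq_zero
      simp only [List.mem_map]
      rintro _ ⟨e, he, rfl⟩
      rw [zero_pow (by have := h e he; omega), mul_zero, zero_smul]
    rw [hz, add_zero]
  have hsteps : ∀ (L : List (ℕ × ℤ)) (k : ℕ), 1 ≤ k → ∀ e ∈ steps D.rank k L, 1 ≤ e.2.1 := by
    intro L
    induction L with
    | nil => intro k _ e he; exact absurd he List.not_mem_nil
    | cons q L ih =>
      intro k hk e he
      rcases List.mem_cons.1 (show e ∈ (Nat.add D.rank q.1, k, q.2) :: steps D.rank (k + 1) L from he)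
        with rfl | he
      · exact hk
      · exact ih (k + 1) (by omega) e he
  have hcor : ∀ (c : ℕ → ℤ) (m : ℕ) (rest : List (ℕ × ℕ × ℤ)), (∀ e ∈ rest, 1 ≤ e.2.1) →
      ∀ e ∈ corTerms m c rest, 1 ≤ e.2.1 := by
    intro c m
    induction m with
    | zero => exact fun rest h => h
    | succ m ih =>
      intro rest h e he
      have he' : e ∈ bif isZ (c m) then corTerms m c rest else (m, 1, c m) :: corTerms m c rest := he
      cases hz : isZ (c m) <;> rw [hz] at he'
      · rcases List.mem_cons.1 he' with rfl | he'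
        · exact le_rfl
        · exact ih rest h e he'
      · exact ih rest h e he'
  intro e he
  simp only [colD, colOf, nz, Nat.blt_eq] at he
  by_cases h0 : (Nat.blt r D.nroots && Nat.blt j (Nat.add D.rank D.nroots)) = true
  swap
  · rw [Bool.eq_false_iff.2 h0, cond_false] at he; exact absurd he List.not_mem_nil
  rw [h0, cond_true] at he
  cases h1 : Nat.blt j D.rank <;> rw [h1] at he
  · cases h2 : Nat.beq (Nat.sub j D.rank) r <;> rw [h2] at he
    · cases h3 : Nat.beq (Nat.sub j D.rank) (D.neg r) <;> rw [h3] at he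
      · exact hsteps _ 1 le_rfl e he
      · refine hcor _ _ _ ?_ e he
        intro e he
        rw [List.mem_singleton] at he
        rw [he]
        exact one_le_two
    · exact absurd he List.not_mem_nil
  · simp only [cond_true] at he
    cases h2 : isZ (-D.cartan j r) <;> rw [h2] at he
    · rw [cond_false, List.mem_singleton] at he; rw [he]
    · exact absurd he List.not_mem_nil

theorem x_mul_neg (r : ℕ) (t : F) : D.x F r t * D.x F r (-t) = 1 := by
  rw [x_add' hC, add_neg_cancel, x_zero hC]

theorem x_neg_mul (r : ℕ) (t : F) : D.x F r (-t) * D.x F r t = 1 := by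
  rw [x_add' hC, neg_add_cancel, x_zero hC]

/-! ### The commutator formula -/

theorem mapChain_get (i s b : ℕ) (L : List (ℕ × ℤ)) (m : ℕ) :
    (mapChain T i s b L)[m]? = L[m]?.map fun q =>
      (T.refl i q.1, q.2 * (T.eta i q.1 * (T.eta i b * T.eta i s ^ (m + 1)))) := by
  have key : ∀ (L : List (ℕ × ℤ)) (k m : ℕ),
      (List.rec (fun _ => [])
        (fun q _ ih k => (T.refl i q.1,
          Int.mul q.2 (Int.mul (T.eta i q.1) (Int.mul (T.eta i b) (zpw (T.eta i s) k)))) :: ih (Nat.add k 1))
        L k : List (ℕ × ℤ))[m]? = L[m]?.map fun q =>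
      (T.refl i q.1, q.2 * (T.eta i q.1 * (T.eta i b * T.eta i s ^ (m + k)))) := by
    intro L
    induction L with
    | nil => intro k m; simp
    | cons q L ih =>
      intro k m
      cases m with
      | zero => simp [imul_eq, zpw_eq]
      | succ m =>
        simp only [List.getElem?_cons_succ, ih, Nat.add_eq]
        congr 1
        funext x
        rw [show m + 1 + k = m + (k + 1) by omega]
  exact key L 1 m

/-- The three candidate terms of the commutator formula for short chains. -/
def shortTerms (D : ChevalleyDatum) (r s : ℕ) : List (ℕ × ℤ × ℕ × ℕ) :=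
  ([(D.chainRoot r s 1, D.chainM r s 1, 1, 1), (D.chainRoot r s 2, D.chainM r s 2, 2, 1),
    (D.chainRoot s r 2, D.chainM s r 2, 1, 2)] :
      List (Option ℕ × ℤ × ℕ × ℕ)).filterMap fun c => c.1.map fun k => (k, c.2)

theorem commTerms_short (hs : shortChk D = true) {r s : ℕ} (hr : r < D.nroots) (hs' : s < D.nroots) :
    D.commTerms r s = shortTerms D r s := by
  have h1 : D.chainRoot r s 3 = none := by
    rw [ChevalleyDatum.chainRoot, List.getElem?_eq_none (by
      have := hC.chain_short hs (s := s) hr
      omega), Option.map_none]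
  have h2 : D.chainRoot s r 3 = none := by
    rw [ChevalleyDatum.chainRoot, List.getElem?_eq_none (by
      have := hC.chain_short hs (s := r) hs'
      omega), Option.map_none]
  simp only [ChevalleyDatum.commTerms, h1, h2, shortTerms, Option.bind_none, List.filterMap_cons,
    List.filterMap_nil, Option.map_none]

theorem chainRoot_lt {r s m k : ℕ} (hr : r < D.nroots) (h : D.chainRoot r s m = some k) :
    k < D.nroots := by
  obtain ⟨q, hq, rfl⟩ := Option.map_eq_some_iff.1 h
  exact (hC.chain_step hr hq).1

theorem chain_transport {i r s m : ℕ} (hm : 1 ≤ m) (hi : i < D.rank) (hr : r < D.nroots)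
    (hs : s < D.nroots) :
    D.chainRoot (D.reflectRoot i r) (D.reflectRoot i s) m =
      (D.chainRoot r s m).map (D.reflectRoot i) ∧
    ∀ k, D.chainRoot r s m = some k →
      D.chainM (D.reflectRoot i r) (D.reflectRoot i s) m =
        D.chainM r s m * (T.eta i k * (T.eta i s * T.eta i r ^ m)) := by
  constructor
  · rw [ChevalleyDatum.chainRoot, ChevalleyDatum.chainRoot, hC.chain_reflect hi hr hs,
      mapChain_get hC]
    cases hq : (D.chainEntry r s)[m - 1]? with
    | none => rfl
    | some q =>
      simp only [Option.map_some]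
      rw [hC.reflect_eq hi (hC.chain_step hr hq).1]
  · intro k hk
    rw [ChevalleyDatum.chainM, ChevalleyDatum.chainM, hC.chain_reflect hi hr hs, mapChain_get hC]
    obtain ⟨q, hq, rfl⟩ := Option.map_eq_some_iff.1 hk
    rw [hq, show m - 1 + 1 = m by omega]
    rfl

theorem commWord_transport (hsh : shortChk D = true) {i r s : ℕ} (hi : i < D.rank)
    (hr : r < D.nroots) (hs : s < D.nroots) (t u : F) :
    D.commWord F (D.reflectRoot i r) (D.reflectRoot i s) ((T.eta i r : F) * t) ((T.eta i s : F) * u) =
      (D.commWord F r s t u).map fun p => (D.reflectRoot i p.1, (T.eta i p.1 : F) * p.2) := by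
  obtain ⟨a1, b1⟩ := chain_transport hC (m := 1) le_rfl hi hr hs
  obtain ⟨a2, b2⟩ := chain_transport hC (m := 2) (by omega) hi hr hs
  obtain ⟨a3, b3⟩ := chain_transport hC (m := 2) (by omega) hi hs hr
  rw [ChevalleyDatum.commWord, ChevalleyDatum.commWord,
    commTerms_short hC hsh (hC.reflect_lt hi hr) (hC.reflect_lt hi hs),
    commTerms_short hC hsh hr hs, shortTerms, shortTerms, List.map_map]
  simp only [List.filterMap_cons, List.filterMap_nil, a1, a2, a3]
  cases h1 : D.chainRoot r s 1 <;> cases h2 : D.chainRoot r s 2 <;> cases h3 : D.chainRoot s r 2 <;>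
    simp only [Option.map_none, Option.map_some, List.map_cons, List.map_nil, Function.comp_apply,
      List.cons.injEq, Prod.mk.injEq, true_and, and_true]
  all_goals
    repeat' constructor
  all_goals
    first
      | rw [b1 _ h1]
      | rw [b2 _ h2]
      | rw [b3 _ h3]
  all_goals
    rcases Certified.eta_cases (T := T) i r with e1 | e1 <;>
      rcases Certified.eta_cases (T := T) i s with e2 | e2 <;>
      simp only [e1, e2] <;> push_cast <;> ring

theorem n_conj_word {i : ℕ} (hi : i < D.rank) :
    ∀ w : List (ℕ × F), (∀ p ∈ w, p.1 < D.nroots) →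
      D.nMat F (D.simple i) 1 * D.wordMat F w =
        D.wordMat F (w.map fun p => (D.reflectRoot i p.1, (T.eta i p.1 : F) * p.2)) *
          D.nMat F (D.simple i) 1 := by
  intro w
  induction w with
  | nil => simp [wordMat_nil]
  | cons p w ih =>
    intro hw
    rw [List.map_cons, wordMat_cons, wordMat_cons, ← mul_assoc,
      n_conj hC hi (hw p List.mem_cons_self), mul_assoc,
      ih fun x hx => hw x (List.mem_cons_of_mem p hx), mul_assoc]

theorem commTerms_lt {r s : ℕ} (hr : r < D.nroots) (hs : s < D.nroots) :
    ∀ c ∈ D.commTerms r s, c.1 < D.nroots := by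
  intro c hc
  simp only [ChevalleyDatum.commTerms, List.mem_filterMap] at hc
  obtain ⟨x, hx, hxc⟩ := hc
  obtain ⟨k, hk, rfl⟩ := Option.map_eq_some_iff.1 hxc
  simp only [List.mem_cons, List.not_mem_nil, or_false] at hx
  rcases hx with rfl | rfl | rfl | rfl | rfl | rfl | rfl
  · exact chainRoot_lt hC hr hk
  · exact chainRoot_lt hC hr hk
  · exact chainRoot_lt hC hs hk
  · exact chainRoot_lt hC hr hk
  · exact chainRoot_lt hC hs hk
  · obtain ⟨m, hm, hmk⟩ := Option.bind_eq_some_iff.1 hk
    exact chainRoot_lt hC (chainRoot_lt hC hr hm) hmk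
  · obtain ⟨m, hm, hmk⟩ := Option.bind_eq_some_iff.1 hk
    exact chainRoot_lt hC (chainRoot_lt hC hs hm) hmk

theorem comm_of_pair {r s : ℕ} (hr : r < D.nroots) (hs : s < D.nroots) (hsr : s ≠ r)
    (hsn : s ≠ D.neg r) (h : commPair T r s = true) (t u : F) :
    D.x F s u * D.x F r t = D.x F r t * D.x F s u * D.wordMat F (D.commWord F r s t u) := by
  simp only [commPair, Bool.or_eq_true, Nat.beq_eq, hC.neg_eq hr] at h
  rcases h with h | h | h
  · exact absurd h hsr
  · exact absurd h hsn
  rw [show Nat.add T.l T.n = D.rank + D.nroots by rw [Nat.add_eq, hC.l_eq, hC.n_eq]] at h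
  have h2 := wordMat_eq_of_sameWords D t u (colValid (F := F) hC) h
  have hlet : commOf T.E r s = D.commTerms r s := by
    rw [commTerms_eq]
    have e : ∀ a b, a < D.nroots → b < D.nroots → T.E a b = D.chainEntry a b :=
      fun a b ha hb => hC.linked.E_eq a ha b hb
    have e1 := e r s hr hs
    have e2 := e s r hs hr
    have r1 : ∀ m, chRoot T.E r s m = chRoot D.chainEntry r s m := fun m => by rw [chRoot, chRoot, e1]
    have r2 : ∀ m, chRoot T.E s r m = chRoot D.chainEntry s r m := fun m => by rw [chRoot, chRoot, e2]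
    have m1 : ∀ m, chM T.E r s m = chM D.chainEntry r s m := fun m => by rw [chM, chM, e1]
    have m2 : ∀ m, chM T.E s r m = chM D.chainEntry s r m := fun m => by rw [chM, chM, e2]
    have b1 : ((chRoot D.chainEntry r s 3).bind fun k => chRoot T.E k s 1) =
        ((chRoot D.chainEntry r s 3).bind fun k => chRoot D.chainEntry k s 1) := by
      cases hk : chRoot D.chainEntry r s 3 with
      | none => rfl
      | some k => simp [chRoot, e k s (chainRoot_lt hC hr hk) hs]
    have b2 : ((chRoot D.chainEntry s r 3).bind fun k => chRoot T.E k r 1) =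
        ((chRoot D.chainEntry s r 3).bind fun k => chRoot D.chainEntry k r 1) := by
      cases hk : chRoot D.chainEntry s r 3 with
      | none => rfl
      | some k => simp [chRoot, e k r (chainRoot_lt hC hs hk) hr]
    have c1 : ((chRoot D.chainEntry r s 1).map fun k => chM T.E k r 2 / 3) =
        ((chRoot D.chainEntry r s 1).map fun k => chM D.chainEntry k r 2 / 3) := by
      cases hk : chRoot D.chainEntry r s 1 with
      | none => rfl
      | some k => simp [chM, e k r (chainRoot_lt hC hr hk) hr]
    have c2 : ((chRoot D.chainEntry r s 1).map fun k => -2 * chM T.E k s 2 / 3) =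
        ((chRoot D.chainEntry r s 1).map fun k => -2 * chM D.chainEntry k s 2 / 3) := by
      cases hk : chRoot D.chainEntry r s 1 with
      | none => rfl
      | some k => simp [chM, e k s (chainRoot_lt hC hr hk) hs]
    simp only [commOf, r1, r2, m1, m2, b1, b2, c1, c2]
  rw [commLetters, hlet] at h2
  simp only [wordVal, List.map_cons, List.map_nil, List.map_map, wordMat_cons, wordMat_nil, lval,
    pow_one, pow_zero, mul_one, Int.cast_one, one_mul, ← mul_assoc] at h2
  rw [h2, ChevalleyDatum.commWord]
  congr 2
  apply List.map_congr_left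
  intro c _
  simp only [Function.comp_apply, lval, imul_eq, zpw_eq, show Int.negSucc 0 = -1 from rfl]
  push_cast
  rw [neg_pow t]
  ring_nf

/-- One transport step of the commutator formula. -/
theorem comm_step (hsh : shortChk D = true) {i r s : ℕ} (hi : i < D.rank) (hr : r < D.nroots)
    (hs : s < D.nroots) (t u : F)
    (h : D.x F (D.reflectRoot i s) ((T.eta i s : F) * u) * D.x F (D.reflectRoot i r) ((T.eta i r : F) * t) =
      D.x F (D.reflectRoot i r) ((T.eta i r : F) * t) * D.x F (D.reflectRoot i s) ((T.eta i s : F) * u) *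
        D.wordMat F (D.commWord F (D.reflectRoot i r) (D.reflectRoot i s) ((T.eta i r : F) * t)
          ((T.eta i s : F) * u))) :
    D.x F s u * D.x F r t = D.x F r t * D.x F s u * D.wordMat F (D.commWord F r s t u) := by
  refine mul_left_cancel_n hC hi ?_
  have hw := n_conj_word hC hi (D.commWord F r s t u) (by
    intro p hp
    simp only [ChevalleyDatum.commWord, List.mem_map] at hp
    obtain ⟨c, hc, rfl⟩ := hp
    exact commTerms_lt hC hr hs c hc)
  rw [← commWord_transport hC hsh hi hr hs t u] at hw
  simp only [← mul_assoc]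
  rw [n_conj hC hi hs, mul_assoc (D.x F (D.reflectRoot i s) _), n_conj hC hi hr, ← mul_assoc, h]
  simp only [mul_assoc]
  rw [← hw, ← mul_assoc (D.x F (D.reflectRoot i s) _), ← n_conj hC hi hs]
  simp only [← mul_assoc]

/-- Chevalley's commutator formula. -/
theorem x_comm {r s : ℕ} (hr : r < D.nroots) (hs : s < D.nroots) (hsr : s ≠ r) (hsn : s ≠ D.neg r)
    (t u : F) :
    D.x F s u * D.x F r t = D.x F r t * D.x F s u * D.wordMat F (D.commWord F r s t u) := by
  rcases hC.comm with hall | ⟨hrep, hsh⟩
  · exact comm_of_pair hC hr hs hsr hsn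
      (of_allR (of_allR hall r (by rw [hC.n_eq]; exact hr)) s (by rw [hC.n_eq]; exact hs)) t u
  have hne : ∀ {i a b : ℕ}, i < D.rank → a < D.nroots → b < D.nroots → b ≠ a → b ≠ D.neg a →
      D.reflectRoot i b ≠ D.reflectRoot i a ∧ D.reflectRoot i b ≠ D.neg (D.reflectRoot i a) := by
    intro i a b hi ha hb h1 h2
    refine ⟨fun h => h1 ?_, fun h => h2 ?_⟩
    · rw [← hC.reflect_reflect hi hb, h, hC.reflect_reflect hi ha]
    · rw [← hC.reflect_reflect hi hb, h, ← hC.reflect_neg hi ha,
        hC.reflect_reflect hi (hC.neg_lt ha)]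
  revert s t u
  refine dom_induction hC (P := fun r => ∀ {s : ℕ}, s < D.nroots → s ≠ r → s ≠ D.neg r → ∀ t u : F,
    D.x F s u * D.x F r t = D.x F r t * D.x F s u * D.wordMat F (D.commWord F r s t u)) ?_ ?_ r hr
  · intro r hr hd
    have key : ∀ k, ∀ s < D.nroots, D.nroots ≤ s + k → s ≠ r → s ≠ D.neg r → ∀ t u : F,
        D.x F s u * D.x F r t = D.x F r t * D.x F s u * D.wordMat F (D.commWord F r s t u) := by
      intro k
      induction k with
      | zero => intro s hs h; omega
      | succ k ih =>
        intro s hs h hsr hsn t u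
        by_cases hst : domStab T r s = true
        · have h1 := of_allR hrep r (by rw [hC.n_eq]; exact hr)
          rw [hd, Bool.not_true, Bool.false_or] at h1
          have h2 := of_allR h1 s (by rw [hC.n_eq]; exact hs)
          rw [hst, Bool.not_true, Bool.false_or] at h2
          exact comm_of_pair hC hr hs hsr hsn h2 t u
        · obtain ⟨i, hi, hA0, hAneg⟩ : ∃ i < D.rank, D.cartan i r = 0 ∧ D.cartan i s < 0 := by
            by_contra hcon
            simp only [not_exists, not_and, not_lt] at hcon
            apply hst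
            have key : ∀ m, m ≤ T.l → (Nat.rec true (fun i ih =>
                bif (!isZ (T.A i r) || isNN (T.A i s)) then ih else false) m : Bool) = true := by
              intro m
              induction m with
              | zero => intro _; rfl
              | succ m ih =>
                intro hm
                show (bif (!isZ (T.A m r) || isNN (T.A m s)) then _ else false) = true
                have hm' : m < D.rank := by rw [← hC.l_eq]; omega
                have h0 : (!isZ (T.A m r) || isNN (T.A m s)) = true := by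
                  rw [hC.linked.A_eq m hm' r hr, hC.linked.A_eq m hm' s hs]
                  by_cases hz : D.cartan m r = 0
                  · rw [(isNN_iff _).2 (hcon m hm' hz), Bool.or_true]
                  · rw [Bool.eq_false_iff.2 (fun hb => hz ((isZ_iff _).1 hb)), Bool.not_false,
                      Bool.true_or]
                rw [h0, cond_true]
                exact ih (by omega)
            exact key T.l le_rfl
          have hwr : D.reflectRoot i r = r := by
            refine hC.phi_inj (hC.reflect_lt hi hr) hr ?_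
            rw [hC.phi_reflect hi hr, hA0]; ring
          have hlt : s < D.reflectRoot i s := by
            refine (hC.phi_lt_iff hs (hC.reflect_lt hi hs)).1 ?_
            rw [hC.phi_reflect hi hs]
            have := mul_neg_of_neg_of_pos hAneg (hC.phi_simple hi)
            omega
          obtain ⟨h1, h2⟩ := hne hi hr hs hsr hsn
          refine comm_step hC hsh hi hr hs t u ?_
          rw [hwr] at h1 h2 ⊢
          exact ih _ (hC.reflect_lt hi hs) (by omega) h1 h2 _ _
    intro s hs
    exact key D.nroots s hs (by omega)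
  · intro r hr i hi ih s hs hsr hsn t u
    obtain ⟨h1, h2⟩ := hne hi hr hs hsr hsn
    exact comm_step hC hsh hi hr hs t u (ih (hC.reflect_lt hi hs) h1 h2 _ _)

/-! ### `n_r(t)` and `h_r(t)` for every root -/

theorem n_conj_nMat {i r : ℕ} (hi : i < D.rank) (hr : r < D.nroots) {t : F} :
    D.nMat F (D.simple i) 1 * D.nMat F r t =
      D.nMat F (D.reflectRoot i r) ((T.eta i r : F) * t) * D.nMat F (D.simple i) 1 := by
  have h := n_conj_word hC hi (D.nWord r t) (by
    simp only [ChevalleyDatum.nWord, List.mem_cons, List.not_mem_nil, or_false]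
    rintro p (rfl | rfl | rfl)
    exacts [hr, hC.neg_lt hr, hr])
  rw [ChevalleyDatum.nMat, ChevalleyDatum.nMat]
  rw [ChevalleyDatum.nMat] at h
  rw [h]
  simp only [ChevalleyDatum.nWord, List.map_cons, List.map_nil, hC.reflect_neg hi hr,
    hC.eta_neg hi hr]
  congr 5
  rcases Certified.eta_cases (T := T) i r with e | e <;> simp [e, inv_neg]

theorem nMat_mul_neg (r : ℕ) (t : F) : D.nMat F r t * D.nMat F r (-t) = 1 := by
  simp only [ChevalleyDatum.nMat, ChevalleyDatum.nWord, wordMat_cons, wordMat_nil, mul_one,
    inv_neg, _root_.neg_neg]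
  have h1 := x_mul_neg hC r t
  have h2 := x_neg_mul hC (D.neg r) t⁻¹
  calc D.x F r t * (D.x F (D.neg r) (-t⁻¹) * D.x F r t) *
        (D.x F r (-t) * (D.x F (D.neg r) t⁻¹ * D.x F r (-t)))
      = D.x F r t * D.x F (D.neg r) (-t⁻¹) * (D.x F r t * D.x F r (-t)) *
          (D.x F (D.neg r) t⁻¹ * D.x F r (-t)) := by simp only [mul_assoc]
    _ = D.x F r t * (D.x F (D.neg r) (-t⁻¹) * D.x F (D.neg r) t⁻¹) * D.x F r (-t) := by
        rw [h1]; simp only [mul_assoc, one_mul, mul_one]
    _ = 1 := by rw [h2, mul_one, h1]

theorem hMat_eq (r : ℕ) (t : F) : D.hMat F r t = D.nMat F r t * D.nMat F r (-1) := by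
  simp [ChevalleyDatum.hMat, ChevalleyDatum.nMat, ChevalleyDatum.hWord, ChevalleyDatum.wordMat]

/-- `⟨h_r, s⟩`. -/
def pair (D : ChevalleyDatum) (r s : ℕ) : ℤ :=
  ∑ j ∈ Finset.range D.rank, cor D r j * D.cartan j s

theorem pair_simple {i s : ℕ} (hi : i < D.rank) : pair D (D.simple i) s = D.cartan i s := by
  rw [pair, Finset.sum_eq_single i]
  · rw [hC.cor_simple hi hi, if_pos rfl, one_mul]
  · intro j hj hji
    rw [hC.cor_simple hi (Finset.mem_range.1 hj), if_neg (Ne.symm hji), zero_mul]
  · intro h; exact absurd (Finset.mem_range.2 hi) h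

theorem pair_reflect {i r s : ℕ} (hi : i < D.rank) (hr : r < D.nroots) (hs : s < D.nroots) :
    pair D (D.reflectRoot i r) (D.reflectRoot i s) = pair D r s := by
  have hself : ∀ j ∈ Finset.range D.rank,
      cor D (D.reflectRoot i r) j * D.cartan j (D.reflectRoot i s) =
        cor D r j * D.cartan j s - D.cartan i s * (cor D r j * D.cartan j (D.simple i)) +
        if j = i then (∑ k ∈ Finset.range D.rank, cor D r k * D.cartan k (D.simple i)) * D.cartan i s
        else 0 := by
    intro j hj
    rw [hC.cor_reflect hi (Finset.mem_range.1 hj) hr,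
      hC.cartan_reflect hi (Finset.mem_range.1 hj) hs]
    by_cases hji : j = i
    · subst hji
      rw [if_pos rfl, if_pos rfl, hC.cartan_simple hi]
      ring
    · rw [if_neg hji, if_neg hji]
      ring
  rw [pair, Finset.sum_congr rfl hself, Finset.sum_add_distrib, Finset.sum_sub_distrib,
    ← Finset.mul_sum, Finset.sum_ite_eq' _ i, if_pos (Finset.mem_range.2 hi), pair]
  ring

theorem pair_self : ∀ r < D.nroots, pair D r r = 2 := by
  refine simple_induction hC (fun i hi => ?_) fun r hr i hi ih => ?_
  · rw [pair_simple hC hi, hC.cartan_simple hi]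
  · rw [pair_reflect hC hi hr hr, ih]

/-- `h_r(t)` is diagonal. -/
theorem hMat_diag : ∀ r < D.nroots, ∀ {t : F}, t ≠ 0 →
    D.hMat F r t = dMat D F (fun s => t ^ pair D r s) := by
  refine simple_induction hC (fun i hi t ht => ?_) fun r hr i hi ih t ht => ?_
  · rw [hMat_simple hC hi ht]
    exact dMat_congr fun s _ => by rw [pair_simple hC hi]
  have hu := n_one_unit (F := F) hC hi
  have hconj : ∀ χ : ℕ → F, D.nMat F (D.simple i) 1 * dMat D F χ =
      dMat D F (fun s => χ (D.reflectRoot i s)) * D.nMat F (D.simple i) 1 := by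
    intro χ
    refine ext_cols (fun j hj => ?_) (fun s hs => ?_)
    · rw [← Matrix.mulVec_mulVec, ← Matrix.mulVec_mulVec, dMat_h _ hj, n_h hC hi hj one_ne_zero,
        Matrix.mulVec_sub, Matrix.mulVec_smul, dMat_h _ hj, dMat_h _ hi]
    · rw [← Matrix.mulVec_mulVec, ← Matrix.mulVec_mulVec, dMat_v _ hs, Matrix.mulVec_smul,
        n_one_v hC hi hs, Matrix.mulVec_smul, dMat_v _ (hC.reflect_lt hi hs), smul_smul, smul_smul,
        hC.reflect_reflect hi hs, mul_comm]
  have hwlt := hC.reflect_lt hi hr
  have main : ∀ {t : F}, t ≠ 0 →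
      D.nMat F (D.reflectRoot i r) ((T.eta i r : F) * t) *
        D.nMat F (D.reflectRoot i r) ((T.eta i r : F) * -1) =
      dMat D F (fun s => t ^ pair D (D.reflectRoot i r) s) := by
    intro t ht
    have h1 : D.nMat F (D.simple i) 1 * D.hMat F r t =
        D.nMat F (D.reflectRoot i r) ((T.eta i r : F) * t) *
          D.nMat F (D.reflectRoot i r) ((T.eta i r : F) * -1) * D.nMat F (D.simple i) 1 := by
      rw [hMat_eq hC, ← mul_assoc, n_conj_nMat hC hi hr, mul_assoc, n_conj_nMat hC hi hr, mul_assoc]
    rw [ih ht, hconj] at h1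
    rw [← hu.mul_right_cancel h1]
    refine dMat_congr fun s hs => ?_
    show t ^ pair D r (D.reflectRoot i s) = _
    rw [← pair_reflect hC hi hr (hC.reflect_lt hi hs), hC.reflect_reflect hi hs]
  rcases Certified.eta_cases (T := T) i r with e | e
  · rw [hMat_eq hC]
    simpa [e] using main ht
  · have h1 := main (neg_ne_zero.2 ht)
    have h2 := main (t := (-1 : F)) (neg_ne_zero.2 one_ne_zero)
    simp only [e, Int.cast_neg, Int.cast_one, neg_mul, one_mul, _root_.neg_neg] at h1 h2
    have h3 := nMat_mul_neg hC (D.reflectRoot i r) (1 : F)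
    have h4 := nMat_mul_neg hC (D.reflectRoot i r) (-1 : F)
    rw [_root_.neg_neg] at h4
    have h5 : D.hMat F (D.reflectRoot i r) t *
        (D.nMat F (D.reflectRoot i r) 1 * D.nMat F (D.reflectRoot i r) 1) =
        dMat D F (fun s => (-t) ^ pair D (D.reflectRoot i r) s) := by
      rw [hMat_eq hC, ← h1]
      calc _ = D.nMat F (D.reflectRoot i r) t *
            (D.nMat F (D.reflectRoot i r) (-1) * D.nMat F (D.reflectRoot i r) 1) *
            D.nMat F (D.reflectRoot i r) 1 := by simp only [mul_assoc]
        _ = _ := by rw [h4, mul_one]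
    rw [h2] at h5
    calc D.hMat F (D.reflectRoot i r) t
        = D.hMat F (D.reflectRoot i r) t * dMat D F (fun s => (-1 : F) ^ pair D (D.reflectRoot i r) s) *
            dMat D F (fun s => (-1 : F) ^ pair D (D.reflectRoot i r) s) := by
          rw [mul_assoc, dMat_mul, show (fun s => (-1 : F) ^ pair D (D.reflectRoot i r) s *
            (-1 : F) ^ pair D (D.reflectRoot i r) s) = fun _ => 1 by
              funext s; rw [← mul_zpow, neg_one_mul, _root_.neg_neg, one_zpow], dMat_one, mul_one]
      _ = _ := by
          rw [h5, dMat_mul]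
          refine dMat_congr fun s _ => ?_
          rw [← mul_zpow, neg_mul_neg, mul_one]

end Cfsg.Agent.Chevalley.Relations
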