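import Cfsg.Agent.Lib.Chevalley.Columns

/-!
The defining relations of the root elements: `n_p(c)` is monomial, conjugation by `n_p`, additivity,
the commutator formula, and the diagonal elements `h_r(t)`.
-/

set_option autoImplicit false

open scoped Matrix

namespace Cfsg.Agent.Chevalley.Root

open Cfsg.Lie Cfsg.Agent.Chevalley.Eval Cfsg.Agent.Chevalley.Table Cfsg.Agent.Chevalley.Check
  Cfsg.Agent.Chevalley.Cert Cfsg.Agent.Chevalley.Columns

variable {D : ChevalleyDatum} {F : Type*} [Field F]

/-- Two matrices agree when they agree on the basis vectors. -/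
theorem ext_cols {A B : Matrix D.Idx D.Idx F}
    (h1 : ∀ j < D.rank, A *ᵥ eh D F j = B *ᵥ eh D F j)
    (h2 : ∀ s < D.nroots, A *ᵥ ev D F s = B *ᵥ ev D F s) : A = B := by
  refine matrix_ext D fun j hj => ?_
  by_cases hjl : j < D.rank
  · exact h1 j hjl
  · obtain ⟨s, rfl⟩ := Nat.exists_eq_add_of_le (Nat.le_of_not_lt hjl)
    exact h2 s (by omega)

/-- The diagonal matrix of a function on roots. -/
def dMat (D : ChevalleyDatum) (F : Type*) [Field F] (χ : ℕ → F) : Matrix D.Idx D.Idx F :=
  Matrix.diagonal (Sum.elim (fun _ => (1 : F)) (fun s : Fin D.nroots => χ s))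

theorem dMat_h (χ : ℕ → F) {j : ℕ} (hj : j < D.rank) : dMat D F χ *ᵥ eh D F j = eh D F j := by
  rw [eh_eq hj, dMat, Matrix.diagonal_mulVec_single]
  simp

theorem dMat_v (χ : ℕ → F) {s : ℕ} (hs : s < D.nroots) :
    dMat D F χ *ᵥ ev D F s = χ s • ev D F s := by
  rw [ev_eq hs, dMat, Matrix.diagonal_mulVec_single, ← Pi.single_smul]
  simp

theorem dMat_mul (χ χ' : ℕ → F) : dMat D F χ * dMat D F χ' = dMat D F (fun s => χ s * χ' s) := by
  rw [dMat, dMat, dMat, Matrix.diagonal_mul_diagonal]
  congr 1
  funext i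
  rcases i with i | i <;> simp

theorem dMat_one : dMat D F (fun _ => 1) = 1 := by
  rw [dMat, ← Matrix.diagonal_one]
  congr 1
  funext i
  rcases i with i | i <;> simp

theorem dMat_congr {χ χ' : ℕ → F} (h : ∀ s < D.nroots, χ s = χ' s) : dMat D F χ = dMat D F χ' := by
  rw [dMat, dMat]
  congr 1
  funext i
  rcases i with i | i
  · rfl
  · exact h i i.2

variable {T : Tab} (hC : Certified D T)
include hC

theorem n_word_val {i : ℕ} (hi : i < D.rank) (c : F) :
    wordVal c c⁻¹ (nLetters T i) = D.nWord (D.simple i) c := by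
  simp [nLetters, wordVal, ChevalleyDatum.nWord, lval, hC.simple_eq hi,
    hC.neg_eq (hC.simple_lt hi)]

theorem n_act {i : ℕ} (hi : i < D.rank) {c : F} (hc : c ≠ 0) {j : ℕ} (hj : j < D.rank + D.nroots) :
    D.nMat F (D.simple i) c *ᵥ basis D F j = vec D c c⁻¹ (nExpect T i j) := by
  have h := hC.refls i (by rw [hC.l_eq]; exact hi)
  simp only [reflsChk, Bool.and_eq_true] at h
  have h2 := of_allR h.2 j (by rw [Nat.add_eq, hC.l_eq, hC.n_eq]; exact hj)
  have h3 := vec_eq_of_sameInv D c c⁻¹ (mul_inv_cancel₀ hc) h2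
  rwa [vec_actWord c c⁻¹ (colValid hC), n_word_val hC hi, vec_unit] at h3

theorem n_h {i j : ℕ} (hi : i < D.rank) (hj : j < D.rank) {c : F} (hc : c ≠ 0) :
    D.nMat F (D.simple i) c *ᵥ eh D F j =
      eh D F j - (D.cartan j (D.simple i) : F) • eh D F i := by
  show D.nMat F (D.simple i) c *ᵥ basis D F j = _
  rw [n_act hC hi hc (by omega), nExpect, hC.l_eq, show Nat.blt j D.rank = true by simp [Nat.blt_eq, hj],
    cond_true, vec_cons, hC.simple_eq hi, hC.linked.A_eq j hj _ (hC.simple_lt hi)]
  by_cases h0 : D.cartan j (D.simple i) = 0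
  · rw [(isZ_iff _).2 h0, cond_true, vec_nil, h0]
    simp [mval, eh]
  · rw [Bool.eq_false_iff.2 (fun hb => h0 ((isZ_iff _).1 hb)), cond_false, vec_cons, vec_nil]
    simp [mval, eh, ineg_eq, sub_eq_add_neg]

theorem n_v {i s : ℕ} (hi : i < D.rank) (hs : s < D.nroots) {c : F} (hc : c ≠ 0) :
    D.nMat F (D.simple i) c *ᵥ ev D F s =
      ((T.eta i s : F) * c ^ (-D.cartan i s)) • ev D F (D.reflectRoot i s) := by
  show D.nMat F (D.simple i) c *ᵥ basis D F (D.rank + s) = _
  rw [n_act hC hi hc (by omega), nExpect, hC.l_eq,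
    show Nat.blt (D.rank + s) D.rank = false by rw [Bool.eq_false_iff]; simp [Nat.blt_eq],
    cond_false, Nat.sub_eq, Nat.add_sub_cancel_left, vec_cons, vec_nil, add_zero,
    hC.linked.A_eq i hi s hs, hC.reflect_eq hi hs]
  simp only [mval, ev, Nat.add_eq, ineg_eq]
  congr 1
  rw [mul_assoc]
  congr 1
  obtain ⟨m, hm | hm⟩ := Int.eq_nat_or_neg (D.cartan i s)
  · rw [hm, zpow_neg, zpow_natCast, Int.toNat_natCast]
    simp
  · rw [hm, _root_.neg_neg, zpow_natCast, Int.toNat_natCast]
    simp

theorem n_one_v {i s : ℕ} (hi : i < D.rank) (hs : s < D.nroots) :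
    D.nMat F (D.simple i) 1 *ᵥ ev D F s = (T.eta i s : F) • ev D F (D.reflectRoot i s) := by
  simp [n_v hC hi hs one_ne_zero]

omit hC in
theorem eta_cast_sq (i s : ℕ) : (T.eta i s : F) * (T.eta i s : F) = 1 := by
  rw [← Int.cast_mul, Certified.eta_sq, Int.cast_one]

theorem eta_cast_reflect {i s : ℕ} (hi : i < D.rank) (hs : s < D.nroots) :
    (T.eta i (D.reflectRoot i s) : F) = (T.eta i s : F) * (-1) ^ (D.cartan i s) := by
  have h : ((T.eta i s : F) * (T.eta i (D.reflectRoot i s) : F)) = (-1) ^ (D.cartan i s) := by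
    rw [← Int.cast_mul, hC.eta_mul_eta hi hs]
    push_cast
    obtain ⟨m, hm | hm⟩ := Int.eq_nat_or_neg (D.cartan i s)
    · simp [hm]
    · rw [hm, Int.natAbs_neg, Int.natAbs_natCast, zpow_neg, zpow_natCast, ← inv_pow,
        inv_neg_one]
  rw [← h, ← mul_assoc, eta_cast_sq, one_mul]

theorem cartan_reflect_self {i s : ℕ} (hi : i < D.rank) (hs : s < D.nroots) :
    D.cartan i (D.reflectRoot i s) = -D.cartan i s := by
  rw [hC.cartan_reflect hi hi hs, hC.cartan_simple hi]
  ring

/-- `h_p(c)` is diagonal. -/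
theorem hMat_simple {i : ℕ} (hi : i < D.rank) {c : F} (hc : c ≠ 0) :
    D.hMat F (D.simple i) c = dMat D F (fun s => c ^ D.cartan i s) := by
  have e : D.hMat F (D.simple i) c = D.nMat F (D.simple i) c * D.nMat F (D.simple i) (-1) := by
    simp [ChevalleyDatum.hMat, ChevalleyDatum.nMat, ChevalleyDatum.hWord, ChevalleyDatum.wordMat]
  refine ext_cols (fun j hj => ?_) (fun s hs => ?_)
  · rw [e, ← Matrix.mulVec_mulVec, n_h hC hi hj (neg_ne_zero.2 one_ne_zero), Matrix.mulVec_sub,
      Matrix.mulVec_smul, n_h hC hi hj hc, n_h hC hi hi hc, hC.cartan_simple hi, dMat_h _ hj,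
      smul_sub, smul_smul, ← sub_eq_zero]
    push_cast
    module
  · rw [e, ← Matrix.mulVec_mulVec, n_v hC hi hs (neg_ne_zero.2 one_ne_zero), Matrix.mulVec_smul,
      n_v hC hi (hC.reflect_lt hi hs) hc, cartan_reflect_self hC hi hs, hC.reflect_reflect hi hs,
      smul_smul, _root_.neg_neg, dMat_v _ hs]
    congr 1
    rw [eta_cast_reflect hC hi hs, zpow_neg, ← inv_zpow, inv_neg_one]
    calc (T.eta i s : F) * (-1) ^ D.cartan i s *
          ((T.eta i s : F) * (-1) ^ D.cartan i s * c ^ D.cartan i s)
        = ((T.eta i s : F) * (T.eta i s : F)) * ((-1) ^ D.cartan i s * (-1) ^ D.cartan i s) *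
            c ^ D.cartan i s := by ring
      _ = c ^ D.cartan i s := by
        rw [eta_cast_sq, ← mul_zpow, neg_one_mul, _root_.neg_neg, one_zpow, one_mul, one_mul]

theorem n_one_unit {i : ℕ} (hi : i < D.rank) : IsUnit (D.nMat F (D.simple i) 1) := by
  have h2 : D.nMat F (D.simple i) 1 * D.nMat F (D.simple i) 1 =
      dMat D F (fun s => (-1 : F) ^ D.cartan i s) := by
    refine ext_cols (fun j hj => ?_) (fun s hs => ?_)
    · rw [← Matrix.mulVec_mulVec, n_h hC hi hj one_ne_zero, Matrix.mulVec_sub, Matrix.mulVec_smul,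
        n_h hC hi hj one_ne_zero, n_h hC hi hi one_ne_zero, hC.cartan_simple hi, dMat_h _ hj,
        smul_sub, smul_smul, ← sub_eq_zero]
      push_cast
      module
    · rw [← Matrix.mulVec_mulVec, n_one_v hC hi hs, Matrix.mulVec_smul,
        n_one_v hC hi (hC.reflect_lt hi hs), hC.reflect_reflect hi hs, smul_smul,
        eta_cast_reflect hC hi hs, ← mul_assoc, eta_cast_sq, one_mul, dMat_v _ hs]
  have h4 : D.nMat F (D.simple i) 1 *
      (D.nMat F (D.simple i) 1 * dMat D F (fun s => (-1 : F) ^ D.cartan i s)) = 1 := by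
    rw [← mul_assoc, h2, dMat_mul, ← dMat_one (D := D)]
    refine dMat_congr fun s _ => ?_
    rw [← mul_zpow, neg_one_mul, _root_.neg_neg, one_zpow]
  exact isUnit_iff_exists.2 ⟨_, h4, mul_eq_one_comm.1 h4⟩

theorem n_chainVec {i r b : ℕ} (hi : i < D.rank) (hr : r < D.nroots) (t : F) :
    ∀ (L : List (ℕ × ℤ)) (k : ℕ), (∀ q ∈ L, q.1 < D.nroots) →
      D.nMat F (D.simple i) 1 *ᵥ chainVec D F t k L =
        (T.eta i b : F) • chainVec D F ((T.eta i r : F) * t) k
          (List.rec (fun _ => [])
            (fun q _ ih k => (T.refl i q.1,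
              Int.mul q.2 (Int.mul (T.eta i q.1) (Int.mul (T.eta i b) (zpw (T.eta i r) k)))) ::
                ih (Nat.add k 1)) L k) := by
  intro L
  induction L with
  | nil => intro k _; simp [chainVec]
  | cons q L ih =>
    intro k hL
    have hq := hL q List.mem_cons_self
    show D.nMat F (D.simple i) 1 *ᵥ (((q.2 : F) * t ^ k) • ev D F q.1 + chainVec D F t (k + 1) L) =
      (T.eta i b : F) • ((((Int.mul q.2 (Int.mul (T.eta i q.1)
        (Int.mul (T.eta i b) (zpw (T.eta i r) k))) : ℤ) : F) * ((T.eta i r : F) * t) ^ k) •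
          ev D F (T.refl i q.1) + chainVec D F ((T.eta i r : F) * t) (k + 1) _)
    rw [Matrix.mulVec_add, Matrix.mulVec_smul, n_one_v hC hi hq,
      ih (k + 1) (fun x hx => hL x (List.mem_cons_of_mem q hx)), smul_add, smul_smul, smul_smul,
      hC.reflect_eq hi hq]
    congr 2
    simp only [imul_eq, zpw_eq]
    push_cast
    rw [mul_pow]
    calc (q.2 : F) * t ^ k * (T.eta i q.1 : F)
        = ((T.eta i b : F) * (T.eta i b : F)) *
            (((T.eta i r : F) * (T.eta i r : F)) ^ k) *
            ((q.2 : F) * t ^ k * (T.eta i q.1 : F)) := by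
          rw [eta_cast_sq, eta_cast_sq, one_pow, one_mul, one_mul]
      _ = _ := by rw [mul_pow]; ring

theorem chain_roots_lt {r s : ℕ} (hr : r < D.nroots) :
    ∀ q ∈ D.chainEntry r s, q.1 < D.nroots := by
  intro q hq
  obtain ⟨k, hk⟩ := List.mem_iff_getElem?.1 hq
  exact (hC.chain_step hr hk).1

/-- Conjugation of a root element by `n_p`. -/
theorem n_conj {i r : ℕ} (hi : i < D.rank) (hr : r < D.nroots) (t : F) :
    D.nMat F (D.simple i) 1 * D.x F r t =
      D.x F (D.reflectRoot i r) ((T.eta i r : F) * t) * D.nMat F (D.simple i) 1 := by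
  have hwr := hC.reflect_lt hi hr
  refine ext_cols (fun j hj => ?_) (fun s hs => ?_)
  · rw [← Matrix.mulVec_mulVec, ← Matrix.mulVec_mulVec, x_h hC hr hj, Matrix.mulVec_sub,
      Matrix.mulVec_smul, n_h hC hi hj one_ne_zero, n_one_v hC hi hr, Matrix.mulVec_sub,
      Matrix.mulVec_smul, x_h hC hwr hj, x_h hC hwr hi, hC.cartan_reflect hi hj hr,
      cartan_reflect_self hC hi hr]
    push_cast
    module
  rw [← Matrix.mulVec_mulVec, ← Matrix.mulVec_mulVec]
  by_cases h1 : s = r
  · subst h1
    rw [x_self hC hr, n_one_v hC hi hr, Matrix.mulVec_smul, x_self hC hwr]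
  by_cases h2 : s = D.neg r
  · subst h2
    rw [x_neg hC hr, n_one_v hC hi (hC.neg_lt hr), hC.reflect_neg hi hr, hC.eta_neg hi hr,
      Matrix.mulVec_sub, Matrix.mulVec_add, Matrix.mulVec_smul, Matrix.mulVec_smul,
      Matrix.mulVec_sum, n_one_v hC hi hr, n_one_v hC hi (hC.neg_lt hr), hC.reflect_neg hi hr,
      hC.eta_neg hi hr, Matrix.mulVec_smul, x_neg hC hwr]
    have hsum : ∑ j ∈ Finset.range D.rank, D.nMat F (D.simple i) 1 *ᵥ ((cor D r j : F) • eh D F j) =
        ∑ j ∈ Finset.range D.rank, (cor D (D.reflectRoot i r) j : F) • eh D F j := by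
      have e1 : ∀ j ∈ Finset.range D.rank,
          D.nMat F (D.simple i) 1 *ᵥ ((cor D r j : F) • eh D F j) =
            (cor D r j : F) • eh D F j -
              ((cor D r j * D.cartan j (D.simple i) : ℤ) : F) • eh D F i := by
        intro j hj
        rw [Matrix.mulVec_smul, n_h hC hi (Finset.mem_range.1 hj) one_ne_zero]
        push_cast
        module
      have e2 : ∀ j ∈ Finset.range D.rank, (cor D (D.reflectRoot i r) j : F) • eh D F j =
          (cor D r j : F) • eh D F j - if j = i then
            (((∑ k ∈ Finset.range D.rank, cor D r k * D.cartan k (D.simple i)) : ℤ) : F) • eh D F i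
          else 0 := by
        intro j hj
        rw [hC.cor_reflect hi (Finset.mem_range.1 hj) hr]
        by_cases hji : j = i
        · subst hji
          rw [if_pos rfl, if_pos rfl]
          push_cast
          module
        · rw [if_neg hji, if_neg hji, sub_zero]
      rw [Finset.sum_congr rfl e1, Finset.sum_congr rfl e2, Finset.sum_sub_distrib,
        Finset.sum_sub_distrib, Finset.sum_ite_eq' _ i, if_pos (Finset.mem_range.2 hi),
        Int.cast_sum, Finset.sum_smul]
    rw [hsum, smul_sub, smul_add, smul_smul, smul_smul, smul_smul]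
    congr 2
    · congr 1
      rw [← mul_assoc, eta_cast_sq, one_mul]
    · rw [mul_pow, pow_two (T.eta i r : F), eta_cast_sq, one_mul, mul_comm]
  have hws := hC.reflect_lt hi hs
  have h1' : D.reflectRoot i s ≠ D.reflectRoot i r := fun h => h1 (by
    rw [← hC.reflect_reflect hi hs, h, hC.reflect_reflect hi hr])
  have h2' : D.reflectRoot i s ≠ D.neg (D.reflectRoot i r) := fun h => h2 (by
    rw [← hC.reflect_reflect hi hs, h, ← hC.reflect_neg hi hr,
      hC.reflect_reflect hi (hC.neg_lt hr)])
  rw [x_chain hC hr hs h1 h2, Matrix.mulVec_add, n_one_v hC hi hs, Matrix.mulVec_smul,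
    x_chain hC hwr hws h1' h2', smul_add, hC.chain_reflect hi hr hs,
    n_chainVec hC (b := s) hi hr t _ 1 (chain_roots_lt hC hr)]
  rfl

theorem mul_left_cancel_n {i : ℕ} (hi : i < D.rank) {A B : Matrix D.Idx D.Idx F}
    (h : D.nMat F (D.simple i) 1 * A = D.nMat F (D.simple i) 1 * B) : A = B :=
  (n_one_unit hC hi).mul_left_cancel h

/-- A root that is not dominant is raised by a fundamental reflection. -/
theorem raise {r : ℕ} (hr : r < D.nroots) (hd : dom T r ≠ true) :
    ∃ i < D.rank, r < D.reflectRoot i r := by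
  by_contra hcon
  simp only [not_exists, not_and, not_lt] at hcon
  apply hd
  have key : ∀ m, m ≤ T.l → (Nat.rec true (fun i ih => bif isNN (T.A i r) then ih else false) m :
      Bool) = true := by
    intro m
    induction m with
    | zero => intro _; rfl
    | succ m ih =>
      intro hm
      show (bif isNN (T.A m r) then _ else false) = true
      have hm' : m < D.rank := by rw [← hC.l_eq]; omega
      have h0 : 0 ≤ T.A m r := by
        rw [hC.linked.A_eq m hm' r hr]
        by_contra hneg
        have h1 := hC.phi_reflect hm' hr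
        have h2 := mul_neg_of_neg_of_pos (not_le.1 hneg) (hC.phi_simple hm')
        have h3 := (hC.phi_lt_iff hr (hC.reflect_lt hm' hr)).1 (by omega)
        have := hcon m hm'
        omega
      rw [(isNN_iff _).2 h0, cond_true]
      exact ih (by omega)
  exact key T.l le_rfl

/-- Induction on roots from the dominant ones downwards. -/
theorem dom_induction {P : ℕ → Prop} (hdom : ∀ r < D.nroots, dom T r = true → P r)
    (hstep : ∀ r < D.nroots, ∀ i < D.rank, P (D.reflectRoot i r) → P r) :
    ∀ r < D.nroots, P r := by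
  have key : ∀ k, ∀ r < D.nroots, D.nroots ≤ r + k → P r := by
    intro k
    induction k with
    | zero => intro r hr h; omega
    | succ k ih =>
      intro r hr h
      by_cases hd : dom T r = true
      · exact hdom r hr hd
      · obtain ⟨i, hi, hlt⟩ := raise hC hr hd
        exact hstep r hr i hi (ih _ (hC.reflect_lt hi hr) (by omega))
  exact fun r hr => key D.nroots r hr (by omega)

/-- Induction on roots from the fundamental ones, closing under fundamental reflections. -/
theorem simple_induction {P : ℕ → Prop} (hsimple : ∀ i < D.rank, P (D.simple i))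
    (hstep : ∀ r < D.nroots, ∀ i < D.rank, P r → P (D.reflectRoot i r)) :
    ∀ r < D.nroots, P r := by
  have hpos : ∀ r, ∀ hr : r < D.nroots, 0 < T.phi r → P r := by
    intro r
    induction r using Nat.strong_induction_on with
    | _ r ih =>
      intro hr hp
      obtain ⟨i, hi, h | h⟩ := hC.descent hr hp
      · exact h ▸ hsimple i hi
      by_cases hri : r = D.simple i
      · exact hri ▸ hsimple i hi
      have hwr := hC.reflect_lt hi hr
      have h1 := hC.phi_reflect hi hr
      have h2 := mul_pos h (hC.phi_simple hi)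
      have hlt := (hC.phi_lt_iff hwr hr).1 (by omega)
      have h3 := hstep _ hwr i hi (ih _ hlt hwr (hC.reflect_pos hi hr hri hp))
      rwa [hC.reflect_reflect hi hr] at h3
  -- the negative roots: lower `-r` to a negative fundamental root
  have hneg : ∀ r, ∀ hr : r < D.nroots, 0 < T.phi r → P (D.neg r) := by
    intro r
    induction r using Nat.strong_induction_on with
    | _ r ih =>
      intro hr hp
      have hsimp : ∀ j < D.rank, P (D.neg (D.simple j)) := fun j hj => by
        rw [← hC.reflect_simple hj]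
        exact hstep _ (hC.simple_lt hj) j hj (hsimple j hj)
      obtain ⟨i, hi, h | h⟩ := hC.descent hr hp
      · exact h ▸ hsimp i hi
      by_cases hri : r = D.simple i
      · exact hri ▸ hsimp i hi
      have hwr := hC.reflect_lt hi hr
      have h1 := hC.phi_reflect hi hr
      have h2 := mul_pos h (hC.phi_simple hi)
      have hlt := (hC.phi_lt_iff hwr hr).1 (by omega)
      have h3 := hstep _ (hC.neg_lt hwr) i hi (ih _ hlt hwr (hC.reflect_pos hi hr hri hp))
      rwa [← hC.reflect_neg hi hr, hC.reflect_reflect hi (hC.neg_lt hr)] at h3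
  intro r hr
  rcases lt_trichotomy (T.phi r) 0 with h | h | h
  · have h3 := hneg (D.neg r) (hC.neg_lt hr) (by rw [hC.phi_neg hr]; omega)
    rwa [hC.neg_neg hr] at h3
  · exact absurd h (hC.phi_ne_zero hr)
  · exact hpos r hr h

omit hC in
theorem binom_eq : ∀ k m, binom k m = Nat.choose k m
  | _, 0 => by simp [binom]
  | 0, m + 1 => by simp [binom]
  | k + 1, m + 1 => by simp [binom, Nat.choose_succ_succ, binom_eq k m, binom_eq k (m + 1)]

theorem x_add_dom {r : ℕ} (hr : r < D.nroots) (hd : dom T r = true) (t u : F) :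
    D.x F r t * D.x F r u = D.x F r (t + u) := by
  have h := of_allR hC.add r (by rw [hC.n_eq]; exact hr)
  rw [hd, Bool.not_true, Bool.false_or] at h
  refine matrix_ext D fun j hj => ?_
  have h1 := of_allR h j (by rw [Nat.add_eq, hC.l_eq, hC.n_eq]; exact hj)
  have h2 := vec_eq_of_same D t u h1
  rw [vec_actWord t u (colValid hC), vec_unit] at h2
  have e1 : D.wordMat F (wordVal t u [⟨r, 1, 0, 1⟩, ⟨r, 0, 1, 1⟩]) = D.x F r t * D.x F r u := by
    simp [wordVal, ChevalleyDatum.wordMat, lval]
  rw [e1] at h2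
  rw [h2, (colValid hC) r j (t + u), addExpect, vec_cons]
  congr 1
  · simp [mval]
  have key : ∀ (n : ℕ) (g : ℕ → Term), vec D t u ((List.range n).map g) =
      ∑ m ∈ Finset.range n, mval t u (g m) • basis D F (g m).idx := by
    intro n g
    induction n with
    | zero => simp [vec]
    | succ n ih =>
      rw [List.range_succ, List.map_append, vec_append, ih, Finset.sum_range_succ, List.map_singleton,
        vec_cons, vec_nil, add_zero]
  generalize T.col r j = es
  induction es with
  | nil => simp [vec]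
  | cons e es ih =>
    rw [List.flatMap_cons, vec_append, ih, key, List.map_cons, List.sum_cons]
    congr 1
    rw [add_pow, Finset.mul_sum, Finset.sum_smul]
    refine Finset.sum_congr rfl fun m _ => ?_
    simp only [mval, binom_eq]
    congr 1
    push_cast
    ring

end Cfsg.Agent.Chevalley.Root
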