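import Cfsg.Agent.Lib.Chevalley.Graded
import Cfsg.Agent.Lib.Chevalley.Weyl

/-!
Covers of a Chevalley group by root elements obeying the addition and commutator relations: the
unipotent subgroup of every positive system maps injectively.
-/

set_option autoImplicit false

open scoped Matrix

namespace Cfsg.Agent.Chevalley.StUnip

open Cfsg.Lie Cfsg.Agent.Chevalley.Eval Cfsg.Agent.Chevalley.Table Cfsg.Agent.Chevalley.Check
  Cfsg.Agent.Chevalley.Cert Cfsg.Agent.Chevalley.Relations Cfsg.Agent.Chevalley.Diag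
  Cfsg.Agent.Chevalley.Group Cfsg.Agent.Chevalley.Unip Cfsg.Agent.Chevalley.Borel
  Cfsg.Agent.Chevalley.Weyl

variable {D : ChevalleyDatum} {F : Type*} [Field F] {T : Tab} {hC : Certified D T}
variable {G : Type*} [Group G]

/-- A group with root elements satisfying the first two Steinberg relations, mapped to the Chevalley
group. -/
structure Sys (hC : Certified D T) (F : Type*) [Field F] (G : Type*) [Group G] where
  X : ℕ → F → G
  th : G →* GL D.Idx F
  th_X : ∀ r < D.nroots, ∀ t, th (X r t) = xg hC r t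
  add : ∀ r < D.nroots, ∀ t u, X r (t + u) = X r t * X r u
  comm : ∀ r < D.nroots, ∀ s < D.nroots, s ≠ r → s ≠ D.neg r → ∀ t u, X s u * X r t =
    X r t * X s u * ((D.commWord F r s t u).map fun p => X p.1 p.2).prod
  gen : Subgroup.closure {g | ∃ r t, r < D.nroots ∧ g = X r t} = ⊤

variable (S : Sys hC F G)

theorem X_zero {r : ℕ} (hr : r < D.nroots) : S.X r 0 = 1 := by
  have h := S.add r hr 0 0
  rw [add_zero] at h
  exact mul_eq_left.1 h.symm

theorem X_inv {r : ℕ} (hr : r < D.nroots) (t : F) : (S.X r t)⁻¹ = S.X r (-t) :=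
  inv_eq_of_mul_eq_one_right (by rw [← S.add r hr, add_neg_cancel, X_zero S hr])

/-- The weight pulled back by a word. -/
noncomputable def gW (D : ChevalleyDatum) (T : Tab) (w : List ℕ) (r : ℕ) : ℤ := T.phi (wL D w r)

/-- The subgroup of the roots made positive by `w`, of transported weight at least `a`. -/
def PS (S : Sys hC F G) (w : List ℕ) (a : ℕ) : Subgroup G :=
  Subgroup.closure {g | ∃ (s : ℕ) (t : F), s < D.nroots ∧ 0 < gW D T w s ∧ a ≤ wL D w s ∧ g = S.X s t}

/-- Additive forms are linear on chains. -/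
theorem chain_linear {f : ℕ → ℤ} {a : ℕ → ℤ} (hC : Certified D T)
    (hf : ∀ r < D.nroots, f r = T.phi r + Graded.lin D a r) {r s : ℕ} (hr : r < D.nroots) {k : ℕ}
    {q : ℕ × ℤ} (hq : (D.chainEntry r s)[k]? = some q) :
    f q.1 = ((k : ℤ) + 1) * f r + f s := by
  have hs : s < D.nroots := (hC.chain_spec hr (by intro h; rw [h] at hq; simp at hq)).1
  rw [hf _ (hC.chain_step hr hq).1, hf r hr, hf s hs, (hC.chain_step hr hq).2.2,
    Graded.lin_chain hC a hr hq]
  ring

theorem exists_lin_gW (hC : Certified D T) : ∀ {w : List ℕ}, (∀ i ∈ w, i < D.rank) →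
    ∃ a : ℕ → ℤ, ∀ r < D.nroots, gW D T w r = T.phi r + Graded.lin D a r := by
  suffices key : ∀ w : List ℕ, (∀ i ∈ w, i < D.rank) → ∀ (f : ℕ → ℤ) (a : ℕ → ℤ),
      (∀ r < D.nroots, f r = T.phi r + Graded.lin D a r) →
      ∃ b : ℕ → ℤ, ∀ r < D.nroots, f (wL D w r) = T.phi r + Graded.lin D b r from
    fun {w} hw => key w hw (fun r => T.phi r) 0 fun r _ => by simp [Graded.lin]
  intro w
  induction w with
  | nil => exact fun _ f a hf => ⟨a, hf⟩
  | cons i w ih =>
    intro hw f a hf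
    have hi := hw i List.mem_cons_self
    refine ih (fun j hj => hw j (List.mem_cons_of_mem i hj)) (fun r => f (D.reflectRoot i r))
      (fun j => a j - if j = i then T.phi (D.simple i) + Graded.lin D a (D.simple i) else 0)
      fun r hr => ?_
    rw [hf _ (hC.reflect_lt hi hr), hC.phi_reflect hi hr, Graded.lin_reflect hC a hi hr, Graded.lin,
      Graded.lin, Graded.lin]
    simp only [sub_mul, Finset.sum_sub_distrib, ite_mul, zero_mul, Finset.sum_ite_eq',
      Finset.mem_range, if_pos hi]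
    ring

theorem gW_commTerms (hC : Certified D T) {w : List ℕ} (hw : ∀ i ∈ w, i < D.rank) {r s : ℕ}
    (hr : r < D.nroots) (hs : s < D.nroots) :
    ∀ c ∈ D.commTerms r s, c.1 < D.nroots ∧ ∃ i j : ℕ, 1 ≤ i ∧ 1 ≤ j ∧
      gW D T w c.1 = i * gW D T w r + j * gW D T w s := by
  obtain ⟨a, ha⟩ := exists_lin_gW hC hw
  intro c hc
  refine ⟨commTerms_lt hC hr hs c hc, ?_⟩
  have hroot : ∀ {x y m k : ℕ}, x < D.nroots → D.chainRoot x y m = some k →
      gW D T w k = ((m - 1 : ℕ) + 1 : ℤ) * gW D T w x + gW D T w y := by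
    intro x y m k hx h
    obtain ⟨q, hq, rfl⟩ := Option.map_eq_some_iff.1 h
    exact chain_linear hC ha hx hq
  simp only [ChevalleyDatum.commTerms, List.mem_filterMap] at hc
  obtain ⟨x, hx, hxc⟩ := hc
  obtain ⟨k, hk, rfl⟩ := Option.map_eq_some_iff.1 hxc
  simp only [List.mem_cons, List.not_mem_nil, or_false] at hx
  rcases hx with rfl | rfl | rfl | rfl | rfl | rfl | rfl
  · exact ⟨1, 1, le_rfl, le_rfl, by rw [hroot hr hk]; norm_num⟩
  · exact ⟨2, 1, by omega, le_rfl, by rw [hroot hr hk]; norm_num⟩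
  · exact ⟨1, 2, le_rfl, by omega, by rw [hroot hs hk]; norm_num; ring⟩
  · exact ⟨3, 1, by omega, le_rfl, by rw [hroot hr hk]; norm_num⟩
  · exact ⟨1, 3, le_rfl, by omega, by rw [hroot hs hk]; norm_num; ring⟩
  · obtain ⟨m, hm, hmk⟩ := Option.bind_eq_some_iff.1 hk
    exact ⟨3, 2, by omega, by omega, by
      rw [hroot (chainRoot_lt hC hr hm) hmk, hroot hr hm]; norm_num; ring⟩
  · obtain ⟨m, hm, hmk⟩ := Option.bind_eq_some_iff.1 hk
    exact ⟨2, 3, by omega, by omega, by
      rw [hroot (chainRoot_lt hC hs hm) hmk, hroot hs hm]; norm_num; ring⟩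

variable {w : List ℕ} (hw : ∀ i ∈ w, i < D.rank)

theorem X_mem_PS {a s : ℕ} (hs : s < D.nroots) (hp : 0 < gW D T w s) (ha : a ≤ wL D w s) (t : F) :
    S.X s t ∈ PS S w a :=
  Subgroup.subset_closure ⟨s, t, hs, hp, ha, rfl⟩

theorem X_mem_PS0 {s : ℕ} (hs : s < D.nroots) (hp : 0 < gW D T w s) (t : F) :
    S.X s t ∈ PS S w 0 :=
  X_mem_PS S hs hp (Nat.zero_le _) t

include hw

theorem conj_PS {r : ℕ} (hr : r < D.nroots) (hp : 0 < gW D T w r) (t : F) {a : ℕ} {g : G}
    (hg : g ∈ PS S w a) : S.X r t * g * (S.X r t)⁻¹ ∈ PS S w a := by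
  induction hg using Subgroup.closure_induction with
  | mem g hg =>
    obtain ⟨s, u, hs, hps, has, rfl⟩ := hg
    by_cases hsr : s = r
    · subst hsr
      rw [← S.add s hs, X_inv S hs, ← S.add s hs]
      exact X_mem_PS S hs hps has _
    · have hsn : s ≠ D.neg r := by
        rintro rfl
        rw [gW, wL_neg hC hw hr, hC.phi_neg (wL_lt hC hw hr)] at hps
        rw [gW] at hp
        omega
      have h := S.comm r hr s hs hsr hsn (-t) u
      rw [← X_inv S hr t] at h
      have e : S.X r t * S.X s u * (S.X r t)⁻¹ = S.X s u *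
          ((D.commWord F r s (-t) u).map fun p => S.X p.1 p.2).prod := by
        rw [mul_assoc, h]; simp only [← mul_assoc, mul_inv_cancel, one_mul]
      rw [e]
      refine mul_mem (X_mem_PS S hs hps has u) (list_prod_mem fun g hg => ?_)
      obtain ⟨p, hp', rfl⟩ := List.mem_map.1 hg
      simp only [ChevalleyDatum.commWord, List.mem_map] at hp'
      obtain ⟨c, hc, rfl⟩ := hp'
      obtain ⟨hk, i, j, hi, hj, hphi⟩ := gW_commTerms hC hw hr hs c hc
      have h1 : gW D T w r + gW D T w s ≤ gW D T w c.1 := by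
        rw [hphi]
        exact add_le_add (le_mul_of_one_le_left hp.le (by exact_mod_cast hi))
          (le_mul_of_one_le_left hps.le (by exact_mod_cast hj))
      refine X_mem_PS S hk (by omega) ?_ _
      simp only [gW] at h1 hp hps
      have h3 := (hC.phi_lt_iff (wL_lt hC hw hs) (wL_lt hC hw hk)).1 (by omega)
      omega
  | one => simp
  | mul x y _ _ ihx ihy =>
    rw [show S.X r t * (x * y) * (S.X r t)⁻¹ =
      S.X r t * x * (S.X r t)⁻¹ * (S.X r t * y * (S.X r t)⁻¹) by group]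
    exact mul_mem ihx ihy
  | inv x _ ih =>
    rw [show S.X r t * x⁻¹ * (S.X r t)⁻¹ = (S.X r t * x * (S.X r t)⁻¹)⁻¹ by group]
    exact inv_mem ih

theorem PS_peel {r : ℕ} (hr : r < D.nroots) (hp : 0 < gW D T w r) {g : G}
    (hg : g ∈ PS S w (wL D w r)) :
    ∃ t : F, ∃ v ∈ PS S w (wL D w r + 1), g = S.X r t * v := by
  induction hg using Subgroup.closure_induction with
  | mem g hg =>
    obtain ⟨s, t, hs, hps, has, rfl⟩ := hg
    rcases Nat.eq_or_lt_of_le has with h | h
    · obtain rfl := wL_injective hC hw hr hs h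
      exact ⟨t, 1, one_mem _, (mul_one _).symm⟩
    · exact ⟨0, _, X_mem_PS S hs hps h t, by rw [X_zero S hr, one_mul]⟩
  | one => exact ⟨0, 1, one_mem _, by rw [X_zero S hr, one_mul]⟩
  | mul x y _ _ ihx ihy =>
    obtain ⟨t, v, hv, rfl⟩ := ihx
    obtain ⟨t', v', hv', rfl⟩ := ihy
    refine ⟨t + t', (S.X r t')⁻¹ * v * S.X r t' * v', mul_mem ?_ hv', ?_⟩
    · have := conj_PS S hw hr hp (-t') hv
      rwa [← X_inv S hr, inv_inv] at this
    · rw [S.add r hr]; group
  | inv x _ ih =>
    obtain ⟨t, v, hv, rfl⟩ := ih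
    refine ⟨-t, S.X r t * v⁻¹ * (S.X r t)⁻¹, conj_PS S hw hr hp t (inv_mem hv), ?_⟩
    rw [← X_inv S hr t]; group

theorem PS_step {a : ℕ} (h : ¬ (a < D.nroots ∧ 0 < T.phi a)) : PS S w a = PS S w (a + 1) := by
  refine le_antisymm (Subgroup.closure_mono ?_) (Subgroup.closure_mono fun g ⟨s, t, h1, h2, h3, h4⟩ =>
    ⟨s, t, h1, h2, Nat.le_of_succ_le h3, h4⟩)
  rintro g ⟨s, t, h1, h2, h3, rfl⟩
  refine ⟨s, t, h1, h2, ?_, rfl⟩
  rcases Nat.eq_or_lt_of_le h3 with h4 | h4
  · exact absurd ⟨h4 ▸ wL_lt hC hw h1, h4 ▸ h2⟩ h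
  · exact h4

theorem exists_form : ∀ a, ∀ g ∈ PS S w a, ∃ f : ℕ → F,
    g = ((posFrom D a).map fun b => S.X (wL D w.reverse b) (f b)).prod := by
  have hwr : ∀ i ∈ w.reverse, i < D.rank := fun i hi => hw i (List.mem_reverse.1 hi)
  suffices key : ∀ k a, D.nroots ≤ a + k → ∀ g ∈ PS S w a, ∃ f : ℕ → F,
      g = ((posFrom D a).map fun b => S.X (wL D w.reverse b) (f b)).prod from
    fun a => key D.nroots a (by omega)
  intro k
  induction k with
  | zero =>
    intro a ha g hg
    have hb : PS S w a = ⊥ := by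
      rw [PS, eq_bot_iff, Subgroup.closure_le]
      rintro x ⟨s, t, h1, -, h3, -⟩
      have := wL_lt hC hw h1
      omega
    rw [hb, Subgroup.mem_bot] at hg
    refine ⟨0, ?_⟩
    have : posFrom D a = [] := List.eq_nil_iff_forall_not_mem.2 fun r hr => by
      have := (mem_posFrom hC).1 hr; omega
    simp [this, hg]
  | succ k ih =>
    intro a hak g hg
    by_cases hp : a < D.nroots ∧ 0 < T.phi a
    swap
    · rw [posFrom_skip hC hp]
      exact ih (a + 1) (by omega) g (PS_step S hw hp ▸ hg)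
    obtain ⟨ha, hp⟩ := hp
    have hwa : wL D w (wL D w.reverse a) = a := by simpa using wL_reverse hC hwr ha
    obtain ⟨t, v, hv, rfl⟩ := PS_peel S hw (r := wL D w.reverse a) (wL_lt hC hwr ha)
      (by rw [gW, hwa]; exact hp) (by rwa [hwa])
    rw [hwa] at hv
    obtain ⟨f, rfl⟩ := ih (a + 1) (by omega) v hv
    refine ⟨Function.update f a t, ?_⟩
    rw [posFrom_cons hC ha hp, List.map_cons, List.prod_cons, Function.update_self]
    congr 2
    refine List.map_congr_left fun b hb => ?_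
    rw [Function.update_of_ne (by have := ((mem_posFrom hC).1 hb).2.2; omega)]

/-- The projection is injective on the unipotent subgroup of a positive system. -/
theorem inj_on_PS {g g' : G} (hg : g ∈ PS S w 0) (hg' : g' ∈ PS S w 0) (h : S.th g = S.th g') :
    g = g' := by
  obtain ⟨f, rfl⟩ := exists_form S hw 0 g hg
  obtain ⟨f', rfl⟩ := exists_form S hw 0 g' hg'
  have hwr : ∀ i ∈ w.reverse, i < D.rank := fun i hi => hw i (List.mem_reverse.1 hi)
  have hmem : ∀ b ∈ posFrom D 0, b < D.nroots := fun b hb => ((mem_posFrom hC).1 hb).1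
  have hη : ∀ b, ∃ η : F, η ≠ 0 ∧ (b ∈ posFrom D 0 → ∀ t : F,
      nL hC F w * xg hC (wL D w.reverse b) t * (nL hC F w)⁻¹ = xg hC b (η * t)) := by
    intro b
    by_cases hb : b ∈ posFrom D 0
    · obtain ⟨η, hη, e⟩ := nL_conj_x (F := F) hC hw (wL_lt hC hwr (hmem b hb))
      refine ⟨η, hη, fun _ t => ?_⟩
      rw [e, show wL D w (wL D w.reverse b) = b by simpa using wL_reverse hC hwr (hmem b hb)]
    · exact ⟨1, one_ne_zero, fun h => absurd h hb⟩
  choose η hη0 hηe using hη
  have key : ∀ (f : ℕ → F) (L : List ℕ), (∀ b ∈ L, b ∈ posFrom D 0) →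
      nL hC F w * S.th ((L.map fun b => S.X (wL D w.reverse b) (f b)).prod) * (nL hC F w)⁻¹ =
        prodX hC L (fun b => η b * f b) := by
    intro f L hL
    induction L with
    | nil => simp [prodX]
    | cons b L ih =>
      have hb := hL b List.mem_cons_self
      have ih' := ih fun x hx => hL x (List.mem_cons_of_mem b hx)
      simp only [prodX, List.map_cons, List.prod_cons, map_mul] at ih' ⊢
      rw [S.th_X _ (wL_lt hC hwr (hmem b hb)), ← ih', ← hηe b hb (f b)]
      group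
  have h1 := key f _ fun b hb => hb
  rw [h, key f' _ fun b hb => hb] at h1
  have h2 := prodX_inj hC (posFrom_sorted 0)
    (fun b hb => ⟨hmem b hb, ((mem_posFrom hC).1 hb).2.1⟩) h1
  congr 1
  exact List.map_congr_left fun b hb => by rw [mul_left_cancel₀ (hη0 b) (h2 b hb)]

end Cfsg.Agent.Chevalley.StUnip
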