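import Cfsg.Agent.Lib.Chevalley.Eval

/-!
Fast accessors for the tables of a Chevalley datum: the tables are packed into natural numbers, so that
kernel computation reads an entry with two accelerated operations, and a linear check links them to the
datum's own arrays.
-/

set_option autoImplicit false

namespace Cfsg.Agent.Chevalley.Table

open Cfsg.Lie Cfsg.Agent.Chevalley.Eval

/-- Slot `i` of width `w` of a packed number. -/
def slot (w N i : ℕ) : ℕ := Nat.land (Nat.shiftRight N (Nat.mul w i)) (Nat.sub (Nat.shiftLeft 1 w) 1)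

/-- Pack a list of numbers, each into a slot of width `w`. -/
def pack (w : ℕ) : List ℕ → ℕ
  | [] => 0
  | a :: l => Nat.add a (Nat.shiftLeft (pack w l) w)

/-- The data of one root: `-r`, packed Cartan integers and coroot coefficients, packed chains, weight,
packed signs and reflected roots. -/
structure Row where
  ng : ℕ
  cart : ℕ
  cor : ℕ
  ch : ℕ
  phi : ℕ
  eta : ℕ
  refl : ℕ

/-- Binary trees of rows; a node records the size of its left part. -/
inductive RTree where
  | leaf : Row → RTree
  | node : ℕ → RTree → RTree → RTree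

/-- Lookup in a tree of rows. -/
noncomputable def RTree.get (t : RTree) : ℕ → Row :=
  RTree.rec (fun a _ => a) (fun n _ _ gl gr i => bif Nat.blt i n then gl i else gr (Nat.sub i n)) t

/-- The length of a list of chain steps, at most three, packed in slots of width 16. -/
noncomputable def decode (f c : ℕ) : List (ℕ × ℤ) :=
  Nat.rec (fun _ => [])
    (fun _ ih c => bif Nat.beq c 0 then []
      else (Nat.sub (Nat.land c 511) 1, Int.subNatNat (Nat.land (Nat.shiftRight c 9) 127) 8)
        :: ih (Nat.shiftRight c 16)) f c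

/-- Packed tables of a datum. -/
structure Tab where
  n : ℕ
  l : ℕ
  /-- slot width of the chain table -/
  w : ℕ
  sim : ℕ
  rows : RTree

namespace Tab

variable (T : Tab)

/-- The data of root `r`. -/
noncomputable def row (r : ℕ) : Row := T.rows.get r

/-- `-r`. -/
noncomputable def neg (r : ℕ) : ℕ := (T.row r).ng

/-- The index of a fundamental root. -/
def simple (i : ℕ) : ℕ := slot 8 T.sim i

/-- Cartan integer. -/
noncomputable def A (i r : ℕ) : ℤ := Int.subNatNat (slot 8 (T.row r).cart i) 64

/-- Coroot coefficient. -/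
noncomputable def C (r i : ℕ) : ℤ := Int.subNatNat (slot 8 (T.row r).cor i) 64

/-- Chain through `s` in direction `r`. -/
noncomputable def E (r s : ℕ) : List (ℕ × ℤ) := decode 3 (slot T.w (T.row r).ch s)

/-- An additive weight, increasing with the index. -/
noncomputable def phi (r : ℕ) : ℤ := Int.subNatNat (T.row r).phi 17179869184

/-- The sign with which `n_i` acts on the root vector of `s`. -/
noncomputable def eta (i s : ℕ) : ℤ :=
  bif Nat.beq (slot 1 (T.row s).eta i) 1 then Int.negSucc 0 else Int.ofNat 1

/-- The reflected root. -/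
noncomputable def refl (i s : ℕ) : ℕ := slot 8 (T.row s).refl i

end Tab

/-- Boolean equality of integers. -/
def ieq : ℤ → ℤ → Bool
  | Int.ofNat a, Int.ofNat b => Nat.beq a b
  | Int.negSucc a, Int.negSucc b => Nat.beq a b
  | _, _ => false

theorem ieq_iff (a b : ℤ) : ieq a b = true ↔ a = b := by
  cases a <;> cases b <;> simp [ieq, Nat.beq_eq] <;> omega

/-- Boolean equality of chains. -/
def eqChain : List (ℕ × ℤ) → List (ℕ × ℤ) → Bool
  | [], [] => true
  | p :: l, q :: m => Nat.beq p.1 q.1 && (ieq p.2 q.2 && eqChain l m)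
  | _, _ => false

theorem eq_of_eqChain : ∀ {l m : List (ℕ × ℤ)}, eqChain l m = true → l = m
  | [], [], _ => rfl
  | p :: l, q :: m, h => by
    simp only [eqChain, Bool.and_eq_true, Nat.beq_eq, ieq_iff] at h
    rw [eq_of_eqChain h.2.2, Prod.ext h.1 h.2.1]
  | [], _ :: _, h => by simp [eqChain] at h
  | _ :: _, [], h => by simp [eqChain] at h

/-- `∀ i < n`, computed from the top. -/
def allLT : ℕ → (ℕ → Bool) → Bool
  | 0, _ => true
  | n + 1, p => p n && allLT n p

theorem of_allLT {n : ℕ} {p : ℕ → Bool} (h : allLT n p = true) : ∀ i < n, p i = true := by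
  induction n with
  | zero => omega
  | succ n ih =>
    intro i hi
    simp only [allLT, Bool.and_eq_true] at h
    rcases Nat.lt_succ_iff_lt_or_eq.1 hi with hi | rfl
    exacts [ih h.2 i hi, h.1]

/-- Compare a list with a function on consecutive indices, and its length with `k`. -/
def chkList {α : Type} (eq : ℕ → α → Bool) : ℕ → ℕ → List α → Bool
  | 0, _, l => l.isEmpty
  | _ + 1, _, [] => false
  | k + 1, i, a :: l => eq i a && chkList eq k (Nat.add i 1) l

theorem of_chkList {α : Type} (eq : ℕ → α → Bool) (d : α) :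
    ∀ (k i : ℕ) (l : List α), chkList eq k i l = true →
      ∀ j < k, eq (i + j) (l.getD j d) = true := by
  intro k
  induction k with
  | zero => intro i l _ j hj; omega
  | succ k ih =>
    intro i l h j hj
    cases l with
    | nil => simp [chkList] at h
    | cons a l =>
      simp only [chkList, Bool.and_eq_true] at h
      cases j with
      | zero => simpa using h.1
      | succ j =>
        have := ih (i + 1) l h.2 j (by omega)
        rw [List.getD_cons_succ, show i + (j + 1) = i + 1 + j by omega]
        exact this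

/-- Walk along a row of the chain table, whose keys increase. -/
def walk (E : ℕ → List (ℕ × ℤ)) : ℕ → ℕ → List (ℕ × Array (ℕ × ℤ)) → Bool
  | 0, _, l => l.isEmpty
  | m + 1, b, [] => (E b).isEmpty && walk E m (Nat.add b 1) []
  | m + 1, b, e :: l =>
    bif Nat.beq e.1 b then eqChain (E b) e.2.toList && walk E m (Nat.add b 1) l
    else (E b).isEmpty && walk E m (Nat.add b 1) (e :: l)

theorem of_walk (E : ℕ → List (ℕ × ℤ)) :
    ∀ (m b : ℕ) (l : List (ℕ × Array (ℕ × ℤ))), walk E m b l = true →
      (∀ e ∈ l, b ≤ e.1 ∧ e.1 < b + m) ∧ (l.map Prod.fst).Nodup ∧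
      ∀ b', b ≤ b' → b' < b + m →
        E b' = match l.find? (fun e => e.1 = b') with
          | none => []
          | some e => e.2.toList := by
  intro m
  induction m with
  | zero =>
    intro b l h
    simp only [walk, List.isEmpty_iff] at h
    subst h
    refine ⟨by simp, by simp, fun b' h1 h2 => by omega⟩
  | succ m ih =>
    intro b l h
    cases l with
    | nil =>
      simp only [walk, Bool.and_eq_true, List.isEmpty_iff] at h
      obtain ⟨-, -, h3⟩ := ih _ _ h.2
      refine ⟨by simp, by simp, fun b' h1 h2 => ?_⟩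
      rcases Nat.eq_or_lt_of_le h1 with rfl | h1'
      · exact h.1
      · exact h3 b' h1' (by simp only [Nat.add_eq]; omega)
    | cons e l =>
      simp only [walk] at h
      by_cases he : e.1 = b
      · rw [he, Nat.beq_refl, cond_true, Bool.and_eq_true] at h
        obtain ⟨h1, h2, h3⟩ := ih _ _ h.2
        simp only [Nat.add_eq] at h1 h3
        refine ⟨?_, ?_, fun b' hb1 hb2 => ?_⟩
        · intro x hx
          rcases List.mem_cons.1 hx with rfl | hx
          · omega
          · have := h1 x hx; omega
        · rw [List.map_cons, List.nodup_cons]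
          refine ⟨fun hm => ?_, h2⟩
          obtain ⟨x, hx, hxe⟩ := List.mem_map.1 hm
          have := (h1 x hx).1
          omega
        · by_cases hb : b' = b
          · rw [hb, List.find?_cons_of_pos (by simpa using he)]
            exact eq_of_eqChain h.1
          · rw [List.find?_cons_of_neg (by simp; omega)]
            exact h3 b' (by omega) (by omega)
      · rw [Bool.eq_false_iff.2 (fun hh => he (Nat.eq_of_beq_eq_true hh)), cond_false,
          Bool.and_eq_true, List.isEmpty_iff] at h
        obtain ⟨h1, h2, h3⟩ := ih _ _ h.2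
        simp only [Nat.add_eq] at h1 h3
        refine ⟨fun x hx => ?_, h2, fun b' hb1 hb2 => ?_⟩
        · have := h1 x hx; omega
        · by_cases hb : b' = b
          · rw [hb, h.1, List.find?_eq_none.2]
            intro x hx
            have := (h1 x hx).1
            simp; omega
          · exact h3 b' (by omega) (by omega)

/-- The whole link check. -/
noncomputable def linkChk (D : ChevalleyDatum) (T : Tab) : Bool :=
  Nat.beq T.n D.nroots && (Nat.beq T.l D.rank &&
  (chkList (fun r a => Nat.beq (T.neg r) a) T.n 0 D.negIdx.toList &&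
  (chkList (fun r a => Nat.beq (T.simple r) a) T.l 0 D.simpleIdx.toList &&
  (chkList (fun i row => chkList (fun r z => ieq (T.A i r) z) T.n 0 row.toList) T.l 0
    D.cartanSR.toList &&
  (chkList (fun r row => chkList (fun i z => ieq (T.C r i) z) T.l 0 row.toList) T.n 0
    D.coroot.toList &&
  chkList (fun r row => walk (T.E r) T.n 0 row.toList) T.n 0 D.chain.toList)))))

/-- What the link check gives. -/
structure Linked (D : ChevalleyDatum) (T : Tab) : Prop where
  n_eq : T.n = D.nroots
  l_eq : T.l = D.rank
  neg_eq : ∀ r < D.nroots, T.neg r = D.neg r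
  simple_eq : ∀ i < D.rank, T.simple i = D.simple i
  A_eq : ∀ i < D.rank, ∀ r < D.nroots, T.A i r = D.cartan i r
  C_eq : ∀ r < D.nroots, ∀ i < D.rank, T.C r i = (D.coroot.getD r #[]).getD i 0
  E_eq : ∀ r < D.nroots, ∀ s < D.nroots, T.E r s = D.chainEntry r s
  keys_nodup : ∀ r < D.nroots, ((D.chain.getD r #[]).toList.map Prod.fst).Nodup
  keys_lt : ∀ r < D.nroots, ∀ e ∈ (D.chain.getD r #[]).toList, e.1 < D.nroots

theorem toList_getD {α : Type} (a : Array α) (i : ℕ) (d : α) : a.toList.getD i d = a.getD i d := by
  rcases a with ⟨l⟩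
  simp [Array.getD, List.getD_eq_getElem?_getD]
  split <;> simp_all

theorem linked_of_chk {D : ChevalleyDatum} {T : Tab} (h : linkChk D T = true) : Linked D T := by
  simp only [linkChk, Bool.and_eq_true, Nat.beq_eq] at h
  obtain ⟨hn, hl, hng, hsim, hA, hC, hE⟩ := h
  have hng' := of_chkList _ 0 _ _ _ hng
  have hsim' := of_chkList _ 0 _ _ _ hsim
  have hA' := of_chkList _ #[] _ _ _ hA
  have hC' := of_chkList _ #[] _ _ _ hC
  have hE' := of_chkList _ #[] _ _ _ hE
  simp only [Nat.zero_add, toList_getD, Nat.beq_eq, hn, hl] at hng' hsim' hA' hC' hE'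
  refine ⟨hn, hl, fun r hr => hng' r hr, fun i hi => hsim' i hi, fun i hi r hr => ?_,
    fun r hr i hi => ?_, fun r hr s hs => ?_, fun r hr => (of_walk _ _ _ _ (hE' r hr)).2.1,
    fun r hr e he => by simpa using ((of_walk _ _ _ _ (hE' r hr)).1 e he).2⟩
  · have h := of_chkList _ 0 _ _ _ (hA' i hi) r hr
    rwa [Nat.zero_add, toList_getD, ieq_iff] at h
  · have h := of_chkList _ 0 _ _ _ (hC' r hr) i hi
    rwa [Nat.zero_add, toList_getD, ieq_iff] at h
  · exact (of_walk _ _ _ _ (hE' r hr)).2.2 s (Nat.zero_le s) (by omega)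

/-- Nonzero coefficient filter. -/
def nz (i k : ℕ) (z : ℤ) : List (ℕ × ℕ × ℤ) := bif isZ z then [] else [(i, k, z)]

/-- Number the steps of a chain. -/
noncomputable def steps (l k : ℕ) (L : List (ℕ × ℤ)) : List (ℕ × ℕ × ℤ) :=
  List.rec (fun _ => []) (fun q _ ih k => (Nat.add l q.1, k, q.2) :: ih (Nat.add k 1)) L k

/-- The terms of a coroot. -/
noncomputable def corTerms (l : ℕ) (c : ℕ → ℤ) (rest : List (ℕ × ℕ × ℤ)) : List (ℕ × ℕ × ℤ) :=
  Nat.rec rest (fun i ih => bif isZ (c i) then ih else (i, 1, c i) :: ih) l

theorem corTerms_congr {l : ℕ} {c c' : ℕ → ℤ} (rest : List (ℕ × ℕ × ℤ))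
    (h : ∀ i < l, c i = c' i) : corTerms l c rest = corTerms l c' rest := by
  induction l with
  | zero => rfl
  | succ l ih =>
    show (bif isZ (c l) then _ else _) = bif isZ (c' l) then corTerms l c' rest
      else (l, 1, c' l) :: corTerms l c' rest
    rw [h l (Nat.lt_succ_self l), ← ih fun i hi => h i (Nat.lt_succ_of_lt hi)]
    rfl

/-- Column data from accessors. -/
noncomputable def colOf (n l : ℕ) (ng : ℕ → ℕ) (A C : ℕ → ℕ → ℤ) (E : ℕ → ℕ → List (ℕ × ℤ)) : Col := fun r j =>
  bif Nat.blt r n && Nat.blt j (Nat.add l n) then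
    bif Nat.blt j l then nz (Nat.add l r) 1 (-A j r)
    else bif Nat.beq (Nat.sub j l) r then []
    else bif Nat.beq (Nat.sub j l) (ng r) then
      corTerms l (C r) [(Nat.add l r, 2, -1)]
    else steps l 1 (E r (Nat.sub j l))
  else []

/-- Fast column data. -/
noncomputable def Tab.col (T : Tab) : Col := colOf T.n T.l T.neg T.A T.C T.E

/-- Column data of the datum. -/
noncomputable def colD (D : ChevalleyDatum) : Col :=
  colOf D.nroots D.rank D.neg D.cartan (fun r i => (D.coroot.getD r #[]).getD i 0) D.chainEntry

theorem col_eq {D : ChevalleyDatum} {T : Tab} (h : Linked D T) : T.col = colD D := by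
  funext r j
  simp only [Tab.col, colD, colOf, h.n_eq, h.l_eq]
  by_cases hc : r < D.nroots ∧ j < D.rank + D.nroots
  · obtain ⟨hr, hj⟩ := hc
    rw [show (Nat.blt r D.nroots && Nat.blt j (Nat.add D.rank D.nroots)) = true by
      simp [Nat.blt_eq]; omega, cond_true, cond_true]
    by_cases hjl : j < D.rank
    · rw [show Nat.blt j D.rank = true by simp [Nat.blt_eq, hjl], cond_true, cond_true,
        h.A_eq j hjl r hr]
    · rw [show Nat.blt j D.rank = false by rw [Bool.eq_false_iff]; simp [Nat.blt_eq]; omega,
        cond_false, cond_false, h.neg_eq r hr, h.E_eq r hr (Nat.sub j D.rank) (by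
          show j - D.rank < D.nroots; omega)]
      rw [corTerms_congr _ (fun i hi => h.C_eq r hr i hi)]
  · rw [show (Nat.blt r D.nroots && Nat.blt j (Nat.add D.rank D.nroots)) = false by
      rw [Bool.eq_false_iff]; simp [Nat.blt_eq]; omega]
    rfl

end Cfsg.Agent.Chevalley.Table
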