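import Cfsg.Agent.Lib.Chevalley.Perfect
import Cfsg.Agent.Lib.Chevalley.StConj
import Cfsg.Agent.Lib.Chevalley.Twist.Build

/-!
Generation of Chevalley groups by two elements: closing a set of known root subgroups under the
monomial element of a Coxeter word and under commutators.
-/

set_option autoImplicit false

open scoped Matrix

namespace Cfsg.Agent.Chevalley.TwoGen

open Cfsg.Lie Cfsg.Agent.Chevalley.Eval Cfsg.Agent.Chevalley.Table Cfsg.Agent.Chevalley.Check
  Cfsg.Agent.Chevalley.Cert Cfsg.Agent.Chevalley.Root Cfsg.Agent.Chevalley.Relations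
  Cfsg.Agent.Chevalley.Group Cfsg.Agent.Chevalley.Unip Cfsg.Agent.Chevalley.Borel
  Cfsg.Agent.Chevalley.Weyl

/-- Membership, by the kernel. -/
noncomputable def memL (x : ℕ) (L : List ℕ) : Bool :=
  List.rec false (fun a _ ih => bif Nat.beq a x then true else ih) L

/-- A coefficient allowed by a list of absolute values. -/
noncomputable def okC (U : List ℕ) (z : ℤ) : Bool := memL z.natAbs U

/-- All terms are known except one, which is the target with an allowed coefficient and a linear
exponent. -/
noncomputable def single (U known : List ℕ) (k : ℕ) (L : List (ℕ × ℤ × ℕ × ℕ)) : Bool :=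
  List.rec false (fun c L' ih => bif memL c.1 known then ih else
    ((Nat.beq c.1 k && okC U c.2.1) && (Nat.beq c.2.2.1 1 || Nat.beq c.2.2.2 1)) &&
      allL (fun d => memL d.1 known) L') L

/-- Apply the steps, collecting the new roots. -/
noncomputable def closeAll (T : Tab) (U : List ℕ) (steps : List (ℕ × ℕ × ℕ)) :
    List ℕ → Option (List ℕ) :=
  List.rec (fun known => some known)
    (fun st _ ih known =>
      bif (memL st.1 known && memL st.2.1 known) && ((!Nat.beq st.2.1 st.1 &&
          !Nat.beq st.2.1 (T.neg st.1)) && single U known st.2.2 (commOf T.E st.1 st.2.1))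
      then ih (st.2.2 :: known) else none) steps

/-- The iterates of a word on a root. -/
noncomputable def orbitL (T : Tab) (w : List ℕ) (g : ℕ) (h : ℕ) : List ℕ :=
  Nat.rec [g] (fun _ ih => List.rec ih (fun x _ _ => Twist.applyW T w x :: ih) ih) h

/-- The closure of some orbits contains every root. -/
noncomputable def closesChk (T : Tab) (U w : List ℕ) (h : ℕ) (gs : List ℕ)
    (steps : List (ℕ × ℕ × ℕ)) : Bool :=
  (allL (fun g => Nat.blt g T.n) gs && allL (fun i => Nat.blt i T.l) w) &&
    Option.rec false (fun known => allR T.n fun r => memL r known)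
      (closeAll T U steps (List.rec [] (fun g _ ih => orbitL T w g h ++ ih) gs))

theorem memL_iff {x : ℕ} {L : List ℕ} : memL x L = true ↔ x ∈ L := by
  induction L with
  | nil => simp [memL]
  | cons a L ih =>
    show (bif Nat.beq a x then true else memL x L) = true ↔ _
    rw [Bool.cond_true_left, Bool.or_eq_true, ih, List.mem_cons, Nat.beq_eq, eq_comm (a := a)]

variable {D : ChevalleyDatum} {F : Type*} [Field F] {T : Tab} (hC : Certified D T)
variable (K : Subgroup (GL D.Idx F))

/-- A whole root subgroup is contained. -/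
def Full (r : ℕ) : Prop := r < D.nroots ∧ ∀ t : F, xg hC r t ∈ K

variable {hC K}

theorem full_wL {w : List ℕ} (hw : ∀ i ∈ w, i < D.rank) (hn : nL hC F w ∈ K) {r : ℕ}
    (h : Full hC K r) : Full hC K (wL D w r) := by
  obtain ⟨η, hη, e⟩ := nL_conj_x (F := F) hC hw h.1
  refine ⟨wL_lt hC hw h.1, fun t => ?_⟩
  have h1 := mul_mem (mul_mem hn (h.2 (t / η))) (inv_mem hn)
  rwa [e, mul_div_cancel₀ _ hη] at h1

theorem group_le (h : ∀ r < D.nroots, Full hC K r) : D.group F ≤ K := by
  rw [group_eq_closure hC, Subgroup.closure_le]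
  rintro g ⟨r, t, hr, rfl⟩
  exact (h r hr).2 t

/-- The exceptional factor of a product. -/
theorem single_spec {U known : List ℕ} {k : ℕ} (hknown : ∀ x ∈ known, Full hC K x)
    (f : ℕ × ℤ × ℕ × ℕ → F) {L : List (ℕ × ℤ × ℕ × ℕ)} (h : single U known k L = true)
    (hL : (L.map fun c => xg hC c.1 (f c)).prod ∈ K) :
    ∃ d, d ∈ L ∧ L.find? (fun c => !memL c.1 known) = some d ∧ d.1 = k ∧ okC U d.2.1 = true ∧
      (d.2.2.1 = 1 ∨ d.2.2.2 = 1) ∧ xg hC k (f d) ∈ K := by
  induction L with
  | nil => simp [single] at h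
  | cons c L ih =>
    rw [List.map_cons, List.prod_cons] at hL
    change (bif memL c.1 known then single U known k L else _) = true at h
    cases hc : memL c.1 known with
    | true =>
      rw [hc, cond_true] at h
      obtain ⟨d, hd', hd, h'⟩ := ih h ((mul_mem_cancel_left ((hknown _ (memL_iff.1 hc)).2 _)).1 hL)
      exact ⟨d, List.mem_cons_of_mem c hd', by rw [List.find?_cons, hc]; simpa using hd, h'⟩
    | false =>
      rw [hc, cond_false] at h
      simp only [Bool.and_eq_true, Bool.or_eq_true, Nat.beq_eq] at h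
      obtain ⟨⟨⟨h1, h2⟩, h3⟩, h4⟩ := h
      refine ⟨c, List.mem_cons_self, by rw [List.find?_cons, hc]; rfl, h1, h2, h3, ?_⟩
      rw [← h1]
      refine (mul_mem_cancel_right (list_prod_mem fun x hx => ?_)).1 hL
      obtain ⟨d, hd, rfl⟩ := List.mem_map.1 hx
      exact (hknown _ (memL_iff.1 (of_allL h4 d hd))).2 _

/-- One commutator step. -/
theorem full_step {U known : List ℕ} (hU : ∀ z : ℤ, okC U z = true → (z : F) ≠ 0)
    (hknown : ∀ x ∈ known, Full hC K x) {r s k : ℕ} (hr : r ∈ known) (hs : s ∈ known)
    (h1 : s ≠ r) (h2 : s ≠ D.neg r) (hsingle : single U known k (D.commTerms r s) = true) :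
    Full hC K k := by
  have hrn := (hknown r hr).1
  have hsn := (hknown s hs).1
  have key : ∀ t u : F,
      ((D.commTerms r s).map fun c => xg hC c.1 ((c.2.1 : F) * (-t) ^ c.2.2.1 * u ^ c.2.2.2)).prod ∈ K := by
    intro t u
    have e := xg_comm (F := F) hC hrn hsn h1 h2 t u
    simp only [ChevalleyDatum.commWord, List.map_map, Function.comp_def] at e
    have h := mul_mem (inv_mem (mul_mem ((hknown r hr).2 t) ((hknown s hs).2 u)))
      (mul_mem ((hknown s hs).2 u) ((hknown r hr).2 t))
    rw [e, inv_mul_cancel_left] at h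
    exact h
  obtain ⟨d, hdm, hd, hdk, hdU, hd1, -⟩ := single_spec hknown _ hsingle (key 1 1)
  refine ⟨hdk ▸ commTerms_lt hC hrn hsn d hdm, fun v => ?_⟩
  have hd0 : (d.2.1 : F) ≠ 0 := hU _ hdU
  rcases hd1 with e | e
  · obtain ⟨d', -, hd', -, -, -, h⟩ := single_spec hknown _ hsingle (key (-(v / d.2.1)) 1)
    rw [hd] at hd'
    obtain rfl := Option.some.inj hd'
    simpa [e, mul_div_cancel₀ _ hd0] using h
  · obtain ⟨d', -, hd', -, -, -, h⟩ := single_spec hknown _ hsingle (key (-1) (v / d.2.1))
    rw [hd] at hd'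
    obtain rfl := Option.some.inj hd'
    simpa [e, mul_div_cancel₀ _ hd0] using h

theorem closeAll_spec {U : List ℕ} (hU : ∀ z : ℤ, okC U z = true → (z : F) ≠ 0) :
    ∀ (steps : List (ℕ × ℕ × ℕ)) (known res : List ℕ), (∀ x ∈ known, Full hC K x) →
      closeAll T U steps known = some res → ∀ x ∈ res, Full hC K x := by
  intro steps
  induction steps with
  | nil => intro known res h e; obtain rfl := Option.some.inj e; exact h
  | cons st steps ih =>
    intro known res h e
    change (bif _ then closeAll T U steps (st.2.2 :: known) else none) = some res at e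
    cases hb : ((memL st.1 known && memL st.2.1 known) && ((!Nat.beq st.2.1 st.1 &&
        !Nat.beq st.2.1 (T.neg st.1)) && single U known st.2.2 (commOf T.E st.1 st.2.1))) with
    | false => rw [hb, cond_false] at e; exact absurd e (by simp)
    | true =>
      rw [hb, cond_true] at e
      refine ih _ res (fun x hx => ?_) e
      rcases List.mem_cons.1 hx with rfl | hx
      · simp only [Bool.and_eq_true, memL_iff, Bool.not_eq_true'] at hb
        obtain ⟨⟨hr, hs⟩, ⟨h1, h2⟩, h3⟩ := hb
        rw [hC.neg_eq (h _ hr).1] at h2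
        rw [Perfect.commOf_eq hC (h _ hr).1 (h _ hs).1] at h3
        exact full_step hU h hr hs (Nat.ne_of_beq_eq_false h1) (Nat.ne_of_beq_eq_false h2) h3
      · exact h x hx

theorem orbitL_spec {w : List ℕ} (hw : ∀ i ∈ w, i < D.rank) (hn : nL hC F w ∈ K) {g : ℕ}
    (hg : Full hC K g) : ∀ h, ∀ x ∈ orbitL T w g h, Full hC K x := by
  intro h
  induction h with
  | zero => intro x hx; rw [List.mem_singleton.1 hx]; exact hg
  | succ h ih =>
    intro x hx
    change x ∈ (List.rec (orbitL T w g h) (fun y _ _ => Twist.applyW T w y :: orbitL T w g h)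
      (orbitL T w g h) : List ℕ) at hx
    cases hO : orbitL T w g h with
    | nil => rw [hO] at hx; exact absurd hx List.not_mem_nil
    | cons y L =>
      rw [hO] at hx ih
      rcases List.mem_cons.1 hx with rfl | hx
      · have hy := ih y List.mem_cons_self
        rw [show Twist.applyW T w y = wL D w y from StConj.actT_foldr hC hw hy.1]
        exact full_wL hw hn hy
      · exact ih x hx

theorem group_le_of_chk {U w gs : List ℕ} {h : ℕ} {steps : List (ℕ × ℕ × ℕ)}
    (hU : ∀ z : ℤ, okC U z = true → (z : F) ≠ 0) (hchk : closesChk T U w h gs steps = true)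
    (hn : nL hC F w ∈ K) (hgs : ∀ g ∈ gs, g < D.nroots → ∀ t : F, xg hC g t ∈ K) :
    D.group F ≤ K := by
  simp only [closesChk, Bool.and_eq_true] at hchk
  obtain ⟨⟨hg, hw⟩, hrest⟩ := hchk
  have hw' : ∀ i ∈ w, i < D.rank := fun i hi => by
    have := of_allL hw i hi
    rwa [Nat.blt_eq, hC.l_eq] at this
  have h0 : ∀ l : List ℕ, (∀ g ∈ l, g ∈ gs) →
      ∀ x ∈ (List.rec [] (fun g _ ih => orbitL T w g h ++ ih) l : List ℕ), Full hC K x := by
    intro l
    induction l with
    | nil => intro _ x hx; exact absurd hx List.not_mem_nil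
    | cons g l ih =>
      intro hl x hx
      rcases List.mem_append.1 hx with hx | hx
      · have hgn : g < D.nroots := by
          have := of_allL hg g (hl g List.mem_cons_self)
          rwa [Nat.blt_eq, hC.n_eq] at this
        exact orbitL_spec hw' hn ⟨hgn, hgs g (hl g List.mem_cons_self) hgn⟩ h x hx
      · exact ih (fun y hy => hl y (List.mem_cons_of_mem g hy)) x hx
  cases e : closeAll T U steps (List.rec [] (fun g _ ih => orbitL T w g h ++ ih) gs) with
  | none => rw [e] at hrest; simp at hrest
  | some res =>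
    rw [e] at hrest
    have hres := closeAll_spec hU steps _ res (h0 gs fun _ h => h) e
    refine group_le fun r hr => hres r (memL_iff.1 (of_allR hrest r ?_))
    rwa [hC.n_eq]

end Cfsg.Agent.Chevalley.TwoGen
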