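import Cfsg.Agent.Lib.Chevalley.TwoGenTwo
import Cfsg.Agent.Lib.Chevalley.Types.All

/-!
Two generators of each of the seven Chevalley groups: the chosen roots and closing steps, checked by
the kernel.
-/

set_option autoImplicit false
set_option linter.style.haveILetI false

open scoped Matrix

namespace Cfsg.Agent.Chevalley.TwoGen

open Cfsg.Lie Cfsg.Agent.Chevalley Cfsg.Agent.Chevalley.Table Cfsg.Agent.Chevalley.Cert
  Cfsg.Agent.Chevalley.Group Cfsg.Agent.Chevalley.Borel Cfsg.Agent.Exceptional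

/-- Closing steps, type G2. -/
def stepsG2 : List (ℕ × ℕ × ℕ) := []

theorem pickG2 : pickChk Data.G2.tab [0, 1] 0 5 [(2, 1, 1)] = true := by decide +kernel

theorem closeG2 :
    closesChk Data.G2.tab [1] [0, 1] 30 (seeds Data.G2.tab [0, 1] 0 [(2, 1, 1)]) stepsG2 = true := by
  decide +kernel

/-- Closing steps, type D4. -/
def stepsD4 : List (ℕ × ℕ × ℕ) := [(1, 9, 0), (1, 13, 3), (1, 18, 6), (1, 21, 11), (2, 13, 4), (2, 18, 7), (2, 22, 12),
    (5, 21, 16), (5, 22, 17), (10, 21, 19), (10, 22, 20), (14, 22, 23)]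

theorem pickD4 : pickChk Data.D4.tab [0, 1, 2, 3] 1 0 [(10, 1, 1)] = true := by decide +kernel

theorem closeD4 :
    closesChk Data.D4.tab [1] [0, 1, 2, 3] 30 (seeds Data.D4.tab [0, 1, 2, 3] 1 [(10, 1, 1)]) stepsD4 = true := by
  decide +kernel

/-- Closing steps, type F4. -/
def stepsF4 : List (ℕ × ℕ × ℕ) := [(0, 32, 5), (0, 46, 23), (1, 45, 22), (1, 47, 24), (2, 37, 9), (2, 41, 16), (2, 46, 25),
    (3, 37, 11), (3, 40, 14), (3, 46, 28), (5, 22, 4), (5, 45, 30), (6, 34, 12), (6, 45, 31),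
    (7, 39, 20), (7, 44, 33), (7, 46, 35), (8, 40, 27), (8, 47, 38), (10, 34, 19), (10, 41, 17),
    (10, 44, 36), (15, 39, 43), (15, 47, 42)]

theorem pickF4 : pickChk Data.F4.tab [0, 1, 2, 3] 0 2 [(8, 2, 1)] = true := by decide +kernel

theorem closeF4 :
    closesChk Data.F4.tab [1] [0, 1, 2, 3] 30 (seeds Data.F4.tab [0, 1, 2, 3] 0 [(8, 2, 1)]) stepsF4 = true := by
  decide +kernel

/-- Closing steps, type E6. -/
def stepsE6 : List (ℕ × ℕ × ℕ) := [(0, 47, 2), (0, 52, 7), (0, 67, 22), (0, 70, 25), (1, 55, 13), (1, 59, 17), (1, 71, 46),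
    (2, 37, 3), (2, 42, 5), (2, 52, 12), (2, 55, 14), (2, 59, 19), (2, 67, 33), (3, 42, 6),
    (3, 61, 26), (3, 67, 35), (3, 70, 40), (3, 71, 48), (4, 59, 21), (4, 61, 27), (4, 71, 49),
    (5, 41, 9), (5, 55, 15), (5, 70, 43), (5, 71, 50), (6, 70, 44), (6, 71, 51), (7, 56, 18),
    (7, 59, 24), (7, 61, 31), (7, 70, 45), (8, 71, 53), (9, 56, 20), (9, 61, 34), (9, 71, 54),
    (14, 56, 29), (16, 70, 58), (17, 52, 32), (17, 71, 62), (18, 55, 38), (18, 67, 57), (18, 70, 60),
    (18, 71, 63), (19, 71, 64), (20, 71, 65), (21, 71, 66), (23, 71, 68), (24, 71, 69)]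

theorem pickE6 : pickChk Data.E6.tab [0, 1, 2, 3, 4, 5] 0 1 [(8, 1, 1)] = true := by decide +kernel

theorem closeE6 :
    closesChk Data.E6.tab [1] [0, 1, 2, 3, 4, 5] 30 (seeds Data.E6.tab [0, 1, 2, 3, 4, 5] 0 [(8, 1, 1)]) stepsE6 = true := by
  decide +kernel

/-- Closing steps, type E7. -/
def stepsE7 : List (ℕ × ℕ × ℕ) := [(0, 95, 3), (0, 107, 15), (0, 109, 17), (0, 119, 27), (0, 123, 31), (0, 124, 32), (1, 76, 5),
    (1, 84, 8), (1, 118, 42), (1, 119, 48), (1, 123, 52), (1, 125, 93), (2, 82, 10), (2, 92, 22),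
    (2, 104, 34), (2, 118, 46), (2, 124, 73), (2, 125, 94), (3, 82, 13), (3, 92, 25), (3, 107, 40),
    (3, 113, 44), (3, 119, 57), (3, 123, 69), (3, 124, 74), (5, 78, 9), (5, 84, 20), (5, 119, 62),
    (5, 123, 71), (5, 125, 97), (6, 99, 35), (6, 124, 77), (6, 125, 98), (7, 77, 19), (7, 92, 29),
    (7, 113, 54), (7, 123, 79), (7, 124, 83), (8, 47, 4), (8, 69, 11), (8, 71, 14), (8, 97, 36),
    (8, 118, 66), (8, 123, 80), (8, 125, 100), (9, 98, 38), (9, 107, 51), (9, 113, 56), (9, 118, 67),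
    (9, 123, 81), (9, 124, 85), (9, 125, 101), (10, 104, 50), (10, 118, 68), (10, 124, 86), (10, 125, 102),
    (11, 76, 23), (11, 77, 24), (11, 86, 28), (11, 97, 39), (11, 113, 61), (11, 118, 70), (11, 124, 87),
    (11, 125, 103), (13, 109, 58), (13, 113, 63), (13, 124, 89), (13, 125, 105), (14, 109, 60), (14, 124, 90),
    (14, 125, 106), (15, 124, 91), (16, 125, 108), (17, 118, 75), (18, 98, 45), (18, 102, 55), (18, 105, 59),
    (18, 108, 64), (18, 125, 110), (19, 108, 65), (19, 125, 111), (20, 125, 112), (22, 125, 114), (23, 125, 115),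
    (24, 125, 116), (25, 125, 117), (28, 125, 120), (29, 125, 121), (30, 125, 122), (33, 118, 96)]

theorem pickE7 : pickChk Data.E7.tab [0, 1, 2, 3, 4, 5, 6] 0 1 [(18, 1, 1)] = true := by decide +kernel

theorem closeE7 :
    closesChk Data.E7.tab [1] [0, 1, 2, 3, 4, 5, 6] 30 (seeds Data.E7.tab [0, 1, 2, 3, 4, 5, 6] 0 [(18, 1, 1)]) stepsE7 = true := by
  decide +kernel

/-- Closing steps, type E8. -/
def stepsE8 : List (ℕ × ℕ × ℕ) := [(0, 140, 6), (0, 161, 12), (0, 201, 30), (0, 203, 33), (0, 216, 47), (0, 218, 52), (0, 222, 59),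
    (0, 224, 66), (0, 228, 79), (0, 230, 84), (0, 235, 110), (0, 236, 114), (0, 237, 117), (0, 238, 119),
    (1, 183, 20), (1, 203, 34), (1, 207, 37), (1, 214, 46), (1, 216, 48), (1, 218, 53), (1, 222, 60),
    (1, 224, 67), (1, 230, 85), (1, 234, 106), (1, 235, 111), (1, 236, 115), (1, 237, 118), (1, 239, 120),
    (2, 188, 22), (2, 218, 54), (2, 220, 58), (2, 222, 61), (2, 224, 68), (2, 230, 86), (2, 234, 107),
    (2, 235, 112), (2, 236, 116), (2, 238, 121), (2, 239, 122), (3, 174, 16), (3, 214, 49), (3, 224, 69),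
    (3, 226, 81), (3, 228, 83), (3, 230, 87), (3, 234, 108), (3, 235, 113), (3, 237, 123), (3, 238, 124),
    (3, 239, 125), (4, 147, 8), (4, 204, 40), (4, 207, 43), (4, 220, 63), (4, 234, 109), (4, 236, 126),
    (4, 237, 127), (4, 238, 128), (4, 239, 129), (5, 163, 14), (5, 184, 26), (5, 226, 88), (5, 228, 90),
    (5, 235, 130), (5, 236, 131), (5, 237, 132), (5, 238, 133), (6, 226, 93), (6, 228, 95), (6, 230, 97),
    (6, 234, 135), (6, 235, 136), (6, 236, 137), (6, 237, 138), (6, 238, 139), (8, 131, 10), (8, 183, 45),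
    (8, 214, 71), (8, 216, 73), (8, 218, 75), (8, 224, 77), (8, 236, 148), (8, 237, 149), (8, 238, 150),
    (8, 239, 151), (9, 236, 152), (9, 237, 153), (9, 238, 154), (9, 239, 155), (10, 237, 156), (10, 238, 157),
    (10, 239, 158), (11, 239, 160), (12, 163, 24), (12, 184, 57), (12, 188, 62), (13, 99, 7), (13, 169, 39),
    (13, 204, 72), (13, 207, 74), (14, 153, 27), (14, 154, 28), (14, 155, 29), (14, 157, 31), (14, 220, 94),
    (14, 222, 96), (14, 224, 98), (14, 235, 164), (14, 236, 165), (14, 237, 166), (14, 238, 167), (14, 239, 168),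
    (15, 132, 18), (15, 157, 41), (15, 158, 42), (15, 160, 44), (15, 216, 101), (15, 218, 103), (15, 236, 170),
    (15, 237, 171), (15, 238, 172), (15, 239, 173), (16, 160, 50), (16, 201, 89), (16, 203, 91), (16, 218, 104),
    (16, 230, 162), (16, 237, 175), (16, 238, 176), (16, 239, 177), (17, 237, 178), (17, 238, 179), (17, 239, 180),
    (18, 238, 181), (18, 239, 182), (20, 204, 100), (20, 207, 102), (21, 182, 82), (21, 237, 185), (21, 238, 186),
    (21, 239, 187), (22, 161, 64), (22, 238, 189), (22, 239, 190), (23, 238, 191), (23, 239, 192), (24, 239, 193),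
    (26, 237, 194), (26, 238, 195), (26, 239, 196), (27, 238, 197), (27, 239, 198), (28, 239, 199), (30, 238, 200),
    (31, 239, 202), (36, 218, 143), (36, 238, 205), (36, 239, 206), (37, 216, 142), (37, 218, 144), (37, 239, 208),
    (38, 218, 145), (38, 239, 209), (39, 218, 146), (40, 209, 141), (40, 238, 210), (40, 239, 211), (41, 239, 212),
    (43, 239, 213), (46, 239, 215), (49, 239, 217), (56, 238, 219), (57, 239, 221), (62, 239, 223), (71, 239, 225),
    (78, 239, 227), (81, 239, 229), (88, 239, 231), (93, 239, 232), (99, 239, 233)]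

theorem pickE8 : pickChk Data.E8.tab [0, 1, 2, 3, 4, 5, 6, 7] 0 2 [(11, 1, 1)] = true := by decide +kernel

theorem closeE8 :
    closesChk Data.E8.tab [1] [0, 1, 2, 3, 4, 5, 6, 7] 30 (seeds Data.E8.tab [0, 1, 2, 3, 4, 5, 6, 7] 0 [(11, 1, 1)]) stepsE8 = true := by
  decide +kernel

/-- Closing steps, type B2e. -/
def stepsB2e : List (ℕ × ℕ × ℕ) := []

theorem pickB2e : pickChk Data.B2.tab [0, 1] 1 0 [(3, 1, 2)] = true := by decide +kernel

theorem closeB2e :
    closesChk Data.B2.tab [1] [0, 1] 30 (seeds Data.B2.tab [0, 1] 1 [(3, 1, 2)]) stepsB2e = true := by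
  decide +kernel

/-- Closing steps, type B2o. -/
def stepsB2o : List (ℕ × ℕ × ℕ) := [(1, 2, 0), (1, 5, 3), (2, 6, 4), (3, 6, 7)]

theorem pickB2o : pickChk Data.B2.tab [0, 1] 1 0 [] = true := by decide +kernel

theorem closeB2o :
    closesChk Data.B2.tab [1, 2] [0, 1] 30 (seeds Data.B2.tab [0, 1] 1 []) stepsB2o = true := by
  decide +kernel

/-- Closing steps over the field with two elements, type D4. -/
def steps2D4 : List (ℕ × ℕ × ℕ) := [(1, 9, 0), (1, 13, 3), (1, 18, 6), (1, 21, 11), (2, 13, 4), (2, 18, 7), (2, 22, 12),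
    (5, 21, 16), (5, 22, 17), (10, 21, 19), (10, 22, 20), (14, 22, 23)]

theorem close2D4 : closesChk Data.D4.tab [1] [0, 1, 2, 3] 30 [1, 2] steps2D4 = true := by
  decide +kernel

/-- Closing steps over the field with two elements, type F4. -/
def steps2F4 : List (ℕ × ℕ × ℕ) := [(0, 32, 5), (0, 46, 23), (1, 45, 22), (1, 47, 24), (2, 37, 9), (2, 41, 16), (2, 46, 25),
    (3, 37, 11), (3, 40, 14), (3, 46, 28), (5, 22, 4), (5, 45, 30), (6, 34, 12), (6, 45, 31),
    (7, 39, 20), (7, 44, 33), (7, 46, 35), (8, 40, 27), (8, 47, 38), (10, 34, 19), (10, 41, 17),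
    (10, 44, 36), (15, 39, 43), (15, 47, 42)]

theorem close2F4 : closesChk Data.F4.tab [1] [0, 1, 2, 3] 30 [21, 3] steps2F4 = true := by
  decide +kernel

/-- Closing steps over the field with two elements, type E6. -/
def steps2E6 : List (ℕ × ℕ × ℕ) := [(2, 45, 9), (2, 62, 26), (2, 66, 29), (2, 68, 34), (7, 26, 1), (7, 29, 4), (7, 33, 5),
    (7, 53, 15), (7, 62, 32), (7, 66, 38), (9, 17, 0), (9, 66, 41), (14, 17, 3), (14, 31, 12),
    (14, 32, 13), (14, 62, 48), (14, 68, 54), (15, 17, 6), (15, 21, 10), (15, 26, 11), (15, 62, 51),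
    (15, 66, 55), (17, 34, 16), (17, 45, 24), (17, 53, 35), (17, 55, 37), (17, 68, 57), (21, 31, 18),
    (21, 33, 19), (21, 34, 20), (21, 53, 40), (21, 68, 60), (24, 33, 22), (24, 34, 23), (24, 53, 44),
    (26, 38, 28), (26, 54, 47), (26, 60, 56), (26, 68, 61), (28, 34, 27), (28, 54, 49), (28, 68, 63),
    (29, 68, 65), (31, 35, 30), (31, 41, 36), (31, 44, 42), (31, 48, 46), (31, 53, 50), (31, 55, 52),
    (33, 10, 8), (33, 41, 39), (33, 45, 43), (33, 60, 58), (33, 66, 64), (35, 60, 59), (35, 68, 67),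
    (37, 68, 69), (39, 24, 25), (39, 69, 70), (46, 70, 71)]

theorem close2E6 : closesChk Data.E6.tab [1] [0, 1, 2, 3, 4, 5] 30 [2] steps2E6 = true := by
  decide +kernel

/-- Closing steps over the field with two elements, type E7. -/
def steps2E7 : List (ℕ × ℕ × ℕ) := [(3, 68, 6), (3, 91, 24), (3, 100, 33), (3, 120, 58), (5, 54, 2), (5, 91, 26), (5, 100, 36),
    (5, 122, 67), (6, 100, 37), (6, 110, 45), (6, 115, 47), (6, 120, 63), (8, 25, 0), (8, 47, 4),
    (8, 71, 14), (8, 110, 53), (8, 115, 60), (10, 57, 7), (10, 71, 16), (10, 110, 55), (10, 117, 65),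
    (14, 55, 9), (14, 58, 11), (14, 110, 62), (14, 120, 80), (15, 34, 1), (15, 115, 70), (15, 117, 72),
    (16, 57, 12), (16, 58, 13), (16, 100, 51), (16, 110, 64), (16, 120, 82), (24, 53, 17), (24, 55, 19),
    (24, 62, 23), (24, 100, 61), (24, 110, 74), (25, 53, 18), (25, 80, 31), (25, 120, 89), (25, 122, 92),
    (26, 53, 20), (26, 54, 21), (26, 55, 22), (26, 100, 66), (26, 110, 76), (31, 53, 27), (31, 54, 28),
    (31, 55, 29), (31, 110, 88), (33, 65, 35), (33, 71, 39), (33, 72, 40), (33, 76, 43), (33, 82, 49),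
    (33, 117, 95), (34, 68, 38), (34, 72, 41), (34, 80, 48), (34, 82, 50), (34, 89, 59), (34, 120, 99),
    (34, 122, 101), (35, 122, 102), (36, 72, 42), (36, 117, 97), (37, 74, 44), (37, 76, 46), (37, 110, 94),
    (37, 115, 96), (37, 117, 98), (39, 82, 52), (39, 89, 69), (39, 102, 93), (39, 120, 103), (39, 122, 106),
    (40, 122, 107), (41, 120, 105), (41, 122, 108), (43, 91, 75), (43, 120, 109), (43, 122, 112), (44, 92, 77),
    (44, 122, 113), (45, 120, 111), (45, 122, 114), (47, 120, 116), (47, 122, 118), (48, 89, 79), (48, 92, 81),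
    (48, 117, 104), (53, 68, 56), (53, 77, 73), (53, 82, 78), (53, 89, 83), (53, 91, 84), (53, 92, 85),
    (54, 92, 86), (56, 31, 30), (57, 91, 87), (57, 122, 119), (59, 122, 121), (60, 92, 90), (69, 122, 123),
    (73, 31, 32), (73, 123, 124), (93, 124, 125)]

theorem close2E7 : closesChk Data.E7.tab [1] [0, 1, 2, 3, 4, 5, 6] 30 [3] steps2E7 = true := by
  decide +kernel

/-- Closing steps over the field with two elements, type E8. -/
def steps2E8 : List (ℕ × ℕ × ℕ) := [(0, 161, 12), (0, 203, 33), (0, 218, 52), (0, 224, 66), (0, 235, 110), (0, 236, 114), (0, 237, 117),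
    (0, 238, 119), (1, 203, 34), (1, 218, 53), (1, 224, 67), (1, 234, 106), (1, 235, 111), (1, 236, 115),
    (1, 237, 118), (1, 239, 120), (2, 218, 54), (2, 224, 68), (2, 226, 79), (2, 234, 107), (2, 235, 112),
    (2, 236, 116), (2, 238, 121), (2, 239, 122), (3, 204, 37), (3, 224, 69), (3, 226, 81), (3, 234, 108),
    (3, 235, 113), (3, 237, 123), (3, 238, 124), (3, 239, 125), (4, 184, 22), (4, 204, 40), (4, 226, 84),
    (4, 234, 109), (4, 236, 126), (4, 237, 127), (4, 238, 128), (4, 239, 129), (5, 169, 16), (5, 184, 26),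
    (5, 204, 46), (5, 226, 88), (5, 235, 130), (5, 236, 131), (5, 237, 132), (5, 238, 133), (12, 106, 8),
    (12, 111, 9), (12, 115, 10), (12, 118, 11), (12, 169, 38), (12, 184, 57), (12, 204, 71), (12, 234, 150),
    (12, 235, 154), (12, 236, 157), (12, 237, 159), (13, 169, 39), (13, 184, 58), (13, 204, 72), (13, 234, 151),
    (13, 235, 155), (13, 236, 158), (13, 237, 160), (15, 131, 17), (15, 132, 18), (15, 133, 19), (15, 134, 20),
    (15, 157, 41), (15, 158, 42), (15, 159, 43), (15, 160, 44), (15, 161, 45), (15, 203, 87), (15, 218, 103),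
    (15, 236, 170), (15, 237, 171), (15, 238, 172), (15, 239, 173), (16, 157, 47), (16, 158, 48), (16, 159, 49),
    (16, 160, 50), (16, 161, 51), (16, 203, 91), (16, 218, 104), (16, 236, 174), (16, 237, 175), (16, 238, 176),
    (16, 239, 177), (17, 203, 92), (17, 237, 178), (17, 238, 179), (17, 239, 180), (18, 238, 181), (18, 239, 182),
    (19, 72, 7), (19, 204, 99), (19, 239, 183), (20, 184, 80), (20, 204, 100), (20, 226, 162), (21, 70, 6),
    (21, 92, 14), (21, 127, 23), (21, 128, 24), (21, 129, 25), (21, 132, 27), (21, 133, 28), (21, 134, 29),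
    (21, 159, 59), (21, 160, 60), (21, 161, 61), (21, 182, 82), (21, 183, 83), (21, 203, 96), (21, 224, 136),
    (21, 237, 185), (21, 238, 186), (21, 239, 187), (22, 132, 30), (22, 133, 31), (22, 134, 32), (22, 159, 62),
    (22, 160, 63), (22, 161, 64), (22, 182, 85), (22, 183, 86), (22, 203, 97), (22, 224, 137), (22, 237, 188),
    (22, 238, 189), (22, 239, 190), (23, 161, 65), (23, 224, 138), (23, 238, 191), (23, 239, 192), (24, 224, 139),
    (24, 239, 193), (25, 224, 140), (25, 226, 163), (26, 182, 89), (26, 183, 90), (26, 191, 93), (26, 192, 94),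
    (26, 193, 95), (26, 203, 98), (26, 237, 194), (26, 238, 195), (26, 239, 196), (27, 238, 197), (27, 239, 198),
    (28, 239, 199), (29, 226, 164), (30, 238, 200), (30, 239, 201), (31, 239, 202), (32, 226, 165), (34, 226, 166),
    (35, 226, 167), (36, 138, 56), (36, 161, 73), (36, 183, 101), (36, 218, 143), (36, 224, 152), (36, 238, 205),
    (36, 239, 206), (37, 161, 74), (37, 183, 102), (37, 218, 144), (37, 224, 153), (37, 238, 207), (37, 239, 208),
    (38, 218, 145), (38, 239, 209), (39, 218, 146), (40, 161, 75), (40, 209, 141), (40, 224, 156), (40, 238, 210),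
    (40, 239, 211), (41, 239, 212), (43, 239, 213), (46, 161, 76), (46, 209, 142), (46, 238, 214), (46, 239, 215),
    (47, 239, 216), (49, 239, 217), (56, 161, 77), (56, 193, 135), (56, 209, 147), (56, 212, 148), (56, 213, 149),
    (56, 238, 219), (56, 239, 220), (57, 239, 221), (59, 239, 222), (62, 239, 223), (71, 239, 225), (78, 239, 227),
    (79, 239, 228), (80, 203, 168), (81, 239, 229), (84, 239, 230), (88, 239, 231), (93, 239, 232), (99, 239, 233)]

theorem close2E8 : closesChk Data.E8.tab [1] [0, 1, 2, 3, 4, 5, 6, 7] 30 [0] steps2E8 = true := by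
  decide +kernel

theorem wordD4 : Mod2.sameW Data.D4.tab.col (chevD4.rank + chevD4.nroots)
    (cwords Data.D4.tab [0, 1, 2, 3] [2] [1] [3, 0, 3, 0, 5, 3, 0, 3, 0, 5]) [2] = true := by
  decide +kernel

theorem wordF4 : Mod2.sameW Data.F4.tab.col (chevF4.rank + chevF4.nroots)
    (cwords Data.F4.tab [0, 1, 2, 3] [] [0, 3] [0, 3, 0, 3, 4, 0, 3, 0, 3, 4]) [21] = true := by
  decide +kernel

end Cfsg.Agent.Chevalley.TwoGen
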