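import Cfsg.Agent.Lib.Chevalley.TwoGen

/-!
Two elements generating a Chevalley group: over a field with more than two elements a torus element
times a root element, and a root element times a Coxeter monomial element.
-/

set_option autoImplicit false
set_option linter.style.haveILetI false

open scoped Matrix

namespace Cfsg.Agent.Chevalley.TwoGen

open Cfsg.Lie Cfsg.Agent.Chevalley.Eval Cfsg.Agent.Chevalley.Table Cfsg.Agent.Chevalley.Check
  Cfsg.Agent.Chevalley.Cert Cfsg.Agent.Chevalley.Root Cfsg.Agent.Chevalley.Relations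
  Cfsg.Agent.Chevalley.Group Cfsg.Agent.Chevalley.Unip Cfsg.Agent.Chevalley.Borel
  Cfsg.Agent.Chevalley.Weyl

/-- The conditions on the chosen roots: `g` for the monomial generator, `d` for the torus, and a list
of at most one root `b` with its index in the orbit and the absolute value `e` of its pairing there. -/
noncomputable def pickChk (T : Tab) (w : List ℕ) (g d : ℕ) (second : List (ℕ × ℕ × ℕ)) : Bool :=
  ((Nat.blt g T.n && Nat.blt d T.n) && allL (fun i => Nat.blt i T.l) w) &&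
    ((Nat.beq (Perfect.pairT T d g).natAbs 1 &&
      Nat.beq (Perfect.pairT T d (Twist.applyW T w.reverse g)).natAbs 1) &&
      allL (fun p => Nat.blt p.1 T.n && (Nat.beq (Perfect.pairT T d p.1).natAbs 0 &&
        Nat.beq (Perfect.pairT T d (Nat.rec p.1 (fun _ ih => Twist.applyW T w ih) p.2.1)).natAbs p.2.2))
        second)

/-- The roots used as seeds of the closure. -/
noncomputable def seeds (T : Tab) (w : List ℕ) (g : ℕ) (second : List (ℕ × ℕ × ℕ)) : List ℕ :=
  g :: second.map fun p => Nat.rec p.1 (fun _ ih => Twist.applyW T w ih) p.2.1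

variable {D : ChevalleyDatum} {F : Type*} [Field F] [Finite F] {T : Tab}

/-- The torus element of a coroot. -/
def cochar (D : ChevalleyDatum) {F : Type*} [Field F] (d : ℕ) (t : Fˣ) : GL D.Idx F :=
  tor D fun i => t ^ cor D d i

theorem cochar_pow (d : ℕ) (t : Fˣ) (n : ℕ) : cochar D d t ^ n = cochar D d (t ^ n) := by
  induction n with
  | zero => simp only [pow_zero, cochar, one_zpow]; exact (tor_one (D := D)).symm
  | succ n ih =>
    rw [pow_succ, ih, cochar, cochar, tor_mul, cochar]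
    congr 1
    funext i
    rw [Pi.mul_apply, ← mul_zpow, ← pow_succ]

theorem units_exists_pow (t : Fˣ) (ht : ∀ x : Fˣ, x ∈ Subgroup.zpowers t) {e : ℤ}
    (he : Nat.Coprime (Nat.card Fˣ) e.natAbs) (x : Fˣ) : ∃ n : ℕ, x = (t ^ e) ^ n := by
  obtain ⟨y, rfl⟩ := (powCoprime he).surjective x
  obtain ⟨k, rfl⟩ := Subgroup.mem_zpowers_iff.1 (ht y)
  have hx : powCoprime he (t ^ k) ∈ Subgroup.zpowers (t ^ e) := by
    rw [powCoprime_apply, ← zpow_natCast, ← zpow_mul]
    rcases Int.natAbs_eq e with h | h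
    · exact ⟨k, by show (t ^ e) ^ k = _; rw [← zpow_mul, mul_comm k, ← h]⟩
    · exact ⟨-k, by
        show (t ^ e) ^ (-k) = _
        rw [← zpow_mul]
        congr 1
        linear_combination (-k) * h⟩
  obtain ⟨m, hm⟩ := (Submonoid.mem_powers_iff _ _).1 (mem_powers_iff_mem_zpowers.2 hx)
  exact ⟨m, hm.symm⟩

theorem exists_pair (hC : Certified D T) {U w : List ℕ} {h g d : ℕ}
    {second : List (ℕ × ℕ × ℕ)} {steps : List (ℕ × ℕ × ℕ)}
    (hU : ∀ z : ℤ, okC U z = true → (z : F) ≠ 0)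
    (hpick : pickChk T w g d second = true)
    (hclose : closesChk T U w h (seeds T w g second) steps = true)
    (hsecond : second.length ≤ 1) (he : ∀ p ∈ second, Nat.Coprime (Nat.card Fˣ) p.2.2)
    (hF : ∃ x : F, x ≠ 0 ∧ x ≠ 1) :
    ∃ a b : D.group F, Subgroup.closure ({a, b} : Set (D.group F)) = ⊤ := by
  classical
  haveI := Fintype.ofFinite F
  simp only [pickChk, Bool.and_eq_true, Nat.blt_eq, Nat.beq_eq, hC.n_eq] at hpick
  obtain ⟨⟨⟨hg, hd⟩, hw⟩, ⟨hp1, hp2⟩, hp3⟩ := hpick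
  have hw' : ∀ i ∈ w, i < D.rank := fun i hi => by
    have := of_allL hw i hi
    rwa [Nat.blt_eq, hC.l_eq] at this
  have hwr : ∀ i ∈ w.reverse, i < D.rank := fun i hi => hw' i (List.mem_reverse.1 hi)
  have happ : ∀ {L : List ℕ}, (∀ i ∈ L, i < D.rank) → ∀ {r}, r < D.nroots →
      Twist.applyW T L r = wL D L r := fun hL _ hr => StConj.actT_foldr hC hL hr
  obtain ⟨g', hg'def⟩ : ∃ g', g' = wL D w.reverse g := ⟨_, rfl⟩
  have hg' : g' < D.nroots := hg'def ▸ wL_lt hC hwr hg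
  rw [Perfect.pairT_eq hC hd hg] at hp1
  rw [happ hwr hg, ← hg'def, Perfect.pairT_eq hC hd hg'] at hp2
  have hgg : wL D w g' = g := by
    have := wL_reverse hC hwr hg
    rwa [List.reverse_reverse, ← hg'def] at this
  obtain ⟨t, ht⟩ := IsCyclic.exists_generator (α := Fˣ)
  -- the second root
  obtain ⟨s, hs_def⟩ : ∃ s, s = (second.map fun p => xg hC p.1 (1 : F)).prod := ⟨_, rfl⟩
  obtain ⟨hh, hh_def⟩ : ∃ hh, hh = cochar D d t := ⟨_, rfl⟩
  obtain ⟨n, hn_def⟩ : ∃ n, n = nL hC F w := ⟨_, rfl⟩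
  have hs2 : second = [] ∨ ∃ p, second = [p] ∧ p.1 < D.nroots ∧ pair D d p.1 = 0 := by
    rcases second with _ | ⟨p, _ | ⟨p', l⟩⟩
    · exact Or.inl rfl
    · have := of_allL hp3 p List.mem_cons_self
      simp only [Bool.and_eq_true, Nat.blt_eq, Nat.beq_eq, hC.n_eq] at this
      rw [Perfect.pairT_eq hC hd this.1, Int.natAbs_eq_zero] at this
      exact Or.inr ⟨p, rfl, this.1, this.2.1⟩
    · simp at hsecond
  have hgr : hh ∈ D.group F ∧ s ∈ D.group F ∧ xg hC g (1 : F) * n ∈ D.group F := by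
    refine ⟨hh_def ▸ H_le_group hC (tor_mem_H hC _), ?_, mul_mem (xg_mem_group hC hg 1)
      (hn_def ▸ N_le_group hC (nL_mem_N hC hw'))⟩
    rcases hs2 with e | ⟨p, e, hp, -⟩
    · rw [hs_def, e]; simp [one_mem]
    · rw [hs_def, e]; simpa using xg_mem_group hC hp 1
  refine ⟨⟨hh * s, mul_mem hgr.1 hgr.2.1⟩, ⟨_, hgr.2.2⟩, ?_⟩
  rw [eq_top_iff]
  intro x _
  obtain ⟨K, hK⟩ : ∃ K, K = (Subgroup.closure
      ({⟨hh * s, mul_mem hgr.1 hgr.2.1⟩, ⟨_, hgr.2.2⟩} : Set (D.group F))).map (D.group F).subtype :=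
    ⟨_, rfl⟩
  suffices hle : D.group F ≤ K by
    obtain ⟨y, hy, e⟩ := hK ▸ hle x.2
    rwa [show x = y from Subtype.ext e.symm]
  have ha : hh * s ∈ K := hK ▸ ⟨_, Subgroup.subset_closure (Or.inl rfl), rfl⟩
  have hb : xg hC g 1 * n ∈ K := hK ▸ ⟨_, Subgroup.subset_closure (Or.inr rfl), rfl⟩
  -- separate the commuting factors
  have hpow : ∀ k : ℕ, hh ^ k * hh⁻¹ ^ k = 1 := fun k => by rw [inv_pow, mul_inv_cancel]
  have hcard : hh ^ Nat.card Fˣ = 1 := by
    rw [hh_def, cochar_pow, pow_card_eq_one', cochar]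
    simp only [one_zpow]
    exact tor_one
  have hsq : s ∈ K ∧ hh ∈ K := by
    rcases hs2 with e | ⟨p, e, hp, hp0⟩
    · have : s = 1 := by rw [hs_def, e]; rfl
      rw [this, mul_one] at ha
      exact ⟨this ▸ one_mem K, ha⟩
    have hs1 : s = xg hC p.1 (1 : F) := by rw [hs_def, e]; simp
    have hcomm : Commute hh s := by
      rw [commute_iff_eq, ← mul_inv_eq_iff_eq_mul, hs1, hh_def, cochar, tor_conj_x hC _ _ _ hp,
        Perfect.torChar_pow hC, hp0, zpow_zero, Units.val_one, one_mul]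
    have hnat : ∀ k : ℕ, xg hC p.1 (1 : F) ^ k = xg hC p.1 (k : F) := by
      intro k
      induction k with
      | zero => simp [xg_zero hC]
      | succ k ih => rw [pow_succ, ih, ← xg_add hC, Nat.cast_succ]
    have h1 : (hh * s) ^ Nat.card Fˣ = xg hC p.1 (-1 : F) := by
      rw [hcomm.mul_pow, hcard, one_mul, hs1, hnat, Nat.card_units,
        Nat.cast_sub Nat.card_pos, Nat.card_eq_fintype_card, FiniteField.cast_card_eq_zero,
        zero_sub, Nat.cast_one]
    have h2 := pow_mem ha (Nat.card Fˣ)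
    rw [h1, ← xg_inv hC, inv_mem_iff, ← hs1] at h2
    exact ⟨h2, (mul_mem_cancel_right h2).1 ha⟩
  obtain ⟨hsK, hhK⟩ := hsq
  -- the whole root subgroup of `g`
  have hpowK : ∀ r < D.nroots, ∀ c : F, c ≠ 0 → Nat.Coprime (Nat.card Fˣ) (pair D d r).natAbs →
      xg hC r c ∈ K → ∀ v : F, xg hC r v ∈ K := by
    intro r hr c hc hcop hmem v
    rcases eq_or_ne v 0 with rfl | hv
    · rw [xg_zero hC]; exact one_mem K
    obtain ⟨k, hk⟩ := units_exists_pow t ht hcop (Units.mk0 (v / c) (div_ne_zero hv hc))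
    have h1 := mul_mem (mul_mem (pow_mem hhK k) hmem) (inv_mem (pow_mem hhK k))
    rw [hh_def, cochar_pow, cochar, tor_conj_x hC _ _ _ hr, Perfect.torChar_pow hC] at h1
    have e : ((((t ^ k) ^ pair D d r : Fˣ) : F)) = v / c := by
      rw [← zpow_natCast t k, ← zpow_mul, mul_comm, zpow_mul, zpow_natCast, ← hk, Units.val_mk0]
    rwa [e, div_mul_cancel₀ _ hc] at h1
  have ht1 : t ≠ 1 := by
    rintro rfl
    obtain ⟨x, hx0, hx1⟩ := hF
    obtain ⟨k, hk⟩ := Subgroup.mem_zpowers_iff.1 (ht (Units.mk0 x hx0))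
    rw [one_zpow] at hk
    exact hx1 (congrArg Units.val hk).symm
  have hne : ∀ r, (pair D d r).natAbs = 1 → ((t ^ pair D d r : Fˣ) : F) ≠ 1 := by
    intro r hr e
    rw [Units.val_eq_one] at e
    rcases Int.natAbs_eq (pair D d r) with h' | h' <;> rw [hr] at h' <;> rw [h'] at e <;>
      simp [ht1] at e
  obtain ⟨η, hη, eη⟩ := nL_conj_x (F := F) hC hw' hg'
  rw [← hn_def, hgg] at eη
  obtain ⟨c', hc'⟩ := nL_conj_tor (F := F) hC hw' (fun i => t ^ cor D d i)
  have hn' : n * hh * n⁻¹ = tor D c' := by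
    rw [hh_def, cochar, hn_def, hc', mul_inv_cancel_right]
  have hχ' : (torChar D c' g : F) = ((t ^ pair D d g' : Fˣ) : F) := by
    have e1 : tor D c' * xg hC g (η * 1) * (tor D c')⁻¹ =
        xg hC g (η * (((t ^ pair D d g' : Fˣ) : F) * 1)) := by
      rw [← hn', ← eη, ← eη,
        show n * hh * n⁻¹ * (n * xg hC g' 1 * n⁻¹) * (n * hh * n⁻¹)⁻¹ =
          n * (hh * xg hC g' 1 * hh⁻¹) * n⁻¹ by group,
        hh_def, cochar, tor_conj_x hC _ _ _ hg', Perfect.torChar_pow hC]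
    rw [tor_conj_x hC _ _ _ hg] at e1
    have e2 := xg_injective hC hg e1
    rw [mul_one, mul_one, mul_comm η] at e2
    exact mul_right_cancel₀ hη e2
  obtain ⟨c₀, hc₀⟩ : ∃ c₀ : F,
      c₀ = ((t ^ pair D d g : Fˣ) : F) * (1 - torChar D c' g) + -(1 - torChar D c' g) := ⟨_, rfl⟩
  have hc₀ne : c₀ ≠ 0 := by
    rw [hc₀, ← sub_eq_add_neg, ← sub_one_mul]
    exact mul_ne_zero (sub_ne_zero.2 (hne g hp1)) (sub_ne_zero.2 (hχ' ▸ (hne g' hp2).symm))
  have hgK : xg hC g c₀ ∈ K := by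
    have hy : xg hC g 1 * n * hh * (xg hC g 1 * n)⁻¹ =
        xg hC g (1 - torChar D c' g : F) * tor D c' := by
      rw [show xg hC g 1 * n * hh * (xg hC g 1 * n)⁻¹ =
        xg hC g 1 * (n * hh * n⁻¹) * (xg hC g (1 : F))⁻¹ by group, hn', xg_inv hC, mul_assoc,
        show tor D c' * xg hC g (-1 : F) =
          tor D c' * xg hC g (-1 : F) * (tor D c')⁻¹ * tor D c' by group,
        tor_conj_x hC _ _ _ hg, ← mul_assoc, ← xg_add hC]
      congr 2
      ring
    have hY : xg hC g (1 - torChar D c' g : F) * tor D c' ∈ K :=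
      hy ▸ mul_mem (mul_mem hb hhK) (inv_mem hb)
    have h1 := mul_mem (mul_mem (mul_mem hhK hY) (inv_mem hhK)) (inv_mem hY)
    have hcm : hh * tor D c' * hh⁻¹ = tor D c' := by
      rw [hh_def, cochar, tor_mul, tor_inv, tor_mul]
      congr 1
      funext i
      simp only [Pi.mul_apply, Pi.inv_apply]
      rw [mul_comm (t ^ cor D d i), mul_inv_cancel_right]
    rw [show hh * (xg hC g (1 - torChar D c' g : F) * tor D c') * hh⁻¹ *
        (xg hC g (1 - torChar D c' g : F) * tor D c')⁻¹ =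
        (hh * xg hC g (1 - torChar D c' g : F) * hh⁻¹) * (hh * tor D c' * hh⁻¹) * (tor D c')⁻¹ *
          (xg hC g (1 - torChar D c' g : F))⁻¹ by group, hcm, mul_inv_cancel_right, hh_def, cochar,
      tor_conj_x hC _ _ _ hg, Perfect.torChar_pow hC, xg_inv hC, ← xg_add hC, ← hc₀] at h1
    exact h1
  have hgfull := hpowK g hg c₀ hc₀ne (by rw [hp1]; exact Nat.coprime_one_right _) hgK
  have hnK : n ∈ K := (mul_mem_cancel_left (hgfull 1)).1 hb
  refine group_le_of_chk hU hclose (hn_def ▸ hnK) fun r hr hrn => ?_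
  rcases List.mem_cons.1 hr with rfl | hr
  · exact hgfull
  obtain ⟨p, hp, rfl⟩ := List.mem_map.1 hr
  have h3 := of_allL hp3 p hp
  simp only [Bool.and_eq_true, Nat.blt_eq, Nat.beq_eq, hC.n_eq] at h3
  rw [Perfect.pairT_eq hC hd hrn] at h3
  have horbit : ∀ i : ℕ, ∃ c : F, c ≠ 0 ∧
      xg hC (Nat.rec p.1 (fun _ ih => Twist.applyW T w ih) i) c ∈ K ∧
      (Nat.rec p.1 (fun _ ih => Twist.applyW T w ih) i : ℕ) < D.nroots := by
    intro i
    induction i with
    | zero =>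
      refine ⟨1, one_ne_zero, ?_, h3.1⟩
      rcases hs2 with e | ⟨p', e, -, -⟩
      · rw [e] at hp; exact absurd hp List.not_mem_nil
      · rw [e, List.mem_singleton] at hp
        subst hp
        have : s = xg hC p.1 (1 : F) := by rw [hs_def, e]; simp
        exact this ▸ hsK
    | succ i ih =>
      obtain ⟨c, hc, hm, hlt⟩ := ih
      obtain ⟨η', hη', e⟩ := nL_conj_x (F := F) hC hw' hlt
      rw [← hn_def, ← happ hw' hlt] at e
      refine ⟨η' * c, mul_ne_zero hη' hc, ?_, ?_⟩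
      · rw [← e]; exact mul_mem (mul_mem hnK hm) (inv_mem hnK)
      · show Twist.applyW T w _ < _
        rw [happ hw' hlt]; exact wL_lt hC hw' hlt
  obtain ⟨c, hc, hm, -⟩ := horbit p.2.1
  exact hpowK _ hrn c hc (by rw [h3.2.2]; exact he p hp) hm

/-- The argument over the field with two elements when one orbit suffices. -/
theorem exists_pair_two (hC : Certified D T) {U w : List ℕ} {h g : ℕ}
    {steps : List (ℕ × ℕ × ℕ)} (hU : ∀ z : ℤ, okC U z = true → (z : F) ≠ 0)
    (hw : allL (fun i => Nat.blt i T.l) w = true) (hg : Nat.blt g T.n = true)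
    (hclose : closesChk T U w h [g] steps = true) (hF : ∀ x : F, x = 0 ∨ x = 1) :
    ∃ a b : D.group F, Subgroup.closure ({a, b} : Set (D.group F)) = ⊤ := by
  rw [Nat.blt_eq, hC.n_eq] at hg
  have hw' : ∀ i ∈ w, i < D.rank := fun i hi => by
    have := of_allL hw i hi
    rwa [Nat.blt_eq, hC.l_eq] at this
  refine ⟨⟨xg hC g 1, xg_mem_group hC hg 1⟩, ⟨nL hC F w, N_le_group hC (nL_mem_N hC hw')⟩, ?_⟩
  rw [eq_top_iff]
  intro x _
  obtain ⟨K, hK⟩ : ∃ K, K = (Subgroup.closure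
      ({⟨xg hC g 1, xg_mem_group hC hg 1⟩, ⟨nL hC F w, N_le_group hC (nL_mem_N hC hw')⟩} :
        Set (D.group F))).map (D.group F).subtype := ⟨_, rfl⟩
  suffices hle : D.group F ≤ K by
    obtain ⟨y, hy, e⟩ := hK ▸ hle x.2
    rwa [show x = y from Subtype.ext e.symm]
  refine group_le_of_chk hU hclose (by rw [hK]; exact ⟨_, Subgroup.subset_closure (Or.inr rfl), rfl⟩)
    fun r hr _ v => ?_
  rw [List.mem_singleton.1 hr]
  rcases hF v with rfl | rfl
  · rw [xg_zero hC]; exact one_mem K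
  · exact hK ▸ ⟨_, Subgroup.subset_closure (Or.inl rfl), rfl⟩

end Cfsg.Agent.Chevalley.TwoGen
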