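import Cfsg.Agent.Lib.Chevalley.TwoGenPair
import Cfsg.Agent.Lib.Chevalley.Exceptional.Mod2
import Cfsg.Agent.Lib.Chevalley.Twist.CharTwo

/-!
Generation over the field with two elements: conjugates of a word by a root word times a Coxeter
monomial element are words again.
-/

set_option autoImplicit false

open scoped Matrix

namespace Cfsg.Agent.Chevalley.TwoGen

open Cfsg.Lie Cfsg.Agent.Chevalley.Eval Cfsg.Agent.Chevalley.Table Cfsg.Agent.Chevalley.Check
  Cfsg.Agent.Chevalley.Cert Cfsg.Agent.Chevalley.Group Cfsg.Agent.Chevalley.Unip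
  Cfsg.Agent.Chevalley.Borel Cfsg.Agent.Chevalley.Weyl Cfsg.Agent.Exceptional

/-- The word of the conjugate of `Q` by a power of `P n_w`. -/
noncomputable def cword (T : Tab) (w P Q : List ℕ) (i : ℕ) : List ℕ :=
  Nat.rec Q (fun _ ih => P ++ ih.map (Twist.applyW T w) ++ P.reverse) i

/-- A product of conjugates. -/
noncomputable def cwords (T : Tab) (w P Q : List ℕ) (idx : List ℕ) : List ℕ :=
  List.rec [] (fun i _ ih => cword T w P Q i ++ ih) idx

variable {D : ChevalleyDatum} {F : Type*} [Field F] [CharP F 2] {T : Tab} {hC : Certified D T}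

theorem wg_reverse (P : List ℕ) : Mod2.wg F hC P.reverse = (Mod2.wg F hC P)⁻¹ := by
  induction P with
  | nil => simp [Mod2.wg_nil]
  | cons r P ih =>
    rw [List.reverse_cons, Mod2.wg_append, ih, Mod2.wg_cons hC r P, mul_inv_rev, Mod2.wg_cons,
      Mod2.wg_nil, mul_one, Twist.CharTwo.xg_inv_self]

theorem wg_map {w : List ℕ} (hw : ∀ i ∈ w, i < D.rank) :
    ∀ l : List ℕ, (∀ r ∈ l, r < D.nroots) →
      Mod2.wg F hC (l.map (Twist.applyW T w)) = nL hC F w * Mod2.wg F hC l * (nL hC F w)⁻¹ := by
  intro l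
  induction l with
  | nil => intro _; simp [Mod2.wg_nil]
  | cons r l ih =>
    intro hl
    rw [List.map_cons, Mod2.wg_cons, Mod2.wg_cons, ih fun s hs => hl s (List.mem_cons_of_mem r hs),
      show Twist.applyW T w r = wL D w r from
        StConj.actT_foldr hC hw (hl r List.mem_cons_self),
      ← Twist.CharTwo.nL_conj hw (hl r List.mem_cons_self) (1 : F)]
    group

theorem cwords_mem {w P Q : List ℕ} (hw : ∀ i ∈ w, i < D.rank) (hP : ∀ r ∈ P, r < D.nroots)
    (hQ : ∀ r ∈ Q, r < D.nroots) {K : Subgroup (GL D.Idx F)} (ha : Mod2.wg F hC Q ∈ K)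
    (hb : Mod2.wg F hC P * nL hC F w ∈ K) :
    ∀ idx : List ℕ, Mod2.wg F hC (cwords T w P Q idx) ∈ K := by
  have key : ∀ i, (∀ r ∈ cword T w P Q i, r < D.nroots) ∧ Mod2.wg F hC (cword T w P Q i) ∈ K := by
    intro i
    induction i with
    | zero => exact ⟨hQ, ha⟩
    | succ i ih =>
      change (∀ r ∈ P ++ (cword T w P Q i).map (Twist.applyW T w) ++ P.reverse, r < D.nroots) ∧
        Mod2.wg F hC (P ++ (cword T w P Q i).map (Twist.applyW T w) ++ P.reverse) ∈ K
      refine ⟨fun r hr => ?_, ?_⟩
      · rcases List.mem_append.1 hr with hr | hr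
        · rcases List.mem_append.1 hr with hr | hr
          · exact hP r hr
          · obtain ⟨s, hs, rfl⟩ := List.mem_map.1 hr
            rw [show Twist.applyW T w s = wL D w s from StConj.actT_foldr hC hw (ih.1 s hs)]
            exact wL_lt hC hw (ih.1 s hs)
        · exact hP r (List.mem_reverse.1 hr)
      · rw [Mod2.wg_append, Mod2.wg_append, wg_reverse, wg_map hw _ ih.1]
        have := mul_mem (mul_mem hb ih.2) (inv_mem hb)
        simpa [mul_assoc] using this
  intro idx
  induction idx with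
  | nil => exact one_mem K
  | cons i idx ih =>
    show Mod2.wg F hC (cword T w P Q i ++ cwords T w P Q idx) ∈ K
    rw [Mod2.wg_append]
    exact mul_mem (key i).2 ih

end Cfsg.Agent.Chevalley.TwoGen
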