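import Cfsg.Agent.Lib.Chevalley.TwoGenData

/-!
Each Chevalley group of the seven types is generated by two elements.
-/

set_option autoImplicit false
set_option linter.style.haveILetI false

open scoped Matrix

namespace Cfsg.Agent.Chevalley.TwoGen

open Cfsg.Lie Cfsg.Agent.Chevalley Cfsg.Agent.Chevalley.Table Cfsg.Agent.Chevalley.Cert
  Cfsg.Agent.Chevalley.Group Cfsg.Agent.Chevalley.Borel Cfsg.Agent.Exceptional

variable {F : Type*} [Field F]

theorem ok_one : ∀ z : ℤ, okC [1] z = true → (z : F) ≠ 0 := by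
  intro z hz
  rw [okC, memL_iff, List.mem_singleton] at hz
  rcases Int.natAbs_eq_iff.1 hz with rfl | rfl <;> simp

theorem ok_two (h2 : (2 : F) ≠ 0) : ∀ z : ℤ, okC [1, 2] z = true → (z : F) ≠ 0 := by
  intro z hz
  rw [okC, memL_iff] at hz
  simp only [List.mem_cons, List.not_mem_nil, or_false] at hz
  rcases hz with hz | hz <;> rcases Int.natAbs_eq_iff.1 hz with rfl | rfl <;> simp [h2]

theorem two_or_three [Finite F] : (∀ x : F, x = 0 ∨ x = 1) ∨ ∃ x : F, x ≠ 0 ∧ x ≠ 1 :=
  (forall_or_exists_not _).imp id fun ⟨x, h⟩ => ⟨x, not_or.1 h⟩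

theorem charTwo_of_two (h : ∀ x : F, x = 0 ∨ x = 1) : CharP F 2 := by
  refine CharTwo.of_one_ne_zero_of_two_eq_zero one_ne_zero ?_
  rcases h 2 with e | e
  · exact e
  · exact absurd (show (1 : F) = 0 by linear_combination e) one_ne_zero

/-- Generators of a group from the conjugates word. -/
theorem gen_top {D : ChevalleyDatum} (a b : D.group F)
    (h : ∀ K : Subgroup (GL D.Idx F), (a : GL D.Idx F) ∈ K → (b : GL D.Idx F) ∈ K → D.group F ≤ K) :
    Subgroup.closure ({a, b} : Set (D.group F)) = ⊤ := by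
  rw [eq_top_iff]
  intro x _
  obtain ⟨y, hy, e⟩ := h ((Subgroup.closure ({a, b} : Set (D.group F))).map (D.group F).subtype)
    ⟨a, Subgroup.subset_closure (Or.inl rfl), rfl⟩ ⟨b, Subgroup.subset_closure (Or.inr rfl), rfl⟩ x.2
  rwa [show x = y from Subtype.ext e.symm]

theorem two_gen_D4_two (hF : ∀ x : F, x = 0 ∨ x = 1) :
    ∃ a b : chevD4.group F, Subgroup.closure ({a, b} : Set (chevD4.group F)) = ⊤ := by
  haveI := charTwo_of_two hF
  have hC := Types.D4.certified
  have hlt : (1 < chevD4.nroots ∧ 2 < chevD4.nroots) ∧ ∀ i ∈ [0, 1, 2, 3], i < chevD4.rank := by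
    decide +kernel
  refine ⟨⟨_, xg_mem_group hC hlt.1.1 1⟩, ⟨_, mul_mem (xg_mem_group hC hlt.1.2 1)
    (N_le_group hC (nL_mem_N hC hlt.2))⟩, gen_top _ _ fun K ha hb => ?_⟩
  have h2 : xg hC 2 (1 : F) ∈ K := by
    have h := cwords_mem (F := F) (K := K) (hC := hC) (P := [2]) (Q := [1]) hlt.2 (by simpa using hlt.1.2)
      (by simpa using hlt.1.1) (by simpa [Mod2.wg_cons, Mod2.wg_nil] using ha)
      (by simpa [Mod2.wg_cons, Mod2.wg_nil] using hb) [3, 0, 3, 0, 5, 3, 0, 3, 0, 5]
    rw [Mod2.sameW_spec (F := F) hC wordD4] at h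
    simpa [Mod2.wg_cons, Mod2.wg_nil] using h
  refine group_le_of_chk ok_one close2D4 ((mul_mem_cancel_left h2).1 hb) fun g hg _ v => ?_
  rcases hF v with rfl | rfl
  · rw [xg_zero hC]; exact one_mem K
  · simp only [List.mem_cons, List.not_mem_nil, or_false] at hg
    rcases hg with rfl | rfl
    exacts [ha, h2]

theorem two_gen_F4_two (hF : ∀ x : F, x = 0 ∨ x = 1) :
    ∃ a b : chevF4.group F, Subgroup.closure ({a, b} : Set (chevF4.group F)) = ⊤ := by
  haveI := charTwo_of_two hF
  have hC := Types.F4.certified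
  have hlt : (0 < chevF4.nroots ∧ 3 < chevF4.nroots ∧ 21 < chevF4.nroots) ∧
      ∀ i ∈ [0, 1, 2, 3], i < chevF4.rank := by decide +kernel
  refine ⟨⟨_, mul_mem (xg_mem_group hC hlt.1.1 (1 : F)) (xg_mem_group hC hlt.1.2.1 1)⟩,
    ⟨_, N_le_group hC (nL_mem_N hC hlt.2)⟩, gen_top _ _ fun K ha hb => ?_⟩
  have h21 : xg hC 21 (1 : F) ∈ K := by
    have h := cwords_mem (F := F) (K := K) (hC := hC) (P := []) (Q := [0, 3]) hlt.2 (by simp)
      (by simp [hlt.1.1, hlt.1.2.1]) (by simpa [Mod2.wg_cons, Mod2.wg_nil] using ha)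
      (by simpa [Mod2.wg_nil] using hb) [0, 3, 0, 3, 4, 0, 3, 0, 3, 4]
    rw [Mod2.sameW_spec (F := F) hC wordF4] at h
    simpa [Mod2.wg_cons, Mod2.wg_nil] using h
  have hfull : ∀ v : F, xg hC 21 v ∈ K := fun v => by
    rcases hF v with rfl | rfl
    exacts [by rw [xg_zero hC]; exact one_mem K, h21]
  have h0 : xg hC 0 (1 : F) ∈ K := by
    have hmem : 0 ∈ orbitL Data.F4.tab [0, 1, 2, 3] 21 30 := memL_iff.1 (by decide +kernel)
    exact (orbitL_spec hlt.2 hb ⟨hlt.1.2.2, hfull⟩ 30 0 hmem).2 1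
  refine group_le_of_chk ok_one close2F4 hb fun g hg _ v => ?_
  simp only [List.mem_cons, List.not_mem_nil, or_false] at hg
  rcases hg with rfl | rfl
  · exact hfull v
  · rcases hF v with rfl | rfl
    exacts [by rw [xg_zero hC]; exact one_mem K, (mul_mem_cancel_left h0).1 ha]

theorem two_gen [Finite F] (D : ChevalleyDatum)
    (hD : D ∈ [chevG2, chevB2, chevD4, chevF4, chevE6, chevE7, chevE8])
    (hF : D ∈ [chevB2, chevG2] → ∃ x : F, x ≠ 0 ∧ x ≠ 1) :
    ∃ a b : D.group F, Subgroup.closure ({a, b} : Set (D.group F)) = ⊤ := by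
  classical
  haveI := Fintype.ofFinite F
  have h1 : ∀ {p : ℕ × ℕ × ℕ}, p.2.2 = 1 → ∀ q ∈ [p], Nat.Coprime (Nat.card Fˣ) q.2.2 := by
    intro p hp q hq
    rw [List.mem_singleton.1 hq, hp]
    exact Nat.coprime_one_right _
  simp only [List.mem_cons, List.not_mem_nil, or_false] at hD
  rcases hD with rfl | rfl | rfl | rfl | rfl | rfl | rfl
  · exact exists_pair Types.G2.certified ok_one pickG2 closeG2 le_rfl (h1 rfl) (hF (by simp))
  · have hq := hF (by simp)
    by_cases h2 : (2 : F) = 0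
    · haveI : CharP F 2 := CharTwo.of_one_ne_zero_of_two_eq_zero one_ne_zero h2
      refine exists_pair Types.B2.certified ok_one pickB2e closeB2e le_rfl (fun q hq' => ?_) hq
      rw [List.mem_singleton.1 hq', Nat.card_units, Nat.card_eq_fintype_card]
      show Nat.Coprime (Fintype.card F - 1) 2
      rw [Nat.coprime_two_right]
      obtain ⟨k, hp, hk⟩ := FiniteField.card F 2
      rw [hk]
      exact Nat.Even.sub_odd Nat.one_le_two_pow ((Nat.even_pow.2 ⟨even_two, k.ne_zero⟩)) odd_one
    · exact exists_pair Types.B2.certified (ok_two h2) pickB2o closeB2o (by simp) (by simp) hq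
  · rcases two_or_three (F := F) with h | h
    · exact two_gen_D4_two h
    · exact exists_pair Types.D4.certified ok_one pickD4 closeD4 le_rfl (h1 rfl) h
  · rcases two_or_three (F := F) with h | h
    · exact two_gen_F4_two h
    · exact exists_pair Types.F4.certified ok_one pickF4 closeF4 le_rfl (h1 rfl) h
  · rcases two_or_three (F := F) with h | h
    · exact exists_pair_two Types.E6.certified ok_one (by decide +kernel) (by decide +kernel) close2E6 h
    · exact exists_pair Types.E6.certified ok_one pickE6 closeE6 le_rfl (h1 rfl) h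
  · rcases two_or_three (F := F) with h | h
    · exact exists_pair_two Types.E7.certified ok_one (by decide +kernel) (by decide +kernel) close2E7 h
    · exact exists_pair Types.E7.certified ok_one pickE7 closeE7 le_rfl (h1 rfl) h
  · rcases two_or_three (F := F) with h | h
    · exact exists_pair_two Types.E8.certified ok_one (by decide +kernel) (by decide +kernel) close2E8 h
    · exact exists_pair Types.E8.certified ok_one pickE8 closeE8 le_rfl (h1 rfl) h

end Cfsg.Agent.Chevalley.TwoGen
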