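import Cfsg.Agent.Lib.Chevalley.Weight

/-!
The structure of the unipotent subgroups: normal series, ordered products, uniqueness, intersections.
-/

set_option autoImplicit false

open scoped Matrix

namespace Cfsg.Agent.Chevalley.Unip

open Cfsg.Lie Cfsg.Agent.Chevalley.Eval Cfsg.Agent.Chevalley.Table Cfsg.Agent.Chevalley.Check
  Cfsg.Agent.Chevalley.Cert Cfsg.Agent.Chevalley.Columns Cfsg.Agent.Chevalley.Root
  Cfsg.Agent.Chevalley.Relations Cfsg.Agent.Chevalley.Diag Cfsg.Agent.Chevalley.Group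
  Cfsg.Agent.Chevalley.Weight

variable {D : ChevalleyDatum} {F : Type*} [Field F] {T : Tab}

/-- A product of root elements. -/
def prodX (hC : Certified D T) (L : List ℕ) (t : ℕ → F) : GL D.Idx F :=
  (L.map fun r => xg hC r (t r)).prod

/-- The subgroup generated by the positive root elements with index at least `a`. -/
def Uge (hC : Certified D T) (F : Type*) [Field F] (a : ℕ) : Subgroup (GL D.Idx F) :=
  Subgroup.closure {g | ∃ (s : ℕ) (t : F), s < D.nroots ∧ 0 < T.phi s ∧ a ≤ s ∧ g = xg hC s t}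

/-- The positive roots with index at least `a`, increasing. -/
def posFrom (D : ChevalleyDatum) (a : ℕ) : List ℕ := D.posRoots.filter fun s => decide (a ≤ s)

variable (hC : Certified D T)
include hC

theorem mem_posRoots {r : ℕ} : r ∈ D.posRoots ↔ r < D.nroots ∧ 0 < T.phi r := by
  simp only [ChevalleyDatum.posRoots, List.mem_filter, List.mem_range, decide_eq_true_eq]
  exact ⟨fun h => ⟨h.1, (hC.posRoot_iff h.1).1 h.2⟩, fun h => ⟨h.1, (hC.posRoot_iff h.1).2 h.2⟩⟩

theorem mem_posFrom {a r : ℕ} : r ∈ posFrom D a ↔ r < D.nroots ∧ 0 < T.phi r ∧ a ≤ r := by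
  rw [posFrom, List.mem_filter, mem_posRoots hC, decide_eq_true_eq, and_assoc]

omit hC in
theorem posRoots_sorted : D.posRoots.Pairwise (· < ·) := List.Pairwise.filter _ List.pairwise_lt_range

omit hC in
theorem posFrom_sorted (a : ℕ) : (posFrom D a).Pairwise (· < ·) :=
  List.Pairwise.filter _ posRoots_sorted

omit hC in
theorem posFrom_zero : posFrom D 0 = D.posRoots := by
  simp [posFrom, List.filter_eq_self]

theorem eq_of_sorted {L L' : List ℕ} (h : L.Pairwise (· < ·)) (h' : L'.Pairwise (· < ·))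
    (hm : ∀ x, x ∈ L ↔ x ∈ L') : L = L' :=
  ((List.perm_ext_iff_of_nodup (h.imp ne_of_lt) (h'.imp ne_of_lt)).2 hm).eq_of_pairwise
    (fun _ _ _ _ hab hba => absurd hba (lt_asymm hab)) h h'

theorem posFrom_cons {a : ℕ} (ha : a < D.nroots) (hp : 0 < T.phi a) :
    posFrom D a = a :: posFrom D (a + 1) := by
  refine eq_of_sorted hC (posFrom_sorted a) (List.pairwise_cons.2 ⟨fun x hx => ?_, posFrom_sorted _⟩) fun x => ?_
  · have := ((mem_posFrom hC).1 hx).2.2; omega
  · rw [List.mem_cons, mem_posFrom hC, mem_posFrom hC]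
    constructor
    · rintro ⟨h1, h2, h3⟩
      rcases Nat.eq_or_lt_of_le h3 with h4 | h4
      exacts [Or.inl h4.symm, Or.inr ⟨h1, h2, h4⟩]
    · rintro (rfl | ⟨h1, h2, h3⟩)
      exacts [⟨ha, hp, le_rfl⟩, ⟨h1, h2, by omega⟩]

theorem posFrom_skip {a : ℕ} (hp : ¬ (a < D.nroots ∧ 0 < T.phi a)) :
    posFrom D a = posFrom D (a + 1) := by
  refine eq_of_sorted hC (posFrom_sorted a) (posFrom_sorted _) fun x => ?_
  rw [mem_posFrom hC, mem_posFrom hC]
  refine ⟨fun ⟨h1, h2, h3⟩ => ⟨h1, h2, ?_⟩, fun ⟨h1, h2, h3⟩ => ⟨h1, h2, by omega⟩⟩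
  rcases Nat.eq_or_lt_of_le h3 with h4 | h4
  · exact absurd ⟨h4 ▸ h1, h4 ▸ h2⟩ hp
  · exact h4

/-! ### Commutators of positive root elements -/

theorem commTerms_phi {r s : ℕ} (hr : r < D.nroots) (hs : s < D.nroots) :
    ∀ c ∈ D.commTerms r s, c.1 < D.nroots ∧ ∃ i j : ℕ, 1 ≤ i ∧ 1 ≤ j ∧
      T.phi c.1 = i * T.phi r + j * T.phi s := by
  intro c hc
  refine ⟨commTerms_lt hC hr hs c hc, ?_⟩
  have hroot : ∀ {a b m k : ℕ}, a < D.nroots → D.chainRoot a b m = some k →
      T.phi k = ((m - 1 : ℕ) + 1 : ℤ) * T.phi a + T.phi b := by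
    intro a b m k ha h
    obtain ⟨q, hq, rfl⟩ := Option.map_eq_some_iff.1 h
    exact (hC.chain_step ha hq).2.2
  simp only [ChevalleyDatum.commTerms, List.mem_filterMap] at hc
  obtain ⟨x, hx, hxc⟩ := hc
  obtain ⟨k, hk, rfl⟩ := Option.map_eq_some_iff.1 hxc
  simp only [List.mem_cons, List.not_mem_nil, or_false] at hx
  rcases hx with rfl | rfl | rfl | rfl | rfl | rfl | rfl
  · exact ⟨1, 1, le_rfl, le_rfl, by rw [hroot hr hk]; norm_num⟩
  · exact ⟨2, 1, by omega, le_rfl, by rw [hroot hr hk]; norm_num⟩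
  · exact ⟨1, 2, le_rfl, by omega, by rw [hroot hs hk]; norm_num; ring⟩
  · exact ⟨3, 1, by omega, le_rfl, by rw [hroot hr hk]; norm_num⟩
  · exact ⟨1, 3, le_rfl, by omega, by rw [hroot hs hk]; norm_num; ring⟩
  · obtain ⟨m, hm, hmk⟩ := Option.bind_eq_some_iff.1 hk
    exact ⟨3, 2, by omega, by omega, by
      rw [hroot (chainRoot_lt hC hr hm) hmk, hroot hr hm]; norm_num; ring⟩
  · obtain ⟨m, hm, hmk⟩ := Option.bind_eq_some_iff.1 hk
    exact ⟨2, 3, by omega, by omega, by
      rw [hroot (chainRoot_lt hC hs hm) hmk, hroot hs hm]; norm_num; ring⟩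

/-- The commutator formula in the group. -/
theorem xg_comm {r s : ℕ} (hr : r < D.nroots) (hs : s < D.nroots) (hsr : s ≠ r) (hsn : s ≠ D.neg r)
    (t u : F) :
    xg hC s u * xg hC r t = xg hC r t * xg hC s u *
      ((D.commWord F r s t u).map fun p => xg hC p.1 p.2).prod := by
  apply Units.ext
  rw [Units.val_mul, Units.val_mul, Units.val_mul, coe_xg, coe_xg, x_comm hC hr hs hsr hsn t u]
  congr 1
  induction D.commWord F r s t u with
  | nil => rfl
  | cons p w ih => rw [List.map_cons, List.prod_cons, Units.val_mul, coe_xg, wordMat_cons, ih]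

theorem commWord_mem {r s a : ℕ} (hr : r < D.nroots) (hs : s < D.nroots) (hpr : 0 < T.phi r)
    (hps : 0 < T.phi s) (ha : a ≤ max r s + 1) (t u : F) :
    ((D.commWord F r s t u).map fun p => xg hC p.1 p.2).prod ∈ Uge hC F a := by
  refine list_prod_mem fun g hg => ?_
  obtain ⟨p, hp, rfl⟩ := List.mem_map.1 hg
  simp only [ChevalleyDatum.commWord, List.mem_map] at hp
  obtain ⟨c, hc, rfl⟩ := hp
  obtain ⟨hk, i, j, hi, hj, hphi⟩ := commTerms_phi hC hr hs c hc
  have h1 : T.phi r + T.phi s ≤ T.phi c.1 := by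
    rw [hphi]
    exact add_le_add (le_mul_of_one_le_left hpr.le (by exact_mod_cast hi))
      (le_mul_of_one_le_left hps.le (by exact_mod_cast hj))
  refine Subgroup.subset_closure ⟨c.1, _, hk, by omega, ?_, rfl⟩
  have h2 := (hC.phi_lt_iff hr hk).1 (by omega)
  have h3 := (hC.phi_lt_iff hs hk).1 (by omega)
  omega

theorem Uge_mono {a b : ℕ} (h : a ≤ b) : Uge hC F b ≤ Uge hC F a :=
  Subgroup.closure_mono fun _ ⟨s, t, h1, h2, h3, h4⟩ => ⟨s, t, h1, h2, h.trans h3, h4⟩

theorem Uge_eq_bot {a : ℕ} (h : D.nroots ≤ a) : Uge hC F a = ⊥ := by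
  rw [Uge, eq_bot_iff, Subgroup.closure_le]
  rintro g ⟨s, t, h1, -, h3, -⟩
  omega

theorem xg_mem_Uge {a s : ℕ} (hs : s < D.nroots) (hp : 0 < T.phi s) (ha : a ≤ s) (t : F) :
    xg hC s t ∈ Uge hC F a :=
  Subgroup.subset_closure ⟨s, t, hs, hp, ha, rfl⟩

theorem Uge_zero : Uge hC F 0 = D.posUnipotent F := by
  refine le_antisymm (Subgroup.closure_mono ?_) (Subgroup.closure_mono ?_)
  · rintro g ⟨s, t, h1, h2, -, rfl⟩
    exact ⟨s, t, (hC.posRoot_iff h1).2 h2, rfl⟩
  · rintro g ⟨r, t, hr, hg⟩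
    exact ⟨r, t, hr.1, (hC.posRoot_iff hr.1).1 hr, Nat.zero_le r, eq_xg hC hg⟩

/-- A positive root element normalises every `Uge a`. -/
theorem conj_Uge {r : ℕ} (hr : r < D.nroots) (hp : 0 < T.phi r) (t : F) {a : ℕ} {g : GL D.Idx F}
    (hg : g ∈ Uge hC F a) : xg hC r t * g * (xg hC r t)⁻¹ ∈ Uge hC F a := by
  induction hg using Subgroup.closure_induction with
  | mem g hg =>
    obtain ⟨s, u, hs, hps, has, rfl⟩ := hg
    by_cases hsr : s = r
    · subst hsr
      rw [← xg_add hC, xg_inv hC, ← xg_add hC]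
      exact xg_mem_Uge hC hs hps has _
    · have hsn : s ≠ D.neg r := by
        rintro rfl
        rw [hC.phi_neg hr] at hps
        omega
      have h := xg_comm hC hr hs hsr hsn (-t) u
      rw [← xg_inv hC r t] at h
      have e : xg hC r t * xg hC s u * (xg hC r t)⁻¹ = xg hC s u *
          ((D.commWord F r s (-t) u).map fun p => xg hC p.1 p.2).prod := by
        calc _ = xg hC r t * (xg hC s u * (xg hC r t)⁻¹) := by rw [mul_assoc]
          _ = _ := by rw [h]; simp only [← mul_assoc, mul_inv_cancel, one_mul]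
      rw [e]
      exact mul_mem (xg_mem_Uge hC hs hps has u) (commWord_mem hC hr hs hp hps (by omega) _ _)
  | one => simp
  | mul x y _ _ ihx ihy =>
    have e : xg hC r t * (x * y) * (xg hC r t)⁻¹ =
        xg hC r t * x * (xg hC r t)⁻¹ * (xg hC r t * y * (xg hC r t)⁻¹) := by group
    rw [e]; exact mul_mem ihx ihy
  | inv x _ ih =>
    have e : xg hC r t * x⁻¹ * (xg hC r t)⁻¹ = (xg hC r t * x * (xg hC r t)⁻¹)⁻¹ := by group
    rw [e]; exact inv_mem ih

theorem conj_Uge_of_mem {u g : GL D.Idx F} {a : ℕ} (hu : u ∈ D.posUnipotent F)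
    (hg : g ∈ Uge hC F a) : u * g * u⁻¹ ∈ Uge hC F a := by
  rw [← Uge_zero hC] at hu
  induction hu using Subgroup.closure_induction_left generalizing g with
  | one => simpa using hg
  | mul_left x hx y _ ih =>
    obtain ⟨s, t, hs, hps, -, rfl⟩ := hx
    have e : xg hC s t * y * g * (xg hC s t * y)⁻¹ = xg hC s t * (y * g * y⁻¹) * (xg hC s t)⁻¹ := by
      group
    rw [e]; exact conj_Uge hC hs hps t (ih hg)
  | inv_mul_cancel x hx y _ ih =>
    obtain ⟨s, t, hs, hps, -, rfl⟩ := hx
    rw [xg_inv hC]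
    have e : xg hC s (-t) * y * g * (xg hC s (-t) * y)⁻¹ =
        xg hC s (-t) * (y * g * y⁻¹) * (xg hC s (-t))⁻¹ := by group
    rw [e]; exact conj_Uge hC hs hps (-t) (ih hg)

/-- Peel off the smallest root from the left. -/
theorem peel {a : ℕ} (ha : a < D.nroots) (hp : 0 < T.phi a) {u : GL D.Idx F}
    (hu : u ∈ Uge hC F a) : ∃ t : F, ∃ v ∈ Uge hC F (a + 1), u = xg hC a t * v := by
  induction hu using Subgroup.closure_induction with
  | mem g hg =>
    obtain ⟨s, t, hs, hps, has, rfl⟩ := hg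
    rcases Nat.eq_or_lt_of_le has with rfl | h
    · exact ⟨t, 1, one_mem _, (mul_one _).symm⟩
    · exact ⟨0, _, xg_mem_Uge hC hs hps h t, by rw [xg_zero hC, one_mul]⟩
  | one => exact ⟨0, 1, one_mem _, by rw [xg_zero hC, one_mul]⟩
  | mul x y _ _ ihx ihy =>
    obtain ⟨t, v, hv, rfl⟩ := ihx
    obtain ⟨t', v', hv', rfl⟩ := ihy
    refine ⟨t + t', (xg hC a t')⁻¹ * v * xg hC a t' * v', mul_mem ?_ hv', ?_⟩
    · have := conj_Uge hC ha hp (-t') hv
      rwa [← xg_inv hC, inv_inv] at this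
    · rw [xg_add hC]; group
  | inv x _ ih =>
    obtain ⟨t, v, hv, rfl⟩ := ih
    refine ⟨-t, xg hC a t * v⁻¹ * (xg hC a t)⁻¹, conj_Uge hC ha hp t (inv_mem hv), ?_⟩
    rw [← xg_inv hC a t]; group

theorem Uge_skip {a : ℕ} (hp : ¬ (a < D.nroots ∧ 0 < T.phi a)) :
    Uge hC F a = Uge hC F (a + 1) := by
  refine le_antisymm (Subgroup.closure_mono ?_) (Uge_mono hC (Nat.le_succ a))
  rintro g ⟨s, t, h1, h2, h3, rfl⟩
  refine ⟨s, t, h1, h2, ?_, rfl⟩
  rcases Nat.eq_or_lt_of_le h3 with h4 | h4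
  · exact absurd ⟨h4 ▸ h1, h4 ▸ h2⟩ hp
  · exact h4

theorem prodX_congr {L : List ℕ} {t t' : ℕ → F} (h : ∀ r ∈ L, t r = t' r) :
    prodX hC L t = prodX hC L t' := by
  rw [prodX, prodX]
  congr 1
  exact List.map_congr_left fun r hr => by rw [h r hr]

theorem prodX_mem {L : List ℕ} {t : ℕ → F} {a : ℕ}
    (h : ∀ r ∈ L, r < D.nroots ∧ 0 < T.phi r ∧ a ≤ r) : prodX hC L t ∈ Uge hC F a := by
  refine list_prod_mem fun g hg => ?_
  obtain ⟨r, hr, rfl⟩ := List.mem_map.1 hg
  exact xg_mem_Uge hC (h r hr).1 (h r hr).2.1 (h r hr).2.2 _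

theorem prodX_reverse_inv (L : List ℕ) (t : ℕ → F) :
    (prodX hC L.reverse t)⁻¹ = prodX hC L (fun r => -t r) := by
  induction L with
  | nil => simp [prodX]
  | cons a L ih =>
    rw [prodX] at ih
    simp only [prodX, List.reverse_cons, List.map_append, List.prod_append, List.map_cons,
      List.map_nil, List.prod_cons, List.prod_nil, mul_one, mul_inv_rev, ih, xg_inv hC]

/-- Every element of `U` is a product along any split of the positive roots. -/
theorem split_decomp (Q : ℕ → Bool) : ∀ a, ∀ u ∈ Uge hC F a, ∃ t : ℕ → F,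
    u = prodX hC ((posFrom D a).filter Q) t * prodX hC ((posFrom D a).filter fun r => !Q r).reverse t := by
  have key : ∀ k a, D.nroots ≤ a + k → ∀ u ∈ Uge hC F a, ∃ t : ℕ → F,
      u = prodX hC ((posFrom D a).filter Q) t *
        prodX hC ((posFrom D a).filter fun r => !Q r).reverse t := by
    intro k
    induction k with
    | zero =>
      intro a ha u hu
      rw [Uge_eq_bot hC (by omega), Subgroup.mem_bot] at hu
      refine ⟨0, ?_⟩
      have : posFrom D a = [] := List.eq_nil_iff_forall_not_mem.2 fun r hr => by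
        have := (mem_posFrom hC).1 hr; omega
      simp [this, hu, prodX]
    | succ k ih =>
      intro a hak u hu
      by_cases hp : a < D.nroots ∧ 0 < T.phi a
      swap
      · rw [posFrom_skip hC hp]
        exact ih (a + 1) (by omega) u (Uge_skip (F := F) hC hp ▸ hu)
      obtain ⟨ha, hp⟩ := hp
      have hne : ∀ r ∈ posFrom D (a + 1), r ≠ a := fun r hr h => by
        have := ((mem_posFrom hC).1 hr).2.2; omega
      have hup : ∀ (L : List ℕ), (∀ r ∈ L, r ∈ posFrom D (a + 1)) → ∀ (f : ℕ → F) (x : F),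
          prodX hC L (Function.update f a x) = prodX hC L f := fun L hL f x =>
        prodX_congr hC fun r hr => Function.update_of_ne (hne r (hL r hr)) x f
      rw [posFrom_cons hC ha hp]
      cases hQ : Q a with
      | true =>
        obtain ⟨t, v, hv, rfl⟩ := peel hC ha hp hu
        obtain ⟨f, rfl⟩ := ih (a + 1) (by omega) v hv
        refine ⟨Function.update f a t, ?_⟩
        rw [List.filter_cons_of_pos hQ, List.filter_cons_of_neg (by simp [hQ]),
          hup _ (fun r hr => List.mem_of_mem_filter (List.mem_reverse.1 hr)) f t,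
          show prodX hC (a :: (posFrom D (a + 1)).filter Q) (Function.update f a t) =
            xg hC a t * prodX hC ((posFrom D (a + 1)).filter Q) (Function.update f a t) by
            simp [prodX],
          hup _ (fun r hr => List.mem_of_mem_filter hr) f t, mul_assoc]
      | false =>
        obtain ⟨t, v, hv, hvu⟩ := peel hC ha hp (inv_mem hu)
        obtain ⟨f, hf⟩ := ih (a + 1) (by omega) v⁻¹ (inv_mem hv)
        refine ⟨Function.update f a (-t), ?_⟩
        rw [List.filter_cons_of_neg (by simp [hQ]), List.filter_cons_of_pos (by simp [hQ]),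
          List.reverse_cons]
        rw [inv_eq_iff_eq_inv, mul_inv_rev, xg_inv hC, hf] at hvu
        rw [hvu, hup _ (fun r hr => List.mem_of_mem_filter hr) f (-t),
          show prodX hC (((posFrom D (a + 1)).filter fun r => !Q r).reverse ++ [a])
              (Function.update f a (-t)) =
            prodX hC ((posFrom D (a + 1)).filter fun r => !Q r).reverse (Function.update f a (-t)) *
              xg hC a (-t) by simp [prodX],
          hup _ (fun r hr => List.mem_of_mem_filter (List.mem_reverse.1 hr)) f (-t), mul_assoc]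
  exact fun a => key D.nroots a (by omega)

theorem exists_prodX {u : GL D.Idx F} (hu : u ∈ D.posUnipotent F) :
    ∃ t : ℕ → F, u = prodX hC D.posRoots t := by
  rw [← Uge_zero hC] at hu
  obtain ⟨t, ht⟩ := split_decomp hC (fun _ => true) 0 u hu
  refine ⟨t, ht.trans ?_⟩
  simp [prodX, posFrom_zero]

theorem Uge_le_UT {a : ℕ} {d : ℤ} (hd : 0 ≤ d)
    (h : ∀ s, s < D.nroots → 0 < T.phi s → a ≤ s → d ≤ T.phi s) :
    Uge hC F a ≤ UT (wt D T) d hd := by
  rw [Uge, Subgroup.closure_le]
  rintro g ⟨s, t, h1, h2, h3, rfl⟩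
  exact x_mem_UT hC d hd (h s h1 h2 h3) t

theorem U_le_UT : D.posUnipotent F ≤ UT (wt D T) 1 zero_le_one := by
  rw [← Uge_zero hC]
  exact Uge_le_UT hC _ fun s _ h _ => h

theorem V_le_UT : D.negUnipotent F ≤ UT (fun i => -wt D T i) 1 zero_le_one := by
  rw [ChevalleyDatum.negUnipotent, Subgroup.closure_le]
  rintro g ⟨r, t, hr, hg⟩
  rw [eq_xg hC hg]
  refine x_mem_UT' hC 1 _ ?_ t
  have hnot : ¬ 0 < T.phi r := fun h => by
    have hp := (hC.posRoot_iff hr.1).2 h
    obtain ⟨i, hi⟩ := exists_cor_ne (F := ℚ) hC hr.1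
    apply hi
    suffices cor D r i = 0 by simp [this]
    show (D.coroot.getD r #[]).getD i 0 = 0
    rw [← toList_getD]
    by_cases hi' : (i : ℕ) < (D.coroot.getD r #[]).toList.length
    · rw [List.getD_eq_getElem _ _ hi']
      exact le_antisymm (hr.2 _ (List.getElem_mem hi')) (hp.2 _ (List.getElem_mem hi'))
    · rw [List.getD_eq_default _ _ (by omega)]
  have := hC.phi_ne_zero hr.1
  omega

theorem U_inf_V {g : GL D.Idx F} (h1 : g ∈ D.posUnipotent F) (h2 : g ∈ D.negUnipotent F) : g = 1 :=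
  eq_one_of_pos_neg (wt D T) (Or.inl zero_lt_one) (U_le_UT hC h1) (V_le_UT hC h2)

theorem prodX_inj : ∀ {L : List ℕ}, L.Pairwise (· < ·) → (∀ r ∈ L, r < D.nroots ∧ 0 < T.phi r) →
    ∀ {t t' : ℕ → F}, prodX hC L t = prodX hC L t' → ∀ r ∈ L, t r = t' r := by
  intro L
  induction L with
  | nil => simp
  | cons a L ih =>
    intro hs hL t t' h r hr
    obtain ⟨ha, hp⟩ := hL a List.mem_cons_self
    have hpair := List.pairwise_cons.1 hs
    have hge : ∀ f : ℕ → F, prodX hC L f ∈ UT (wt D T) (T.phi a + 1) (by omega) := by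
      intro f
      refine Uge_le_UT hC (a := a + 1) _ (fun s h1 h2 h3 => ?_) (prodX_mem hC fun s hs' => ?_)
      · exact Int.add_one_le_of_lt (hC.phi_lt (by omega) h1)
      · exact ⟨(hL s (List.mem_cons_of_mem a hs')).1, (hL s (List.mem_cons_of_mem a hs')).2,
          hpair.1 s hs'⟩
    obtain ⟨i, hi⟩ := exists_cor_ne (F := F) hC ha
    have hentry : ∀ f : ℕ → F, ((prodX hC (a :: L) f : GL D.Idx F) : Matrix D.Idx D.Idx F)
        (Sum.inl i) (Sum.inr ⟨D.neg a, hC.neg_lt ha⟩) = (cor D a i : F) * f a := by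
      intro f
      have e : prodX hC (a :: L) f = xg hC a (f a) * prodX hC L f := by simp [prodX]
      rw [e, Units.val_mul, coe_xg]
      have hfil : Fil (wt D T) 0 (D.x F a (f a)) := by
        intro x y hxy
        by_cases hxy' : x = y
        · simp [hxy']
        · obtain ⟨k, hk, hk'⟩ := x_entry hC (r := a) (t := f a) (a := x) (b := y)
            (by rw [Matrix.sub_apply, Matrix.one_apply_ne hxy', sub_zero]; exact hxy)
          rw [hk']; positivity
      rw [mul_apply_eq' (wt D T) hfil (hge f).1, ← x_entry_cor hC ha i (f a), Matrix.sub_apply,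
        Matrix.one_apply_ne (by simp), sub_zero]
      simp [wt, hC.phi_neg ha]
    have hta : t a = t' a := by
      have h1 := hentry t
      rw [h, hentry t'] at h1
      exact (mul_left_cancel₀ hi h1).symm
    rcases List.mem_cons.1 hr with rfl | hr
    · exact hta
    · refine ih hpair.2 (fun s hs' => hL s (List.mem_cons_of_mem a hs')) ?_ r hr
      simp only [prodX, List.map_cons, List.prod_cons, hta] at h
      exact mul_left_cancel h

end Cfsg.Agent.Chevalley.Unip
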