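import Cfsg.Agent.Lib.Chevalley.Group

/-!
The weight filtration on matrices and the unitriangular subgroups it defines.
-/

set_option autoImplicit false

open scoped Matrix

namespace Cfsg.Agent.Chevalley.Weight

open Cfsg.Lie Cfsg.Agent.Chevalley.Eval Cfsg.Agent.Chevalley.Table Cfsg.Agent.Chevalley.Check
  Cfsg.Agent.Chevalley.Cert Cfsg.Agent.Chevalley.Columns Cfsg.Agent.Chevalley.Root
  Cfsg.Agent.Chevalley.Relations Cfsg.Agent.Chevalley.Diag Cfsg.Agent.Chevalley.Group

section Generic

variable {ι : Type*} [Fintype ι] [DecidableEq ι] {R : Type*} [CommRing R] (w : ι → ℤ)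

/-- Entries vanish unless the weight drops by at least `d`. -/
def Fil (d : ℤ) (A : Matrix ι ι R) : Prop := ∀ a b, A a b ≠ 0 → d ≤ w a - w b

theorem fil_zero (d : ℤ) : Fil w d (0 : Matrix ι ι R) := fun a b h => absurd rfl h

theorem fil_mono {d e : ℤ} (h : e ≤ d) {A : Matrix ι ι R} (hA : Fil w d A) : Fil w e A :=
  fun a b hab => h.trans (hA a b hab)

theorem fil_add {d : ℤ} {A B : Matrix ι ι R} (hA : Fil w d A) (hB : Fil w d B) : Fil w d (A + B) := by
  intro a b h
  by_cases hA0 : A a b = 0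
  · rw [Matrix.add_apply, hA0, zero_add] at h
    exact hB a b h
  · exact hA a b hA0

theorem fil_neg {d : ℤ} {A : Matrix ι ι R} (hA : Fil w d A) : Fil w d (-A) :=
  fun a b h => hA a b (by simpa using h)

theorem fil_mul {d e : ℤ} {A B : Matrix ι ι R} (hA : Fil w d A) (hB : Fil w e B) :
    Fil w (d + e) (A * B) := by
  intro a b h
  rw [Matrix.mul_apply] at h
  obtain ⟨c, -, hc⟩ := Finset.exists_ne_zero_of_sum_ne_zero h
  have h1 := hA a c (left_ne_zero_of_mul hc)
  have h2 := hB c b (right_ne_zero_of_mul hc)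
  omega

/-- The congruence subgroup of unitriangular elements. -/
def UT (d : ℤ) (hd : 0 ≤ d) : Subgroup (GL ι R) where
  carrier := {g | Fil w d ((g : Matrix ι ι R) - 1) ∧ Fil w d ((↑g⁻¹ : Matrix ι ι R) - 1)}
  one_mem' := by simp [fil_zero]
  inv_mem' h := ⟨h.2, by simpa using h.1⟩
  mul_mem' := by
    have key : ∀ A B : Matrix ι ι R, Fil w d (A - 1) → Fil w d (B - 1) → Fil w d (A * B - 1) := by
      intro A B hA hB
      have e : A * B - 1 = (A - 1) * (B - 1) + ((A - 1) + (B - 1)) := by noncomm_ring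
      rw [e]
      exact fil_add w (fil_mono w (by omega) (fil_mul w hA hB)) (fil_add w hA hB)
    intro g g' hg hg'
    refine ⟨by rw [Units.val_mul]; exact key _ _ hg.1 hg'.1, ?_⟩
    rw [mul_inv_rev, Units.val_mul]
    exact key _ _ hg'.2 hg.2

theorem mem_UT {d : ℤ} {hd : 0 ≤ d} {g : GL ι R} :
    g ∈ UT w d hd ↔
      Fil w d ((g : Matrix ι ι R) - 1) ∧ Fil w d ((↑g⁻¹ : Matrix ι ι R) - 1) := Iff.rfl

theorem UT_mono {d e : ℤ} (hd : 0 ≤ d) (he : 0 ≤ e) (h : e ≤ d) :
    UT (R := R) w d hd ≤ UT w e he :=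
  fun _ hg => ⟨fil_mono w h hg.1, fil_mono w h hg.2⟩

/-- A strictly triangular product does not change entries of small weight difference. -/
theorem mul_apply_eq {d e : ℤ} {A B : Matrix ι ι R} (hA : Fil w d (A - 1)) (hB : Fil w e B) {a b : ι}
    (hab : w a - w b < d + e) : (A * B) a b = B a b := by
  have h : ((A - 1) * B) a b = 0 := by
    by_contra hne
    have := fil_mul w hA hB a b hne
    omega
  rw [sub_mul, one_mul, Matrix.sub_apply, sub_eq_zero] at h
  exact h

/-- A strictly triangular product does not change entries of small weight difference. -/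
theorem mul_apply_eq' {d e : ℤ} {A B : Matrix ι ι R} (hA : Fil w e A) (hB : Fil w d (B - 1)) {a b : ι}
    (hab : w a - w b < e + d) : (A * B) a b = A a b := by
  have h : (A * (B - 1)) a b = 0 := by
    by_contra hne
    have := fil_mul w hA hB a b hne
    omega
  rw [mul_sub, mul_one, Matrix.sub_apply, sub_eq_zero] at h
  exact h

theorem eq_one_of_pos_neg {d e : ℤ} {hd : 0 ≤ d} {he : 0 ≤ e} (hde : 0 < d ∨ 0 < e) {g : GL ι R}
    (h1 : g ∈ UT w d hd) (h2 : g ∈ UT (fun i => -w i) e he) : g = 1 := by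
  apply Units.ext
  ext a b
  by_contra hne
  have hne' : ((g : Matrix ι ι R) - 1) a b ≠ 0 := fun h => hne (by
    rw [Matrix.sub_apply, sub_eq_zero] at h
    rw [Units.val_one]; exact h)
  have h3 := h1.1 a b hne'
  have h4 := h2.1 a b hne'
  dsimp only at h4
  omega

theorem pow_eq_zero_of_fil {A : Matrix ι ι R} (hA : Fil w 1 A) (lev : ι → ℕ) (N : ℕ)
    (hlev : ∀ a b, w b < w a → lev b < lev a) (hN : ∀ a, lev a < N) : A ^ N = 0 := by
  have key : ∀ k a b, (A ^ k) a b ≠ 0 → k + lev b ≤ lev a := by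
    intro k
    induction k with
    | zero =>
      intro a b h
      rw [pow_zero, Matrix.one_apply] at h
      split_ifs at h with hab
      · simp [hab]
      · exact absurd rfl h
    | succ k ih =>
      intro a b h
      rw [pow_succ, Matrix.mul_apply] at h
      obtain ⟨c, -, hc⟩ := Finset.exists_ne_zero_of_sum_ne_zero h
      have h1 := ih a c (left_ne_zero_of_mul hc)
      have h2 := hA c b (right_ne_zero_of_mul hc)
      have h3 := hlev c b (by omega)
      omega
  ext a b
  by_contra h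
  have h1 := key N a b h
  have h2 := hN a
  omega

end Generic

variable (D : ChevalleyDatum) (T : Tab)

/-- Weight of a coordinate. -/
noncomputable def wt : D.Idx → ℤ := Sum.elim (fun _ => 0) (fun s => T.phi s)

/-- Weight of a coordinate number. -/
noncomputable def wtN (j : ℕ) : ℤ := if j < D.rank then 0 else T.phi (j - D.rank)

theorem wtN_code (a : D.Idx) : wtN D T (code D a) = wt D T a := by
  rcases a with i | s
  · simp [wtN, wt, code, i.2]
  · simp [wtN, wt, code]

variable {D T} {F : Type*} [Field F] (hC : Certified D T)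
include hC

theorem x_entry {r : ℕ} {t : F} {a b : D.Idx} (h : (D.x F r t - 1) a b ≠ 0) :
    ∃ k : ℕ, 1 ≤ k ∧ wt D T a - wt D T b = k * T.phi r := by
  by_cases hr : r < D.nroots
  swap
  · rw [x_eq_one (by omega), sub_self] at h; exact absurd rfl h
  obtain ⟨i, hi⟩ : ∃ i, code D b = i := ⟨_, rfl⟩
  have key : ∀ c : D.Idx, (D.x F r t - 1) c b =
      ((((colD D r (code D b))).map fun e => ((e.2.2 : F) * t ^ e.2.1) • basis D F e.1).sum) c := by
    intro c
    have h1 := congrFun ((colValid (F := F) hC) r (code D b) t) c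
    rw [basis_code, Matrix.mulVec_single_one, Matrix.col_apply, col_eq hC.linked,
      Pi.add_apply] at h1
    rw [Matrix.sub_apply, h1, Pi.single_apply, Matrix.one_apply]
    by_cases hcb : c = b
    · subst hcb; simp
    · simp [hcb]
  rw [key a] at h
  have hex : ∃ e ∈ colD D r (code D b), code D a = e.1 := by
    by_contra hcon
    simp only [not_exists, not_and] at hcon
    apply h
    have : ∀ L : List (ℕ × ℕ × ℤ), (∀ e ∈ L, code D a ≠ e.1) →
        ((L.map fun e => ((e.2.2 : F) * t ^ e.2.1) • basis D F e.1).sum) a = 0 := by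
      intro L
      induction L with
      | nil => intro _; rfl
      | cons e L ih =>
        intro hL
        rw [List.map_cons, List.sum_cons, Pi.add_apply, ih fun x hx => hL x (List.mem_cons_of_mem e hx),
          Pi.smul_apply, basis, if_neg (hL e List.mem_cons_self), smul_zero, add_zero]
    exact this _ hcon
  obtain ⟨e, he, hea⟩ := hex
  suffices hs : ∀ j, ∀ e ∈ colD D r j, ∃ k : ℕ, 1 ≤ k ∧ wtN D T e.1 - wtN D T j = k * T.phi r by
    obtain ⟨k, hk, hke⟩ := hs _ e he
    rw [← hea, wtN_code, wtN_code] at hke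
    exact ⟨k, hk, hke⟩
  intro j e he
  rw [colD, colOf] at he
  by_cases h0 : (Nat.blt r D.nroots && Nat.blt j (Nat.add D.rank D.nroots)) = true
  swap
  · rw [Bool.eq_false_iff.2 h0, cond_false] at he; exact absurd he List.not_mem_nil
  rw [h0, cond_true] at he
  simp only [Bool.and_eq_true, Nat.blt_eq, Nat.add_eq] at h0
  have hwr : wtN D T (D.rank + r) = T.phi r := by simp [wtN]
  by_cases hj : j < D.rank
  · rw [show Nat.blt j D.rank = true by simp [Nat.blt_eq, hj], cond_true, nz] at he
    cases hz : isZ (-D.cartan j r) <;> rw [hz] at he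
    · rw [cond_false, List.mem_singleton] at he
      subst he
      refine ⟨1, le_rfl, ?_⟩
      show wtN D T (D.rank + r) - wtN D T j = _
      rw [hwr, wtN, if_pos hj]
      simp
    · exact absurd he List.not_mem_nil
  rw [show Nat.blt j D.rank = false by rw [Bool.eq_false_iff]; simp [Nat.blt_eq]; omega,
    cond_false] at he
  obtain ⟨s, rfl⟩ := Nat.exists_eq_add_of_le (Nat.le_of_not_lt hj)
  have hws : wtN D T (D.rank + s) = T.phi s := by simp [wtN]
  simp only [Nat.sub_eq, Nat.add_sub_cancel_left] at he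
  by_cases h1 : s = r
  · subst h1; rw [Nat.beq_refl, cond_true] at he; exact absurd he List.not_mem_nil
  rw [Bool.eq_false_iff.2 (fun hb => h1 (Nat.eq_of_beq_eq_true hb)), cond_false] at he
  rw [hws]
  by_cases h2 : s = D.neg r
  · subst h2
    rw [Nat.beq_refl, cond_true] at he
    rw [hC.phi_neg hr]
    have hcor : ∀ (c : ℕ → ℤ) (m : ℕ) (rest : List (ℕ × ℕ × ℤ)), ∀ e ∈ corTerms m c rest,
        e ∈ rest ∨ e.1 < m := by
      intro c m
      induction m with
      | zero => exact fun rest e h => Or.inl h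
      | succ m ih =>
        intro rest e he
        have he' : e ∈ bif isZ (c m) then corTerms m c rest else (m, 1, c m) :: corTerms m c rest := he
        cases hz : isZ (c m) <;> rw [hz] at he'
        · rcases List.mem_cons.1 he' with rfl | he'
          · exact Or.inr (Nat.lt_succ_self m)
          · exact (ih rest e he').imp_right Nat.lt_succ_of_lt
        · exact (ih rest e he').imp_right Nat.lt_succ_of_lt
    rcases hcor _ _ _ e he with h' | h'
    · rw [List.mem_singleton] at h'
      subst h'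
      exact ⟨2, by omega, by show wtN D T (D.rank + r) - _ = _; rw [hwr]; push_cast; ring⟩
    · exact ⟨1, le_rfl, by rw [wtN, if_pos h']; push_cast; ring⟩
  rw [Bool.eq_false_iff.2 (fun hb => h2 (Nat.eq_of_beq_eq_true hb)), cond_false] at he
  have hsteps : ∀ (L : List (ℕ × ℤ)) (k : ℕ), ∀ e ∈ steps D.rank k L,
      ∃ (m : ℕ) (q : ℕ × ℤ), L[m]? = some q ∧ e.1 = D.rank + q.1 ∧ e.2.1 = k + m := by
    intro L
    induction L with
    | nil => intro k e he; exact absurd he List.not_mem_nil
    | cons q L ih =>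
      intro k e he
      rcases List.mem_cons.1 (show e ∈ (Nat.add D.rank q.1, k, q.2) :: steps D.rank (k + 1) L from he)
        with rfl | he
      · exact ⟨0, q, rfl, rfl, rfl⟩
      · obtain ⟨m, q', h1, h2, h3⟩ := ih (k + 1) e he
        exact ⟨m + 1, q', by simpa using h1, h2, by omega⟩
  obtain ⟨m, q, hq, he1, -⟩ := hsteps _ _ e he
  refine ⟨m + 1, by omega, ?_⟩
  rw [he1, show wtN D T (D.rank + q.1) = T.phi q.1 by simp [wtN], (hC.chain_step hr hq).2.2]
  push_cast
  ring

theorem x_mem_UT {r : ℕ} (d : ℤ) (hd : 0 ≤ d) (h : d ≤ T.phi r) (t : F) :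
    xg hC r t ∈ UT (wt D T) d hd := by
  have key : ∀ u : F, Fil (wt D T) d (D.x F r u - 1) := by
    intro u a b hab
    obtain ⟨k, hk, hkd⟩ := x_entry hC hab
    rw [hkd]
    have h0 : 0 ≤ T.phi r := hd.trans h
    have h1 : (1 : ℤ) ≤ k := by exact_mod_cast hk
    calc d ≤ T.phi r := h
      _ = 1 * T.phi r := (one_mul _).symm
      _ ≤ (k : ℤ) * T.phi r := mul_le_mul_of_nonneg_right h1 h0
  exact ⟨key t, by rw [xg_inv hC]; exact key (-t)⟩

theorem x_mem_UT' {r : ℕ} (d : ℤ) (hd : 0 ≤ d) (h : d ≤ -T.phi r) (t : F) :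
    xg hC r t ∈ UT (fun i => -wt D T i) d hd := by
  have key : ∀ u : F, Fil (fun i => -wt D T i) d (D.x F r u - 1) := by
    intro u a b hab
    obtain ⟨k, hk, hkd⟩ := x_entry hC hab
    dsimp only
    have h0 : 0 ≤ -T.phi r := hd.trans h
    have h1 : (1 : ℤ) ≤ k := by exact_mod_cast hk
    calc d ≤ -T.phi r := h
      _ = 1 * -T.phi r := (one_mul _).symm
      _ ≤ (k : ℤ) * -T.phi r := mul_le_mul_of_nonneg_right h1 h0
      _ = -wt D T a - -wt D T b := by linear_combination hkd
  exact ⟨key t, by rw [xg_inv hC]; exact key (-t)⟩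

/-- The coordinate that determines the parameter of a root element. -/
theorem x_entry_cor {r : ℕ} (hr : r < D.nroots) (i : Fin D.rank) (t : F) :
    (D.x F r t - 1) (Sum.inl i) (Sum.inr ⟨D.neg r, hC.neg_lt hr⟩) = (cor D r i : F) * t := by
  have h := congrFun (x_neg (F := F) hC hr t) (Sum.inl i)
  rw [ev_eq (hC.neg_lt hr), Matrix.mulVec_single_one, Matrix.col_apply] at h
  rw [Matrix.sub_apply, h, Matrix.one_apply_ne (by simp), sub_zero]
  simp only [Pi.add_apply, Pi.sub_apply, Pi.smul_apply, ev_inl, Finset.sum_apply, smul_eq_mul,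
    mul_zero, sub_zero, Pi.single_apply, reduceCtorEq, if_false, zero_add]
  rw [Finset.sum_eq_single (i : ℕ)]
  · rw [eh_eq i.2, Pi.single_eq_same, mul_one, mul_comm]
  · intro j hj hji
    rw [eh_eq (Finset.mem_range.1 hj), Pi.single_eq_of_ne (by simp [Fin.ext_iff, Ne.symm hji]),
      mul_zero]
  · intro hi'; exact absurd (Finset.mem_range.2 i.2) hi'

theorem exists_cor_ne {r : ℕ} (hr : r < D.nroots) :
    ∃ i : Fin D.rank, (cor D r i : F) ≠ 0 := by
  by_contra hcon
  simp only [not_exists, not_not] at hcon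
  exact CharP.ringChar_ne_one (hC.cor_gcd hr (d := ringChar F) fun i hi =>
    (CharP.intCast_eq_zero_iff F _ _).1 (hcon ⟨i, hi⟩))

theorem xg_eq_xg {r s : ℕ} (hr : r < D.nroots) (hs : s < D.nroots) {t u : F} (ht : t ≠ 0)
    (h : xg hC r t = xg hC s u) : r = s := by
  have hu : u ≠ 0 := by
    rintro rfl
    rw [xg_zero hC] at h
    obtain ⟨i, hi⟩ := exists_cor_ne (F := F) hC hr
    have h2 := x_entry_cor hC hr i t
    rw [← coe_xg hC, h, Units.val_one, sub_self, Matrix.zero_apply, eq_comm, mul_eq_zero] at h2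
    exact h2.elim hi ht
  have h' : D.x F r t = D.x F s u := congrArg (fun g : GL D.Idx F => (g : Matrix D.Idx D.Idx F)) h
  obtain ⟨i, hi⟩ := exists_cor_ne (F := F) hC hr
  obtain ⟨j, hj⟩ := exists_cor_ne (F := F) hC hs
  obtain ⟨k, hk, hkr⟩ := x_entry hC (r := s) (t := u) (a := Sum.inl i)
    (b := Sum.inr ⟨D.neg r, hC.neg_lt hr⟩) (by rw [← h', x_entry_cor hC hr]; exact mul_ne_zero hi ht)
  obtain ⟨m, hm, hms⟩ := x_entry hC (r := r) (t := t) (a := Sum.inl j)
    (b := Sum.inr ⟨D.neg s, hC.neg_lt hs⟩) (by rw [h', x_entry_cor hC hs]; exact mul_ne_zero hj hu)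
  simp only [wt, Sum.elim_inl, Sum.elim_inr, hC.phi_neg hr, hC.phi_neg hs, zero_sub,
    _root_.neg_neg] at hkr hms
  refine hC.phi_inj hr hs ?_
  have h1 : ((k : ℤ) * m - 1) * T.phi r = 0 := by
    linear_combination (-(k : ℤ)) * hms - hkr
  rcases mul_eq_zero.1 h1 with h2 | h2
  · have h3 : k * m = 1 := by exact_mod_cast (by linarith : (k : ℤ) * m = 1)
    rw [Nat.eq_one_of_mul_eq_one_right h3] at hkr
    rw [hkr]; simp
  · exact absurd h2 (hC.phi_ne_zero hr)

end Cfsg.Agent.Chevalley.Weight
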