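import Cfsg.Agent.Lib.Chevalley.WeylGroup

/-!
The centre of a Weyl group and generation by a product of all fundamental reflections with few more
reflections, from tables of words.
-/

set_option autoImplicit false
set_option linter.unusedSectionVars false

namespace Cfsg.Agent.Chevalley.WeylGroup

open Cfsg.Lie Cfsg.Agent.Chevalley.Eval Cfsg.Agent.Chevalley.Table Cfsg.Agent.Chevalley.Check
  Cfsg.Agent.Chevalley.Cert Cfsg.Agent.Chevalley.Group Cfsg.Agent.Chevalley.Unip
  Cfsg.Agent.Chevalley.Borel Cfsg.Agent.Chevalley.Weyl Cfsg.Agent.Chevalley.WeylEnum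

variable {D : ChevalleyDatum} {T : Tab} (hC : Certified D T)
include hC

theorem wordG_append (L L' : List (Fin D.rank)) : wordG hC (L ++ L') = wordG hC L * wordG hC L' := by
  simp [wordG, List.map_append, List.prod_append]

theorem wordG_flatten_mem {H : Subgroup (WG hC)} : ∀ Ls : List (List (Fin D.rank)),
    (∀ b ∈ Ls, wordG hC b ∈ H) → wordG hC Ls.flatten ∈ H := by
  intro Ls
  induction Ls with
  | nil => intro _; exact one_mem H
  | cons b Ls ih =>
    intro h
    rw [List.flatten_cons, wordG_append]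
    exact mul_mem (h b List.mem_cons_self) (ih fun x hx => h x (List.mem_cons_of_mem b hx))

/-- Generation from words for the fundamental reflections in the given blocks. -/
theorem closure_eq_top (C : List (Fin D.rank)) (ts : List (Fin D.rank))
    (blocks : Fin D.rank → List (List (Fin D.rank)))
    (hb : ∀ j, ∀ b ∈ blocks j, b = C ∨ b = C.reverse ∨ ∃ t ∈ ts, b = [t])
    (hw : ∀ j k : Fin D.rank,
      actT T ((blocks j).flatten.map Fin.val) (T.simple k) = T.refl j (T.simple k)) :
    Subgroup.closure ({wordG hC C} ∪ {x | ∃ t ∈ ts, gW hC t = x}) = ⊤ := by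
  obtain ⟨H, hH⟩ : ∃ H, H = Subgroup.closure ({wordG hC C} ∪ {x | ∃ t ∈ ts, gW hC t = x}) := ⟨_, rfl⟩
  rw [← hH]
  have hc : wordG hC C ∈ H := hH ▸ Subgroup.subset_closure (Or.inl rfl)
  have hg : ∀ j, gW hC j ∈ H := by
    intro j
    have h := wordG_flatten_mem hC (H := H) (blocks j) fun b hbm => by
      rcases hb j b hbm with rfl | rfl | ⟨t, ht, rfl⟩
      · exact hc
      · rw [wordG_reverse hC C]; exact inv_mem hc
      · rw [show wordG hC [t] = gW hC t by simp [wordG], hH]
        exact Subgroup.subset_closure (Or.inr ⟨t, ht, rfl⟩)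
    rwa [show wordG hC (blocks j).flatten = wordG hC [j] from (wordG_eq_iff hC _ _).2
      (eqv_of_simple hC (valid hC _) (valid hC _) fun k hk => by
        rw [← actT_eq hC (valid hC _) (hC.simple_lt hk), ← hC.simple_eq hk, hw j ⟨k, hk⟩,
          hC.simple_eq hk, ← hC.reflect_eq j.2 (hC.simple_lt hk)]
        rfl), show wordG hC [j] = gW hC j by simp [wordG]] at h
  rw [eq_top_iff]
  rintro w -
  obtain ⟨L, rfl⟩ := gW_gen hC w
  exact list_prod_mem fun x hx => by
    obtain ⟨i, -, rfl⟩ := List.mem_map.1 hx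
    exact hg i

/-- Generation transported to the Coxeter group. -/
theorem coxeter_gen {M : CoxeterMatrix (Fin D.rank)} (e : WG hC ≃* M.Group)
    (he : ∀ i, e (gW hC i) = M.simple i) (C : List (Fin D.rank)) (ts : List (Fin D.rank))
    (hts : ts.Nodup) (blocks : Fin D.rank → List (List (Fin D.rank)))
    (hb : ∀ j, ∀ b ∈ blocks j, b = C ∨ b = C.reverse ∨ ∃ t ∈ ts, b = [t])
    (hw : ∀ j k : Fin D.rank,
      actT T ((blocks j).flatten.map Fin.val) (T.simple k) = T.refl j (T.simple k)) :
    ∃ S : Finset M.Group, S.card = ts.length ∧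
      (∀ t ∈ S, ∃ (g : M.Group) (i : Fin D.rank), t = g * M.simple i * g⁻¹) ∧
      Subgroup.closure (({(C.map M.simple).prod} : Set M.Group) ∪ ↑S) = ⊤ := by
  classical
  have hinj : Function.Injective M.simple := fun a b h =>
    gW_injective hC (e.injective (by rw [he, he, h]))
  refine ⟨ts.toFinset.image M.simple, ?_, fun t ht => ?_, ?_⟩
  · rw [Finset.card_image_of_injective _ hinj, List.toFinset_card_of_nodup hts]
  · obtain ⟨i, -, rfl⟩ := Finset.mem_image.1 ht
    exact ⟨1, i, by rw [one_mul, inv_one, mul_one]⟩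
  · have h := congrArg (Subgroup.map e.toMonoidHom) (closure_eq_top hC C ts blocks hb hw)
    rw [MonoidHom.map_closure, Subgroup.map_top_of_surjective _ e.surjective] at h
    rw [← h]
    congr 1
    rw [Set.image_union, Set.image_singleton]
    congr 1
    · rw [show e.toMonoidHom (wordG hC C) = e (wordG hC C) from rfl, wordG, map_list_prod,
        List.map_map]
      congr 2
      exact List.map_congr_left fun i _ => (he i).symm
    · ext x
      simp only [Finset.coe_image, Set.mem_image, Finset.mem_coe, List.mem_toFinset, Set.mem_setOf_eq]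
      constructor
      · rintro ⟨t, ht, rfl⟩; exact ⟨_, ⟨t, ht, rfl⟩, he t⟩
      · rintro ⟨y, ⟨t, ht, rfl⟩, rfl⟩; exact ⟨t, ht, (he t).symm⟩

theorem central_comm {L : List (Fin D.rank)} (hz : wordG hC L ∈ Subgroup.center (WG hC))
    (g : List (Fin D.rank)) {r : ℕ} (hr : r < D.nroots) :
    wL D (L.map Fin.val) (wL D (g.map Fin.val) r) = wL D (g.map Fin.val) (wL D (L.map Fin.val) r) := by
  have h := Subgroup.mem_center_iff.1 hz (wordG hC g)
  rw [← wordG_append, ← wordG_append, wordG_eq_iff] at h
  have h1 := h r hr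
  rw [List.map_append, List.map_append, wL_append, wL_append] at h1
  exact h1.symm

/-- A central element maps every fundamental root to itself or to its negative. -/
theorem central_simple {L : List (Fin D.rank)} (hz : wordG hC L ∈ Subgroup.center (WG hC))
    (hfix : ∀ i < D.rank, ∀ r < T.n,
      T.refl i r = T.neg r → r = T.simple i ∨ r = T.neg (T.simple i)) (j : Fin D.rank) :
    wL D (L.map Fin.val) (D.simple j) = D.simple j ∨
      wL D (L.map Fin.val) (D.simple j) = D.neg (D.simple j) := by
  have hs := hC.simple_lt j.2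
  have hr := wL_lt hC (valid hC L) hs
  have h := central_comm hC hz [j] hs
  rw [show ∀ r, wL D ([j].map Fin.val) r = D.reflectRoot j r from fun r => rfl,
    hC.reflect_simple j.2, wL_neg hC (valid hC L) hs] at h
  have h1 := hfix j j.2 _ (by rw [hC.n_eq]; exact hr)
    (by rw [← hC.reflect_eq j.2 hr, hC.neg_eq hr]; exact h.symm)
  rwa [hC.simple_eq j.2, hC.neg_eq hs] at h1

/-- The sign of a central element is constant on each orbit of roots. -/
theorem central_sign {L : List (Fin D.rank)} (hz : wordG hC L ∈ Subgroup.center (WG hC))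
    (g : List (Fin D.rank)) {a r : ℕ} (ha : a < D.nroots)
    (hg : wL D (g.map Fin.val) a = r ∨ wL D (g.map Fin.val) a = D.neg r) (hr : r < D.nroots) :
    (wL D (L.map Fin.val) a = a → wL D (L.map Fin.val) r = r) ∧
      (wL D (L.map Fin.val) a = D.neg a → wL D (L.map Fin.val) r = D.neg r) := by
  have h := central_comm hC hz g ha
  constructor <;> intro hf <;> rw [hf] at h
  · rcases hg with e | e <;> rw [e] at h
    · exact h
    · rw [wL_neg hC (valid hC L) hr] at h
      have := congrArg D.neg h
      rwa [hC.neg_neg (wL_lt hC (valid hC L) hr), hC.neg_neg hr] at this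
  · rw [wL_neg hC (valid hC g) ha] at h
    rcases hg with e | e <;> rw [e] at h
    · exact h
    · rw [wL_neg hC (valid hC L) hr] at h
      have := congrArg D.neg h
      rwa [hC.neg_neg (wL_lt hC (valid hC L) hr), hC.neg_neg (hC.neg_lt hr)] at this

/-- A Weyl group element cannot fix `k = a + b` and negate `a` and `b`, or conversely. -/
theorem mixed_false {L : List ℕ} (hL : ∀ i ∈ L, i < D.rank) {a b k i₀ : ℕ} (ha : a < D.nroots)
    (hb : b < D.nroots) (hk : k < D.nroots) (hi₀ : i₀ < D.rank)
    (hadd : ∀ i < D.rank, D.cartan i k = D.cartan i a + D.cartan i b) (hne : D.cartan i₀ k ≠ 0)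
    (h : (wL D L a = D.neg a ∧ wL D L b = D.neg b ∧ wL D L k = k) ∨
      (wL D L a = a ∧ wL D L b = b ∧ wL D L k = D.neg k)) : False := by
  obtain ⟨c, hc⟩ : ∃ c : ℕ → ℚˣ, c = fun i => if i = i₀ then Units.mk0 2 two_ne_zero else 1 :=
    ⟨_, rfl⟩
  obtain ⟨c', hc'⟩ := nL_conj_tor (F := ℚ) hC hL c
  have key : ∀ r, r < D.nroots → torChar D c' (wL D L r) = torChar D c r := by
    intro r hr
    obtain ⟨η, hη, e⟩ := nL_conj_x (F := ℚ) hC hL hr
    have e1 : tor D c' * (nL hC ℚ L * xg hC r 1 * (nL hC ℚ L)⁻¹) * (tor D c')⁻¹ =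
        nL hC ℚ L * (tor D c * xg hC r 1 * (tor D c)⁻¹) * (nL hC ℚ L)⁻¹ := by
      have e0 : tor D c' = nL hC ℚ L * tor D c * (nL hC ℚ L)⁻¹ := by
        rw [hc', mul_inv_cancel_right]
      rw [e0]
      group
    rw [e, tor_conj_x hC c r 1 hr, e, tor_conj_x hC c' _ _ (wL_lt hC hL hr)] at e1
    have e2 := xg_injective hC (wL_lt hC hL hr) e1
    rw [mul_one, mul_one, mul_comm η] at e2
    exact Units.ext (mul_right_cancel₀ hη e2)
  have hneg : ∀ (d : ℕ → ℚˣ) r, r < D.nroots → torChar D d (D.neg r) = (torChar D d r)⁻¹ := by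
    intro d r hr
    rw [torChar, torChar, ← Finset.prod_inv_distrib]
    exact Finset.prod_congr rfl fun i hi => by
      rw [hC.cartan_neg hr (Finset.mem_range.1 hi), zpow_neg]
  have hmul : ∀ d : ℕ → ℚˣ, torChar D d k = torChar D d a * torChar D d b := by
    intro d
    rw [torChar, torChar, torChar, ← Finset.prod_mul_distrib]
    exact Finset.prod_congr rfl fun i hi => by rw [hadd i (Finset.mem_range.1 hi), zpow_add]
  have hsq : torChar D c k * torChar D c k = 1 := by
    have ka := key a ha
    have kb := key b hb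
    have kk := key k hk
    rcases h with ⟨e1, e2, e3⟩ | ⟨e1, e2, e3⟩
    · rw [e1, hneg _ _ ha, inv_eq_iff_eq_inv] at ka
      rw [e2, hneg _ _ hb, inv_eq_iff_eq_inv] at kb
      rw [e3] at kk
      rw [hmul c', ka, kb, ← mul_inv, ← hmul c] at kk
      nth_rw 1 [← kk]
      exact inv_mul_cancel _
    · rw [e1] at ka
      rw [e2] at kb
      rw [e3, hneg _ _ hk, hmul c', ka, kb, ← hmul c] at kk
      nth_rw 1 [← kk]
      exact inv_mul_cancel _
  have hval : torChar D c k = (Units.mk0 (2 : ℚ) two_ne_zero) ^ D.cartan i₀ k := by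
    rw [torChar, Finset.prod_eq_single i₀ (fun i _ hne' => by simp [hc, hne'])
      (fun h0 => absurd (Finset.mem_range.2 hi₀) h0)]
    simp [hc]
  rw [hval, ← zpow_add] at hsq
  have h2 := congrArg Units.val hsq
  rw [Units.val_zpow_eq_zpow_val, Units.val_one, Units.val_mk0,
    zpow_eq_one_iff_right₀ (by norm_num) (by norm_num)] at h2
  omega

/-- A central element is trivial or negates all fundamental roots. -/
theorem central_cases {L : List (Fin D.rank)} (hz : wordG hC L ∈ Subgroup.center (WG hC))
    (hfix : ∀ i < D.rank, ∀ r < T.n,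
      T.refl i r = T.neg r → r = T.simple i ∨ r = T.neg (T.simple i))
    (i₁ i₂ : Fin D.rank) (orb : Fin D.rank → List (Fin D.rank))
    (horb : ∀ j : Fin D.rank, (actT T ((orb j).map Fin.val) (T.simple i₁) = T.simple j ∨
        actT T ((orb j).map Fin.val) (T.simple i₁) = T.neg (T.simple j)) ∨
      (actT T ((orb j).map Fin.val) (T.simple i₂) = T.simple j ∨
        actT T ((orb j).map Fin.val) (T.simple i₂) = T.neg (T.simple j)))
    (hmix : ((wL D (L.map Fin.val) (D.simple i₁) = D.simple i₁ →
        wL D (L.map Fin.val) (D.simple i₂) = D.neg (D.simple i₂) → False) ∧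
      (wL D (L.map Fin.val) (D.simple i₁) = D.neg (D.simple i₁) →
        wL D (L.map Fin.val) (D.simple i₂) = D.simple i₂ → False))) :
    wordG hC L = 1 ∨
      ∀ j : Fin D.rank, wL D (L.map Fin.val) (D.simple j) = D.neg (D.simple j) := by
  have hsign : ∀ j : Fin D.rank, ∃ i : Fin D.rank, (i = i₁ ∨ i = i₂) ∧
      (wL D (L.map Fin.val) (D.simple i) = D.simple i →
        wL D (L.map Fin.val) (D.simple j) = D.simple j) ∧
      (wL D (L.map Fin.val) (D.simple i) = D.neg (D.simple i) →
        wL D (L.map Fin.val) (D.simple j) = D.neg (D.simple j)) := by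
    intro j
    have hj := hC.simple_lt j.2
    rcases horb j with h | h <;>
      rw [hC.simple_eq j.2, hC.neg_eq hj, hC.simple_eq (Fin.is_lt _),
        actT_eq hC (valid hC _) (hC.simple_lt (Fin.is_lt _))] at h
    · exact ⟨i₁, Or.inl rfl, central_sign hC hz _ (hC.simple_lt i₁.2) h hj⟩
    · exact ⟨i₂, Or.inr rfl, central_sign hC hz _ (hC.simple_lt i₂.2) h hj⟩
  rcases central_simple hC hz hfix i₁ with h1 | h1
  · left
    have h2 : wL D (L.map Fin.val) (D.simple i₂) = D.simple i₂ :=
      (central_simple hC hz hfix i₂).resolve_right fun e => hmix.1 h1 e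
    refine eq_one_of_simples hC _ fun k hk _ => ?_
    rw [wordG_apply]
    obtain ⟨i, hi, hp, -⟩ := hsign ⟨k, hk⟩
    rcases hi with rfl | rfl
    · exact hp h1
    · exact hp h2
  · right
    have h2 : wL D (L.map Fin.val) (D.simple i₂) = D.neg (D.simple i₂) :=
      (central_simple hC hz hfix i₂).resolve_left fun e => hmix.2 h1 e
    intro j
    obtain ⟨i, hi, -, hn⟩ := hsign j
    rcases hi with rfl | rfl
    · exact hn h1
    · exact hn h2

/-- The centre consists of one and a power of `wordG C` negating all roots. -/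
theorem center_of_cases (C : List (Fin D.rank)) (k : ℕ)
    (hneg : ∀ j : Fin D.rank,
      actT T ((List.replicate k C).flatten.map Fin.val) (T.simple j) = T.neg (T.simple j))
    (hcomm : ∀ i j : Fin D.rank,
      actT T ((List.replicate k C).flatten.map Fin.val) (T.refl i (T.simple j)) =
        T.refl i (actT T ((List.replicate k C).flatten.map Fin.val) (T.simple j)))
    (hpos : 0 < D.rank)
    (hcases : ∀ L : List (Fin D.rank), wordG hC L ∈ Subgroup.center (WG hC) → wordG hC L = 1 ∨
      ∀ j : Fin D.rank, wL D (L.map Fin.val) (D.simple j) = D.neg (D.simple j)) :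
    Nat.card (Subgroup.center (WG hC)) = 2 ∧
      Subgroup.center (WG hC) ≤ Subgroup.zpowers (wordG hC C) := by
  obtain ⟨W, hW⟩ : ∃ W, W = (List.replicate k C).flatten := ⟨_, rfl⟩
  have hWpow : wordG hC W = wordG hC C ^ k := by
    rw [hW]
    clear hneg hcomm hW
    induction k with
    | zero => rfl
    | succ k ih => rw [List.replicate_succ, List.flatten_cons, wordG_append, ih, pow_succ']
  rw [← hW] at hneg hcomm
  have hWs : ∀ j : Fin D.rank, wL D (W.map Fin.val) (D.simple j) = D.neg (D.simple j) := fun j => by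
    rw [← actT_eq hC (valid hC W) (hC.simple_lt j.2), ← hC.simple_eq j.2, hneg j, hC.simple_eq j.2,
      hC.neg_eq (hC.simple_lt j.2)]
  have hgen : ∀ i : Fin D.rank, gW hC i * wordG hC W = wordG hC W * gW hC i := by
    intro i
    rw [show gW hC i = wordG hC [i] by simp [wordG], ← wordG_append, ← wordG_append, wordG_eq_iff]
    refine eqv_of_simple hC (valid hC _) (valid hC _) fun j hj => ?_
    have hs := hC.simple_lt hj
    rw [List.map_append, List.map_append, wL_append, wL_append]
    have h := hcomm i ⟨j, hj⟩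
    rw [hC.simple_eq hj, ← hC.reflect_eq i.2 hs,
      actT_eq hC (valid hC W) (hC.reflect_lt i.2 hs), actT_eq hC (valid hC W) hs,
      ← hC.reflect_eq i.2 (wL_lt hC (valid hC W) hs)] at h
    exact h.symm
  have hWc : wordG hC W ∈ Subgroup.center (WG hC) := by
    rw [Subgroup.mem_center_iff]
    intro w
    obtain ⟨L, rfl⟩ := gW_gen hC w
    exact Commute.list_prod_left _ _ fun x hx => by
      obtain ⟨i, -, rfl⟩ := List.mem_map.1 hx
      exact hgen i
  have hne : wordG hC W ≠ 1 := by
    intro h
    rw [show (1 : WG hC) = wordG hC [] from rfl, wordG_eq_iff] at h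
    have h1 := h (D.simple (⟨0, hpos⟩ : Fin D.rank)) (hC.simple_lt hpos)
    rw [hWs] at h1
    exact hC.neg_ne (hC.simple_lt hpos) h1
  have hmul : ∀ L : List (Fin D.rank),
      (∀ j : Fin D.rank, wL D (L.map Fin.val) (D.simple j) = D.neg (D.simple j)) →
      wordG hC L * wordG hC W = 1 := fun L hL => by
    refine eq_one_of_simples hC _ fun j hj _ => ?_
    rw [← wordG_append, wordG_apply, List.map_append, wL_append]
    show wL D (L.map Fin.val) (wL D (W.map Fin.val) (D.simple (⟨j, hj⟩ : Fin D.rank))) = _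
    rw [hWs, wL_neg hC (valid hC L) (hC.simple_lt hj), hL ⟨j, hj⟩, hC.neg_neg (hC.simple_lt hj)]
  have hsq : wordG hC W * wordG hC W = 1 := hmul W hWs
  have hle : Subgroup.center (WG hC) = Subgroup.zpowers (wordG hC W) := by
    refine le_antisymm (fun z hz => ?_) (Subgroup.zpowers_le.2 hWc)
    obtain ⟨L, rfl⟩ := gW_gen hC z
    rcases hcases L hz with h | h
    · rw [h]; exact one_mem _
    · rw [mul_eq_one_iff_eq_inv.1 (hmul L h)]
      exact inv_mem (Subgroup.mem_zpowers _)
  refine ⟨?_, ?_⟩
  · rw [hle, Nat.card_zpowers]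
    exact orderOf_eq_prime (by rw [sq, hsq]) hne
  · rw [hle, Subgroup.zpowers_le, hWpow]
    exact pow_mem (Subgroup.mem_zpowers _) k

/-- Transport of the statement about the centre. -/
theorem coxeter_center {M : CoxeterMatrix (Fin D.rank)} (e : WG hC ≃* M.Group)
    (he : ∀ i, e (gW hC i) = M.simple i) (C : List (Fin D.rank)) {n : ℕ}
    (h : Nat.card (Subgroup.center (WG hC)) = n ∧
      Subgroup.center (WG hC) ≤ Subgroup.zpowers (wordG hC C)) :
    Nat.card (Subgroup.center M.Group) = n ∧
      Subgroup.center M.Group ≤ Subgroup.zpowers (C.map M.simple).prod := by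
  refine ⟨by rw [← h.1]; exact (Nat.card_congr (Subgroup.centerCongr e).toEquiv).symm, ?_⟩
  intro z hz
  have h1 : e.symm z ∈ Subgroup.center (WG hC) := by
    rw [Subgroup.mem_center_iff] at hz ⊢
    intro w
    refine e.injective ?_
    rw [map_mul, map_mul, e.apply_symm_apply, hz]
  obtain ⟨k, hk⟩ := Subgroup.mem_zpowers_iff.1 (h.2 h1)
  refine Subgroup.mem_zpowers_iff.2 ⟨k, ?_⟩
  have he' : (C.map M.simple).prod = e (wordG hC C) := by
    rw [wordG, map_list_prod, List.map_map]
    congr 1
    exact List.map_congr_left fun i _ => (he i).symm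
  rw [he', ← map_zpow, hk, e.apply_symm_apply]

end Cfsg.Agent.Chevalley.WeylGroup
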